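/-
Helper14 library (LCF): two general lemmas.
* `mem_smul_ker_sup_of_flat_quot`: for a surjection `ψ : X → N` onto a module flat over `D/I₀`,
  `ker ψ ∩ 𝔞 X ⊆ 𝔞 ker ψ + I₀ X`.
* `exists_kill_of_smul_le`: Cayley–Hamilton form of Nakayama: if `s N ⊆ I N` for a finite module
  `N`, then some `r ≡ s^d mod I` kills `N`.
-/
import Mathlib

set_option autoImplicit false
universe u
open TensorProduct

namespace Groth.Agent.Lib.Helper14.LCF

theorem mem_smul_ker_sup_of_flat_quot {D : Type*} [CommRing D] (I₀ : Ideal D) {X N : Type*}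
    [AddCommGroup X] [Module D X] [AddCommGroup N] [Module D N] [Module (D ⧸ I₀) N]
    [IsScalarTower D (D ⧸ I₀) N] [Module.Flat (D ⧸ I₀) N] (ψ : X →ₗ[D] N)
    (hψ : Function.Surjective ψ) (𝔞 : Ideal D) {x : X} (hxK : x ∈ LinearMap.ker ψ)
    (hx : x ∈ 𝔞 • (⊤ : Submodule D X)) :
    x ∈ 𝔞 • LinearMap.ker ψ ⊔ I₀ • (⊤ : Submodule D X) := by
  classical
  have hspan : (⊤ : Submodule D X) = Submodule.span D (Set.range (id : X → X)) := by
    rw [Set.range_id, Submodule.span_univ]
  rw [hspan, Submodule.mem_ideal_smul_span_iff_exists_sum] at hx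
  obtain ⟨a, haI, hax⟩ := hx
  have hmk : ∀ (c : D) (v : N), (Ideal.Quotient.mk I₀ c) • v = c • v := fun c v =>
    algebraMap_smul (D ⧸ I₀) c v
  have h0 : ∑ i : a.support, (Ideal.Quotient.mk I₀ (a i.1)) • ψ i.1 = 0 := by
    have h1 : ψ x = 0 := hxK
    rw [← hax, Finsupp.sum, map_sum] at h1
    rw [← h1, ← Finset.sum_coe_sort a.support (fun i => ψ (a i • id i))]
    refine Finset.sum_congr rfl (fun i _ => ?_)
    rw [hmk, map_smul]
    rfl
  obtain ⟨k, c, y, hxy, hc⟩ := Module.Flat.isTrivialRelation_of_sum_smul_eq_zero h0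
  choose g hg using fun j => hψ (y j)
  choose c' hc' using fun (i : a.support) (j : Fin k) => Ideal.Quotient.mk_surjective (c i j)
  have hk : ∀ i : a.support, (i.1 - ∑ j, c' i j • g j) ∈ LinearMap.ker ψ := by
    intro i
    rw [LinearMap.mem_ker, map_sub, map_sum, sub_eq_zero]
    have h3 := hxy i
    simp only at h3
    rw [h3]
    refine Finset.sum_congr rfl (fun j _ => ?_)
    rw [map_smul, hg, ← hc' i j, hmk]
  have hI₀ : ∀ j, ∑ i : a.support, a i.1 * c' i j ∈ I₀ := by
    intro j
    rw [← Ideal.Quotient.eq_zero_iff_mem, map_sum]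
    have := hc j
    simp_rw [map_mul, hc']
    exact this
  have hsum : x = ∑ i : a.support, a i.1 • (i.1 - ∑ j, c' i j • g j) +
      ∑ j, (∑ i : a.support, a i.1 * c' i j) • g j := by
    have h2 : ∑ i : a.support, a i.1 • (∑ j, c' i j • g j) =
        ∑ j, (∑ i : a.support, a i.1 * c' i j) • g j := by
      simp_rw [Finset.smul_sum, smul_smul, Finset.sum_smul]
      rw [Finset.sum_comm]
    simp_rw [smul_sub]
    rw [Finset.sum_sub_distrib, h2, sub_add_cancel, ← hax, Finsupp.sum,
      ← Finset.sum_coe_sort a.support (fun i => a i • id i)]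
    rfl
  rw [hsum]
  exact Submodule.add_mem_sup
    (Submodule.sum_mem _ (fun i _ => Submodule.smul_mem_smul (haI i.1) (hk i)))
    (Submodule.sum_mem _ (fun j _ => Submodule.smul_mem_smul (hI₀ j) Submodule.mem_top))

theorem exists_kill_of_smul_le {P : Type*} [CommRing P] {N : Type*} [AddCommGroup N] [Module P N]
    [Module.Finite P N] (I : Ideal P) (s : P)
    (h : ∀ n : N, s • n ∈ I • (⊤ : Submodule P N)) :
    ∃ (r : P) (d : ℕ), r - s ^ d ∈ I ∧ ∀ n : N, r • n = 0 := by
  let f : Module.End P N := algebraMap P (Module.End P N) s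
  have hf : LinearMap.range f ≤ I • ⊤ := by
    rintro _ ⟨n, rfl⟩
    exact h n
  obtain ⟨p, hmonic, -, hcoeff, hp⟩ :=
    LinearMap.exists_monic_and_natDegree_eq_and_coeff_mem_pow_and_aeval_eq_zero P f I hf
  refine ⟨p.eval s, p.natDegree, ?_, ?_⟩
  · rw [Polynomial.eval_eq_sum_range, Finset.sum_range_succ, hmonic.coeff_natDegree, one_mul,
      add_sub_cancel_right]
    refine Ideal.sum_mem _ (fun i hi => ?_)
    have hi' := Finset.mem_range.1 hi
    exact Ideal.mul_mem_right _ _ (Ideal.pow_le_self (by omega) (hcoeff i))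
  · intro n
    have h1 : Polynomial.aeval f p = algebraMap P (Module.End P N) (p.eval s) := by
      rw [Polynomial.aeval_algebraMap_apply, Polynomial.coe_aeval_eq_eval]
    rw [h1] at hp
    have := congrArg (fun φ => φ n) hp
    simpa using this

end Groth.Agent.Lib.Helper14.LCF
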