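/-
Helper14 library (LCF): bridge between Tor-vanishing in the form "`I ⊗ W → W` injective" and the
elementwise form `K ∩ I F ⊆ I K` for a flat presentation `W = F/K`, also after localization.
-/
import Groth.Agent.Lib.Helper14.FlatOpen.Open

set_option autoImplicit false
universe u
open TensorProduct

namespace Groth.Agent.Lib.Helper14.LCF
open Groth.Agent.Lib.Helper14.FlatStage Groth.Agent.Lib.Helper14.FlatOpen

section G1
variable {A : Type u} [CommRing A] {F W : Type u} [AddCommGroup F] [Module A F]
  [AddCommGroup W] [Module A W]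

/-- Tor-vanishing for `W = F / ker π` with `F` flat, elementwise. -/
theorem rTensor_injective_iff_of_surjective [Module.Flat A F] (π : F →ₗ[A] W)
    (hπ : Function.Surjective π) (I : Ideal A) :
    Function.Injective (I.subtype.rTensor W) ↔
      ∀ x ∈ LinearMap.ker π, x ∈ I • (⊤ : Submodule A F) → x ∈ I • LinearMap.ker π := by
  have hex : Function.Exact (LinearMap.ker π).subtype π := LinearMap.exact_subtype_ker_map π
  rw [← lTensor_quot_injective_iff (LinearMap.ker π) I]
  constructor
  · intro h
    exact Helper8.lTensor_quotient_injective I (LinearMap.ker π).subtype π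
      (Submodule.subtype_injective _) hex hπ h
  · intro h1
    exact Helper8.injective_of_three_by_three (R := A)
      (I.subtype.rTensor (LinearMap.ker π)) (I.mkQ.rTensor (LinearMap.ker π))
      (I.subtype.rTensor F) (I.mkQ.rTensor F)
      (I.subtype.rTensor W)
      ((LinearMap.ker π).subtype.lTensor I) (π.lTensor I)
      ((LinearMap.ker π).subtype.lTensor A) (π.lTensor A)
      ((LinearMap.ker π).subtype.lTensor (A ⧸ I))
      (by rw [LinearMap.lTensor_comp_rTensor, LinearMap.rTensor_comp_lTensor])
      (by rw [LinearMap.lTensor_comp_rTensor, LinearMap.rTensor_comp_lTensor])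
      (by rw [LinearMap.lTensor_comp_rTensor, LinearMap.rTensor_comp_lTensor])
      (LinearMap.lTensor_surjective I hπ)
      (fun x => (lTensor_exact I hex hπ).apply_apply_eq_zero x)
      (lTensor_exact A hex hπ)
      (rTensor_exact (LinearMap.ker π) (LinearMap.exact_subtype_mkQ I)
        (Submodule.mkQ_surjective I))
      (fun x => (rTensor_exact F (LinearMap.exact_subtype_mkQ I)
        (Submodule.mkQ_surjective I)).apply_apply_eq_zero x)
      (Module.Flat.rTensor_preserves_injective_linearMap _ (Submodule.subtype_injective _))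
      h1

/-- Tor-vanishing is invariant under linear equivalences. -/
theorem rTensor_injective_of_linearEquiv {W' : Type u} [AddCommGroup W'] [Module A W']
    (e : W ≃ₗ[A] W') (I : Ideal A) (h : Function.Injective (I.subtype.rTensor W)) :
    Function.Injective (I.subtype.rTensor W') := by
  have hc : (e.symm.toLinearMap.lTensor A) ∘ₗ (I.subtype.rTensor W') =
      (I.subtype.rTensor W) ∘ₗ (e.symm.toLinearMap.lTensor I) := by
    rw [LinearMap.lTensor_comp_rTensor, LinearMap.rTensor_comp_lTensor]
  rw [injective_iff_map_eq_zero]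
  intro x hx
  have h1 := congrArg (fun φ => φ x) hc
  simp only [LinearMap.comp_apply] at h1
  rw [hx, map_zero] at h1
  have h2 := (injective_iff_map_eq_zero _).1 h _ h1.symm
  exact (LinearEquiv.lTensor (↥I) e.symm).injective (by rw [map_zero]; exact h2)

end G1

section Loc
variable {A P : Type u} [CommRing A] [CommRing P] [Algebra A P] {F : Type u} [AddCommGroup F]
  [Module A F] [Module P F] [IsScalarTower A P F]

/-- `I K` is stable under multiplication by `P`. -/
theorem smul_mem_ideal_smul_restrict (K : Submodule P F) (I : Ideal A) (s : P) {x : F}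
    (hx : x ∈ I • K.restrictScalars A) : s • x ∈ I • K.restrictScalars A := by
  refine Submodule.smul_induction_on hx ?_ ?_
  · intro c hc w hw
    rw [smul_comm]
    exact Submodule.smul_mem_smul hc (K.smul_mem s hw)
  · intro v w hv hw
    rw [smul_add]
    exact add_mem hv hw

/-- **bridge**: Tor-vanishing for the localization of `F/K`, elementwise with denominators. -/
theorem rTensor_injective_localized_iff [Module.Flat A F] (K : Submodule P F) (T : Submonoid P)
    (I : Ideal A) :
    Function.Injective (I.subtype.rTensor (LocalizedModule T (F ⧸ K))) ↔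
      ∀ z ∈ K, z ∈ I • (⊤ : Submodule A F) → ∃ t ∈ T, t • z ∈ I • K.restrictScalars A := by
  set ℓF := LocalizedModule.mkLinearMap T F with hℓF
  set ℓW := LocalizedModule.mkLinearMap T (F ⧸ K) with hℓW
  set πT : LocalizedModule T F →ₗ[P] LocalizedModule T (F ⧸ K) :=
    IsLocalizedModule.map T ℓF ℓW K.mkQ with hπT
  have hsurj : Function.Surjective (πT.restrictScalars A) :=
    IsLocalizedModule.map_surjective T ℓF ℓW K.mkQ (Submodule.mkQ_surjective K)
  haveI : Module.Flat A (LocalizedModule T F) := flat_of_isLocalizedModule T ℓF inferInstance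
  rw [rTensor_injective_iff_of_surjective (πT.restrictScalars A) hsurj I]
  have k1 : ∀ x, πT x = 0 → ∃ k ∈ K, ∃ t : T, x = IsLocalizedModule.mk' ℓF k t := by
    intro x hx
    obtain ⟨⟨f, t⟩, rfl⟩ := IsLocalizedModule.mk'_surjective T ℓF x
    simp only [Function.uncurry_apply_pair] at hx ⊢
    rw [hπT, IsLocalizedModule.map_mk', IsLocalizedModule.mk'_eq_zero'] at hx
    obtain ⟨s, hs⟩ := hx
    have hsf : (s : P) • f ∈ K := by
      rw [← Submodule.Quotient.mk_eq_zero, Submodule.Quotient.mk_smul]
      exact hs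
    refine ⟨(s : P) • f, hsf, s * t, ?_⟩
    rw [← Submonoid.smul_def, IsLocalizedModule.mk'_cancel_left]
  have k2 : ∀ (t : T), ∀ k' ∈ I • K.restrictScalars A,
      IsLocalizedModule.mk' ℓF k' t ∈ I • LinearMap.ker (πT.restrictScalars A) := by
    intro t k' hk'
    let g : F →ₗ[A] LocalizedModule T F :=
      { toFun := fun m => IsLocalizedModule.mk' ℓF m t
        map_add' := fun m₁ m₂ => IsLocalizedModule.mk'_add _ m₁ m₂ t
        map_smul' := fun c m => IsLocalizedModule.mk'_smul _ c m t }
    have hg : ∀ k ∈ K, g k ∈ LinearMap.ker (πT.restrictScalars A) := by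
      intro k hk
      rw [LinearMap.mem_ker]
      show πT (IsLocalizedModule.mk' ℓF k t) = 0
      rw [hπT, IsLocalizedModule.map_mk', Submodule.mkQ_apply,
        (Submodule.Quotient.mk_eq_zero K).2 hk, IsLocalizedModule.mk'_zero]
    have h1 : g k' ∈ (I • K.restrictScalars A).map g := ⟨k', hk', rfl⟩
    rw [Submodule.map_smul''] at h1
    refine Submodule.smul_mono le_rfl ?_ h1
    rintro _ ⟨k, hk, rfl⟩
    exact hg k hk
  have k3 : ∀ y ∈ I • LinearMap.ker (πT.restrictScalars A),
      ∃ k' ∈ I • K.restrictScalars A, ∃ t : T, y = IsLocalizedModule.mk' ℓF k' t := by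
    intro y hy
    refine Submodule.smul_induction_on hy ?_ ?_
    · intro c hc x hx
      obtain ⟨k, hk, t, rfl⟩ := k1 x hx
      exact ⟨c • k, Submodule.smul_mem_smul hc hk, t, (IsLocalizedModule.mk'_smul _ c k t).symm⟩
    · rintro y₁ y₂ ⟨k₁, hk₁, t₁, rfl⟩ ⟨k₂, hk₂, t₂, rfl⟩
      refine ⟨(t₂ : P) • k₁ + (t₁ : P) • k₂,
        add_mem (smul_mem_ideal_smul_restrict K I _ hk₁) (smul_mem_ideal_smul_restrict K I _ hk₂),
        t₁ * t₂, ?_⟩
      rw [IsLocalizedModule.mk'_add_mk']
      rfl
  constructor
  · intro h z hzK hzI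
    have h1 : ℓF z ∈ LinearMap.ker (πT.restrictScalars A) := by
      rw [LinearMap.mem_ker]
      show πT (ℓF z) = 0
      rw [hπT, IsLocalizedModule.map_apply, Submodule.mkQ_apply,
        (Submodule.Quotient.mk_eq_zero K).2 hzK, map_zero]
    have h2 : ℓF z ∈ I • (⊤ : Submodule A (LocalizedModule T F)) :=
      mem_smul_top_of_linearMap (ℓF.restrictScalars A) I hzI
    obtain ⟨k', hk', t, ht⟩ := k3 _ (h _ h1 h2)
    have h3 : ℓF ((t : P) • z) = ℓF k' := by
      rw [map_smul, ht, ← Submonoid.smul_def, IsLocalizedModule.mk'_cancel']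
    obtain ⟨u, hu⟩ := IsLocalizedModule.exists_of_eq (S := T) (f := ℓF) h3
    refine ⟨u * t, (u * t).2, ?_⟩
    have h4 : ((u : P) * (t : P)) • z = (u : P) • k' := by
      rw [mul_smul]
      exact hu
    rw [h4]
    exact smul_mem_ideal_smul_restrict K I _ hk'
  · intro h x hxK hxI
    obtain ⟨k, hk, t, rfl⟩ := k1 x hxK
    have h1 : ℓF k ∈ I • (⊤ : Submodule A (LocalizedModule T F)) := by
      have := smul_mem_ideal_smul_top I (t : P) hxI
      rwa [← Submonoid.smul_def, IsLocalizedModule.mk'_cancel'] at this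
    obtain ⟨u, hu, huk⟩ := exists_smul_mem_of_map_mem T ℓF I k h1
    obtain ⟨t', ht', h2⟩ := h (u • k) (K.smul_mem u hk) huk
    have h3 : IsLocalizedModule.mk' ℓF k t =
        IsLocalizedModule.mk' ℓF (t' • u • k) ((⟨t', ht'⟩ : T) * (⟨u, hu⟩ * t)) := by
      rw [show t' • u • k = (⟨t', ht'⟩ : T) • ((⟨u, hu⟩ : T) • k) from rfl,
        IsLocalizedModule.mk'_cancel_left, IsLocalizedModule.mk'_cancel_left]
    rw [h3]
    exact k2 _ _ h2

end Loc

end Groth.Agent.Lib.Helper14.LCF
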