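/-
Helper14 library (LCF): the local elementwise Tor-vanishing condition `TVloc` for the model module
at a prime of the polynomial ring, its relation with `I ⊗ M_Q → M_Q` injective, and its passage to
a quotient of the base ring.
-/
import Groth.Agent.Lib.Helper14.LCF.Bridge

set_option autoImplicit false
universe u
open TensorProduct
attribute [local instance] MvPolynomial.algebraMvPolynomial

namespace Groth.Agent.Lib.Helper14.LCF
open Groth.Agent.Lib.Helper14.FlatStage Groth.Agent.Lib.Helper14.FlatOpen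

section Def
variable {R₀ : Type u} [CommRing R₀] {n b : ℕ} {κ : Type} (L : κ → Fm n b R₀)
variable (D : Type u) [CommRing D] [Algebra R₀ D]

/-- local Tor-vanishing at a prime `Q` of the polynomial ring, elementwise with denominators. -/
def TVloc (I : Ideal D) (Q : Ideal (MvPolynomial (Fin n) D)) : Prop :=
  ∀ z ∈ Km L D, z ∈ I • (⊤ : Submodule D (Fm n b D)) →
    ∃ t : MvPolynomial (Fin n) D, t ∉ Q ∧ t • z ∈ I • KmD L D

theorem TVloc_iff (I : Ideal D) (Q : Ideal (MvPolynomial (Fin n) D)) [Q.IsPrime] :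
    TVloc L D I Q ↔
      Function.Injective (I.subtype.rTensor (LocalizedModule Q.primeCompl (Mm L D))) := by
  rw [rTensor_injective_localized_iff (Km L D) Q.primeCompl I]
  rfl

end Def

section Quot
variable {R₀ : Type u} [CommRing R₀] {n b : ℕ} {κ : Type} (L : κ → Fm n b R₀)
variable (D : Type u) [CommRing D] [Algebra R₀ D] (I₀ : Ideal D)

theorem mapF_quot_surjective : Function.Surjective (mapF n b D (D ⧸ I₀)) :=
  surjective_of_isBaseChange_quot I₀ ((mapF n b D (D ⧸ I₀)).restrictScalars D) isBaseChange_mapF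

theorem mapF_quot_ker (x : Fm n b D) (hx : mapF n b D (D ⧸ I₀) x = 0) :
    x ∈ I₀ • (⊤ : Submodule D (Fm n b D)) :=
  ker_le_of_isBaseChange_quot I₀ ((mapF n b D (D ⧸ I₀)).restrictScalars D) isBaseChange_mapF x hx

theorem mapF_smul_base (c : D) (f : Fm n b D) :
    mapF n b D (D ⧸ I₀) (c • f) = (Ideal.Quotient.mk I₀ c) • mapF n b D (D ⧸ I₀) f := by
  have h := ((mapF n b D (D ⧸ I₀)).restrictScalars D).map_smul c f
  rw [LinearMap.restrictScalars_apply, LinearMap.restrictScalars_apply] at h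
  rw [h, ← algebraMap_smul (D ⧸ I₀) c (mapF n b D (D ⧸ I₀) f)]
  rfl

/-- relations lift along the quotient map. -/
theorem exists_mapF_eq_of_mem_Km (z' : Fm n b (D ⧸ I₀)) (hz' : z' ∈ Km L (D ⧸ I₀)) :
    ∃ z ∈ Km L D, mapF n b D (D ⧸ I₀) z = z' := by
  have hsurj : Function.Surjective
      (algebraMap (MvPolynomial (Fin n) D) (MvPolynomial (Fin n) (D ⧸ I₀))) :=
    MvPolynomial.map_surjective _ Ideal.Quotient.mk_surjective
  unfold Km at hz'
  induction hz' using Submodule.span_induction with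
  | mem x hx =>
    obtain ⟨j, rfl⟩ := hx
    exact ⟨genm L D j, Submodule.subset_span ⟨j, rfl⟩, mapF_genm L D (D ⧸ I₀) j⟩
  | zero => exact ⟨0, zero_mem _, map_zero _⟩
  | add x y _ _ hx hy =>
    obtain ⟨x₁, hx₁, rfl⟩ := hx
    obtain ⟨y₁, hy₁, rfl⟩ := hy
    exact ⟨x₁ + y₁, add_mem hx₁ hy₁, map_add _ _ _⟩
  | smul p x _ hx =>
    obtain ⟨x₁, hx₁, rfl⟩ := hx
    obtain ⟨p₁, rfl⟩ := hsurj p
    refine ⟨p₁ • x₁, Submodule.smul_mem _ _ hx₁, ?_⟩
    rw [map_smul, algebra_compatible_smul (MvPolynomial (Fin n) (D ⧸ I₀))]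

/-- the image of `I K` lies in `I' K'`. -/
theorem mapF_mem_smul_KmD (I : Ideal D) (I' : Ideal (D ⧸ I₀))
    (hI : ∀ c ∈ I, Ideal.Quotient.mk I₀ c ∈ I') (x : Fm n b D) (hx : x ∈ I • KmD L D) :
    mapF n b D (D ⧸ I₀) x ∈ I' • KmD L (D ⧸ I₀) := by
  refine Submodule.smul_induction_on hx ?_ ?_
  · intro c hc k hk
    rw [mapF_smul_base]
    exact Submodule.smul_mem_smul (hI c hc) (mapF_mem_Km L D (D ⧸ I₀) k hk)
  · intro x y hx hy
    rw [map_add]
    exact add_mem hx hy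

/-- **`TVloc` passes to the quotient** by an ideal `I₀` whose extension lies in `Q`. -/
theorem TVloc_quot (Q : Ideal (MvPolynomial (Fin n) D)) [Q.IsPrime]
    (hker : RingHom.ker (algebraMap (MvPolynomial (Fin n) D)
      (MvPolynomial (Fin n) (D ⧸ I₀))) ≤ Q)
    (Q' : Ideal (MvPolynomial (Fin n) (D ⧸ I₀)))
    (hQ' : Q' = Q.map (algebraMap (MvPolynomial (Fin n) D) (MvPolynomial (Fin n) (D ⧸ I₀))))
    (h : TVloc L D (Q.comap (algebraMap D (MvPolynomial (Fin n) D))) Q) :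
    TVloc L (D ⧸ I₀) (Q'.comap (algebraMap (D ⧸ I₀) (MvPolynomial (Fin n) (D ⧸ I₀)))) Q' := by
  have hsurj : Function.Surjective
      (algebraMap (MvPolynomial (Fin n) D) (MvPolynomial (Fin n) (D ⧸ I₀))) :=
    MvPolynomial.map_surjective _ Ideal.Quotient.mk_surjective
  -- membership in `Q'` reflects
  have hrefl : ∀ y : MvPolynomial (Fin n) D,
      algebraMap (MvPolynomial (Fin n) D) (MvPolynomial (Fin n) (D ⧸ I₀)) y ∈ Q' → y ∈ Q := by
    intro y hy
    rw [hQ'] at hy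
    obtain ⟨y₁, hy₁, hyy⟩ := (Ideal.mem_map_iff_of_surjective _ hsurj).1 hy
    have h2 : y - y₁ ∈ Q := hker (by rw [RingHom.mem_ker, map_sub, hyy, sub_self])
    have := Q.add_mem h2 hy₁
    rwa [sub_add_cancel] at this
  set p : Ideal D := Q.comap (algebraMap D (MvPolynomial (Fin n) D)) with hp
  set p' : Ideal (D ⧸ I₀) :=
    Q'.comap (algebraMap (D ⧸ I₀) (MvPolynomial (Fin n) (D ⧸ I₀))) with hp'
  have hcomm : ∀ c : D, algebraMap (MvPolynomial (Fin n) D) (MvPolynomial (Fin n) (D ⧸ I₀))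
      (algebraMap D (MvPolynomial (Fin n) D) c) =
      algebraMap (D ⧸ I₀) (MvPolynomial (Fin n) (D ⧸ I₀)) (Ideal.Quotient.mk I₀ c) := by
    intro c
    show MvPolynomial.map _ (MvPolynomial.C c) = MvPolynomial.C _
    rw [MvPolynomial.map_C]
    rfl
  have hI₀p : I₀ ≤ p := by
    intro c hc
    rw [hp, Ideal.mem_comap]
    apply hker
    rw [RingHom.mem_ker, hcomm, Ideal.Quotient.eq_zero_iff_mem.2 hc, map_zero]
  have hpp' : ∀ c ∈ p, Ideal.Quotient.mk I₀ c ∈ p' := by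
    intro c hc
    rw [hp', Ideal.mem_comap, ← hcomm, hQ']
    exact Ideal.mem_map_of_mem _ hc
  have hp'p : ∀ c' ∈ p', ∃ c ∈ p, Ideal.Quotient.mk I₀ c = c' := by
    intro c' hc'
    obtain ⟨c, rfl⟩ := Ideal.Quotient.mk_surjective c'
    refine ⟨c, ?_, rfl⟩
    rw [hp, Ideal.mem_comap]
    apply hrefl
    rw [hcomm]
    exact hc'
  intro z' hz'K hz'I
  obtain ⟨z, hzK, rfl⟩ := exists_mapF_eq_of_mem_Km L D I₀ z' hz'K
  -- `z ∈ p F`
  have hy : ∃ y ∈ p • (⊤ : Submodule D (Fm n b D)),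
      mapF n b D (D ⧸ I₀) y = mapF n b D (D ⧸ I₀) z := by
    refine Submodule.smul_induction_on hz'I ?_ ?_
    · intro c' hc' f' _
      obtain ⟨c, hc, rfl⟩ := hp'p c' hc'
      obtain ⟨f, rfl⟩ := mapF_quot_surjective D I₀ f'
      exact ⟨c • f, Submodule.smul_mem_smul hc Submodule.mem_top, mapF_smul_base D I₀ c f⟩
    · rintro x₁ x₂ ⟨y₁, hy₁, e₁⟩ ⟨y₂, hy₂, e₂⟩
      exact ⟨y₁ + y₂, add_mem hy₁ hy₂, by rw [map_add, e₁, e₂]⟩
  obtain ⟨y, hyp, hyz⟩ := hy
  have hzp : z ∈ p • (⊤ : Submodule D (Fm n b D)) := by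
    have h1 : z - y ∈ I₀ • (⊤ : Submodule D (Fm n b D)) :=
      mapF_quot_ker D I₀ _ (by rw [map_sub, hyz, sub_self])
    have h2 : z - y ∈ p • (⊤ : Submodule D (Fm n b D)) := Submodule.smul_mono hI₀p le_rfl h1
    have := add_mem h2 hyp
    rwa [sub_add_cancel] at this
  obtain ⟨t, htQ, htz⟩ := h z hzK hzp
  refine ⟨algebraMap (MvPolynomial (Fin n) D) (MvPolynomial (Fin n) (D ⧸ I₀)) t,
    fun hmem => htQ (hrefl t hmem), ?_⟩
  have h3 := mapF_mem_smul_KmD L D I₀ p p' hpp' _ htz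
  rwa [map_smul, algebra_compatible_smul (MvPolynomial (Fin n) (D ⧸ I₀))] at h3

end Quot

end Groth.Agent.Lib.Helper14.LCF
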