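/-
Helper14 library (LCF): the Tor step.  If the model module is flat modulo `a` and satisfies the
local Tor-vanishing `TVloc` at a prime `Q` for the contraction `p ∋ a`, then some `r ∉ Q` kills
`Tor₁(A/a, M) = (K ∩ aF)/aK`.
-/
import Groth.Agent.Lib.Helper14.LCF.Step
import Groth.Agent.Lib.Helper14.LCF.Gen
import Groth.Agent.Lib.Helper9.FlatCoker

set_option autoImplicit false
universe u
open TensorProduct
attribute [local instance] MvPolynomial.algebraMvPolynomial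

namespace Groth.Agent.Lib.Helper14.LCF
open Groth.Agent.Lib.Helper14.FlatStage Groth.Agent.Lib.Helper14.FlatOpen

section Star
variable {R₀ : Type u} [CommRing R₀] {n b : ℕ} {κ : Type} (L : κ → Fm n b R₀)
variable (A : Type u) [CommRing A] [Algebra R₀ A] (a : A)

/-- the relation module of the reduction modulo `a` is flat when the model module is. -/
theorem flat_KmD_quot
    (c1 : Module.Flat (A ⧸ Ideal.span {a}) (Mm L (A ⧸ Ideal.span {a}))) :
    Module.Flat (A ⧸ Ideal.span {a}) (KmD L (A ⧸ Ideal.span {a})) :=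
  Groth.Agent.Lib.Helper9.FlatCoker.flat_of_exact_ker (KmD L (A ⧸ Ideal.span {a})).subtype
    (piD L (A ⧸ Ideal.span {a})) (Submodule.subtype_injective _)
    (piD_surjective L (A ⧸ Ideal.span {a})) (exact_KmD L (A ⧸ Ideal.span {a}))

/-- **(∗∗)**: `K ∩ aF ⊆ aK + p (K ∩ aF)` locally at `Q`. -/
theorem exists_smul_mem_aK_sup
    (c1 : Module.Flat (A ⧸ Ideal.span {a}) (Mm L (A ⧸ Ideal.span {a})))
    (Q : Ideal (MvPolynomial (Fin n) A)) (p : Ideal A) (hap : a ∈ p)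
    (hTV : TVloc L A p Q) (z : Fm n b A) (hz : z ∈ Km L A ⊓ aF A a) :
    ∃ s : MvPolynomial (Fin n) A, s ∉ Q ∧
      s • z ∈ aK L A a ⊔ (p.map (algebraMap A (MvPolynomial (Fin n) A))) • (Km L A ⊓ aF A a) := by
  obtain ⟨hzK, y, rfl⟩ := hz
  set I₀ : Ideal A := Ideal.span {a} with hI₀
  have hmka : Ideal.Quotient.mk I₀ a = 0 :=
    Ideal.Quotient.eq_zero_iff_mem.2 (Ideal.subset_span (Set.mem_singleton a))
  have hzp : a • y ∈ p • (⊤ : Submodule A (Fm n b A)) :=
    Submodule.smul_mem_smul hap Submodule.mem_top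
  obtain ⟨t, htQ, htz⟩ := hTV (a • y) hzK hzp
  refine ⟨t, htQ, ?_⟩
  -- the surjection `K → K̄`
  haveI : Module.Flat (A ⧸ I₀) (KmD L (A ⧸ I₀)) := flat_KmD_quot L A a c1
  haveI : Module.Flat (A ⧸ I₀) ((KmD L (A ⧸ I₀)).restrictScalars A) :=
    Module.Flat.of_linearEquiv (Submodule.restrictScalarsEquiv A (A ⧸ I₀) _ (KmD L (A ⧸ I₀)))
  let ψ : KmD L A →ₗ[A] (KmD L (A ⧸ I₀)).restrictScalars A :=
    ((mapF n b A (A ⧸ I₀)).restrictScalars A).restrict (fun x hx => mapF_mem_Km L A (A ⧸ I₀) x hx)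
  have hψ : Function.Surjective ψ := by
    rintro ⟨z', hz'⟩
    obtain ⟨z₁, hz₁, rfl⟩ := exists_mapF_eq_of_mem_Km L A I₀ z' hz'
    exact ⟨⟨z₁, hz₁⟩, rfl⟩
  let x : KmD L A := ⟨t • a • y, Submodule.smul_mem _ t hzK⟩
  have hxK : x ∈ LinearMap.ker ψ := by
    rw [LinearMap.mem_ker]
    apply Subtype.ext
    show mapF n b A (A ⧸ I₀) (t • a • y) = 0
    rw [map_smul, mapF_smul_base, hmka, zero_smul, smul_zero]
  have hxp : x ∈ p • (⊤ : Submodule A (KmD L A)) :=
    (Submodule.mem_smul_top_iff p (KmD L A) x).2 htz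
  have key := mem_smul_ker_sup_of_flat_quot I₀ ψ hψ p hxK hxp
  have h1 : (x : Fm n b A) ∈ (p • LinearMap.ker ψ ⊔ I₀ • (⊤ : Submodule A (KmD L A))).map
      (KmD L A).subtype := ⟨x, key, rfl⟩
  rw [Submodule.map_sup, Submodule.map_smul'', Submodule.map_smul'', Submodule.map_top,
    Submodule.range_subtype] at h1
  have hle : p • (LinearMap.ker ψ).map (KmD L A).subtype ⊔ I₀ • KmD L A ≤
      (aK L A a ⊔ (p.map (algebraMap A (MvPolynomial (Fin n) A))) •
        (Km L A ⊓ aF A a)).restrictScalars A := by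
    refine sup_le (Submodule.smul_le.2 ?_) ?_
    · rintro c hc _ ⟨k, hk, rfl⟩
      refine Submodule.mem_sup_right ?_
      have hk0 : mapF n b A (A ⧸ I₀) (k : Fm n b A) = 0 := by
        have := congrArg Subtype.val (LinearMap.mem_ker.1 hk)
        exact this
      have hkF : (k : Fm n b A) ∈ aF A a :=
        (mem_aF_iff a _).2 (mapF_quot_ker A I₀ _ hk0)
      show c • ((KmD L A).subtype k) ∈ _
      rw [← algebraMap_smul (MvPolynomial (Fin n) A) c]
      exact Submodule.smul_mem_smul (Ideal.mem_map_of_mem _ hc) ⟨k.2, hkF⟩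
    · intro v hv
      exact Submodule.mem_sup_left ((mem_aK_iff L a v).2 hv)
  exact hle h1

end Star

section Kill
variable {R₀ : Type u} [CommRing R₀] [IsNoetherianRing R₀] {n b : ℕ} {κ : Type}
  (L : κ → Fm n b R₀)

/-- **the Tor step**: some `r ∉ Q` kills `(K ∩ aF)/aK`. -/
theorem exists_kill_tor (a₀ : R₀) (A : Type u) [CommRing A] [Algebra R₀ A]
    (c1 : Module.Flat (A ⧸ Ideal.span {algebraMap R₀ A a₀})
      (Mm L (A ⧸ Ideal.span {algebraMap R₀ A a₀})))
    (Q : Ideal (MvPolynomial (Fin n) A)) [Q.IsPrime] (p : Ideal A)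
    (hap : algebraMap R₀ A a₀ ∈ p)
    (hpQ : p.map (algebraMap A (MvPolynomial (Fin n) A)) ≤ Q)
    (hTV : TVloc L A p Q) :
    ∃ r : MvPolynomial (Fin n) A, r ∉ Q ∧
      ∀ z ∈ Km L A ⊓ aF A (algebraMap R₀ A a₀), r • z ∈ aK L A (algebraMap R₀ A a₀) := by
  classical
  set a := algebraMap R₀ A a₀ with ha
  obtain ⟨T, hT, hgen⟩ := exists_finset_gen L a₀ A c1
  rw [← ha] at hT hgen
  set X : Submodule (MvPolynomial (Fin n) A) (Fm n b A) := Km L A ⊓ aF A a with hX
  set Y : Submodule (MvPolynomial (Fin n) A) (Fm n b A) := aK L A a with hY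
  set 𝔭 : Ideal (MvPolynomial (Fin n) A) :=
    p.map (algebraMap A (MvPolynomial (Fin n) A)) with h𝔭
  have hsel : ∀ t ∈ T, ∃ s : MvPolynomial (Fin n) A, s ∉ Q ∧ s • t ∈ Y ⊔ 𝔭 • X :=
    fun t ht => exists_smul_mem_aK_sup L A a c1 Q p hap hTV t (hT t ht)
  choose! s hs1 hs2 using hsel
  set sT : MvPolynomial (Fin n) A := ∏ t ∈ T, s t with hsT
  have hsTQ : sT ∉ Q := by
    intro hmem
    obtain ⟨t, ht, htq⟩ := Ideal.IsPrime.prod_mem_iff.1 hmem
    exact hs1 t ht htq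
  have hsT' : ∀ t ∈ T, sT • t ∈ Y ⊔ 𝔭 • X := by
    intro t ht
    rw [hsT, ← Finset.mul_prod_erase T s ht, mul_comm, mul_smul]
    exact Submodule.smul_mem _ _ (hs2 t ht)
  have hmkY : ∀ y ∈ Y, Y.mkQ y = 0 := fun y hy => by
    rw [Submodule.mkQ_apply]
    exact (Submodule.Quotient.mk_eq_zero Y).2 hy
  set Nb : Submodule (MvPolynomial (Fin n) A) (Fm n b A ⧸ Y) :=
    Submodule.span _ (Y.mkQ '' (T : Set (Fm n b A))) with hNb
  have hXN : ∀ z ∈ X, Y.mkQ z ∈ Nb := by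
    intro z hz
    obtain ⟨w, hw, y, hy, rfl⟩ := Submodule.mem_sup.1 (hgen z hz)
    rw [map_add, hmkY y hy, add_zero]
    have : Y.mkQ w ∈ (Submodule.span _ (T : Set (Fm n b A))).map Y.mkQ := ⟨w, hw, rfl⟩
    rwa [Submodule.map_span] at this
  have hsN : ∀ v ∈ Nb, sT • v ∈ 𝔭 • Nb := by
    intro v hv
    induction hv using Submodule.span_induction with
    | mem x hx =>
      obtain ⟨t, ht, rfl⟩ := hx
      rw [← map_smul]
      obtain ⟨y, hy, w, hw, hyw⟩ := Submodule.mem_sup.1 (hsT' t ht)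
      rw [← hyw, map_add, hmkY y hy, zero_add]
      have h1 : Y.mkQ w ∈ (𝔭 • X).map Y.mkQ := ⟨w, hw, rfl⟩
      rw [Submodule.map_smul''] at h1
      refine Submodule.smul_mono le_rfl ?_ h1
      rintro _ ⟨z, hz, rfl⟩
      exact hXN z hz
    | zero => rw [smul_zero]; exact zero_mem _
    | add x y _ _ hx hy => rw [smul_add]; exact add_mem hx hy
    | smul q x _ hx => rw [smul_comm]; exact Submodule.smul_mem _ _ hx
  haveI : Module.Finite (MvPolynomial (Fin n) A) Nb :=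
    Module.Finite.iff_fg.2 (Submodule.fg_span ((T.finite_toSet).image _))
  obtain ⟨r, d, hrd, hr⟩ := exists_kill_of_smul_le (N := Nb) 𝔭 sT
    (fun v => (Submodule.mem_smul_top_iff 𝔭 Nb (sT • v)).2 (hsN v v.2))
  refine ⟨r, ?_, ?_⟩
  · intro hrQ
    have h1 : sT ^ d ∈ Q := by
      have := Q.sub_mem hrQ (hpQ hrd)
      rwa [sub_sub_cancel] at this
    exact hsTQ (Ideal.IsPrime.mem_of_pow_mem inferInstance d h1)
  · intro z hz
    have h1 := hr ⟨Y.mkQ z, hXN z hz⟩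
    have h2 : r • Y.mkQ z = 0 := congrArg Subtype.val h1
    rw [← map_smul, Submodule.mkQ_apply, Submodule.Quotient.mk_eq_zero] at h2
    exact h2

end Kill

end Groth.Agent.Lib.Helper14.LCF
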