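/-
Helper14 library (LCF): Tor-vanishing for `(a)` on a basic open neighbourhood of a prime `q`, from
flatness modulo `a` and the vanishing of `Tor₁(A/p, N_q)` for the contraction `p ∋ a` of `q`.
-/
import Groth.Agent.Lib.Helper14.LCF.TorStep

set_option autoImplicit false
universe u
open TensorProduct
attribute [local instance] MvPolynomial.algebraMvPolynomial

namespace Groth.Agent.Lib.Helper14.LCF
open Groth.Agent.Lib.Helper14.FlatStage Groth.Agent.Lib.Helper14.FlatOpen

section Compare
variable {A P S N M' : Type u} [CommRing A] [CommRing P] [CommRing S] [Algebra A P] [Algebra A S]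
  [AddCommGroup N] [Module A N] [Module S N] [IsScalarTower A S N]
  [AddCommGroup M'] [Module A M'] [Module P M'] [IsScalarTower A P M']

/-- localizing along a surjection of algebras and a semilinear isomorphism: the localizations
are isomorphic over the base. -/
theorem nonempty_localized_comap_equiv (π : P →ₐ[A] S) (hπ : Function.Surjective π)
    (iso : N ≃ₗ[A] M') (hsl : ∀ p x, iso (π p • x) = p • iso x) (q : Ideal S) [q.IsPrime] :
    Nonempty (LocalizedModule q.primeCompl N ≃ₗ[A]
      LocalizedModule (q.comap π).primeCompl M') := by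
  letI : Algebra P S := π.toRingHom.toAlgebra
  haveI : IsScalarTower A P S := IsScalarTower.of_algebraMap_eq (fun r => (π.commutes r).symm)
  letI : Module P N := Module.compHom N π.toRingHom
  haveI : IsScalarTower P S N := ⟨fun p s x => by
    show (π p * s) • x = π p • (s • x)
    exact mul_smul _ _ _⟩
  haveI : IsScalarTower A P N := ⟨fun r p x => by
    show π (r • p) • x = r • (π p • x)
    rw [map_smul, smul_assoc]⟩
  have heq : Algebra.algebraMapSubmonoid S (q.comap π).primeCompl = q.primeCompl := by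
    ext s
    constructor
    · rintro ⟨p, hp, rfl⟩
      exact hp
    · intro hs
      obtain ⟨p, rfl⟩ := hπ s
      exact ⟨p, hs, rfl⟩
  haveI h1 : IsLocalizedModule (Algebra.algebraMapSubmonoid S (q.comap π).primeCompl)
      (LocalizedModule.mkLinearMap q.primeCompl N) := by
    rw [heq]; infer_instance
  haveI h2 : IsLocalizedModule (q.comap π).primeCompl
      ((LocalizedModule.mkLinearMap q.primeCompl N).restrictScalars P) :=
    IsLocalizedModule.restrictScalars _ _
  let isoP : N ≃ₗ[P] M' :=
    { iso with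
      map_smul' := fun p x => hsl p x }
  haveI h3 : IsLocalizedModule (q.comap π).primeCompl
      (((LocalizedModule.mkLinearMap q.primeCompl N).restrictScalars P).comp
        isoP.symm.toLinearMap) :=
    IsLocalizedModule.of_linearEquiv_right _ _ isoP.symm
  haveI : (q.comap π).IsPrime := Ideal.comap_isPrime _ _
  exact ⟨(IsLocalizedModule.linearEquiv (q.comap π).primeCompl
    (((LocalizedModule.mkLinearMap q.primeCompl N).restrictScalars P).comp
      isoP.symm.toLinearMap)
    (LocalizedModule.mkLinearMap (q.comap π).primeCompl M')).restrictScalars A⟩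

end Compare

/-- **Tor-vanishing for `(a)` near `q`** from flatness modulo `a` and `Tor₁(A/p, N_q) = 0`. -/
theorem exists_away_TVa' {A S N : Type u} [CommRing A] [CommRing S] [Algebra A S]
    [Algebra.FinitePresentation A S] [AddCommGroup N] [Module S N] [Module A N]
    [IsScalarTower A S N] [Module.FinitePresentation S N] (a : A)
    (H1 : Module.Flat (A ⧸ Ideal.span {a}) ((A ⧸ Ideal.span {a}) ⊗[A] N))
    (q : Ideal S) [q.IsPrime] (haq : algebraMap A S a ∈ q)
    (hq : Function.Injective ((q.comap (algebraMap A S)).subtype.rTensor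
      (LocalizedModule q.primeCompl N))) :
    ∃ h : S, h ∉ q ∧ TVa A (LocalizedModule (Submonoid.powers h) N) a := by
  classical
  obtain ⟨n, b, e, R₀, hR₀, L, π, iso, hF, hπ, hsl⟩ := exists_model' A S N {a}
  haveI : Algebra.FiniteType ℤ R₀ := (Subalgebra.fg_iff_finiteType R₀).1 hR₀
  haveI : IsNoetherianRing R₀ := Algebra.FiniteType.isNoetherianRing ℤ R₀
  let a₀ : R₀ := ⟨a, hF a (Finset.mem_singleton_self a)⟩
  have ha₀ : algebraMap R₀ A a₀ = a := rfl
  have c1 := flat_model_quot_of_flat_tensor L iso (Ideal.span {a}) H1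
  obtain ⟨T, hT, hgen⟩ := exists_finset_gen L a₀ A c1
  rw [ha₀] at hT hgen
  -- the prime `Q` and `TVloc`
  haveI : (q.comap π).IsPrime := Ideal.comap_isPrime _ _
  set p : Ideal A := q.comap (algebraMap A S) with hp
  obtain ⟨eq⟩ := nonempty_localized_comap_equiv π hπ iso hsl q
  have hTV : TVloc L A p (q.comap π) :=
    (TVloc_iff L A p (q.comap π)).2 (rTensor_injective_of_linearEquiv eq p hq)
  have hpQ : p.map (algebraMap A (MvPolynomial (Fin n) A)) ≤ q.comap π := by
    rw [Ideal.map_le_iff_le_comap]
    intro c hc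
    rw [Ideal.mem_comap, Ideal.mem_comap, AlgHom.commutes]
    exact hc
  obtain ⟨r, hrQ, hr⟩ := exists_kill_tor L a₀ A c1 (q.comap π) p haq hpQ hTV
  rw [ha₀] at hr
  -- selection
  have hsT' : ∀ t ∈ T, ∃ f : Fm n b A, t = a • f ∧
      r • (Km L A).mkQ f ∈ annI a • (⊤ : Submodule A (Mm L A)) := by
    intro t ht
    obtain ⟨htK, f, rfl⟩ := hT t ht
    refine ⟨f, rfl, ?_⟩
    obtain ⟨k, hk, hrk⟩ := hr (a • f) ⟨htK, f, rfl⟩
    have h0 : a • (r • f - k) = 0 := by
      rw [smul_sub, smul_comm, hrk, sub_self]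
    have h2 : r • f - k ∈ annI a • (⊤ : Submodule A (Fm n b A)) := TVa_of_flat a _ h0
    have h3 := mkQ_mem_annI_smul_top L A a h2
    rwa [map_sub, map_smul, Submodule.mkQ_apply _ k, (Submodule.Quotient.mk_eq_zero _).2 hk,
      sub_zero] at h3
  have KC := smul_mkQ_mem_of_gen L A a T hgen r hsT'
  refine ⟨π r, hrQ, ?_⟩
  set h := π r with hh
  intro y hy
  obtain ⟨⟨x, ⟨_, k, rfl⟩⟩, hx⟩ := IsLocalizedModule.surj (Submonoid.powers h)
    (LocalizedModule.mkLinearMap (Submonoid.powers h) N) y
  have hx' : h ^ k • y = LocalizedModule.mkLinearMap (Submonoid.powers h) N x := hx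
  have h1 : LocalizedModule.mkLinearMap (Submonoid.powers h) N (a • x) = 0 := by
    rw [LinearMap.map_smul_of_tower, ← hx', smul_comm, hy, smul_zero]
  obtain ⟨⟨_, m, rfl⟩, hm⟩ := (IsLocalizedModule.eq_zero_iff (Submonoid.powers h)
    (LocalizedModule.mkLinearMap (Submonoid.powers h) N)).1 h1
  have hm' : h ^ m • (a • x) = 0 := hm
  have hx0 : a • (h ^ m • x) = 0 := by rw [smul_comm, hm']
  obtain ⟨f, hf⟩ := Submodule.mkQ_surjective (Km L A) (iso (h ^ m • x))
  have hfK : a • f ∈ Km L A := by
    have h0 : piD L A (a • f) = 0 := by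
      rw [map_smul, show piD L A f = (Km L A).mkQ f from rfl, hf, ← map_smul, hx0, map_zero]
    exact (Submodule.Quotient.mk_eq_zero _).1 h0
  have h2 := KC f hfK
  rw [hf, ← hsl] at h2
  have h3 := mem_smul_top_of_linearMap iso.symm.toLinearMap (annI a) h2
  rw [LinearEquiv.coe_coe, LinearEquiv.symm_apply_apply, ← hh] at h3
  have h4 := mem_smul_top_of_linearMap
    ((LocalizedModule.mkLinearMap (Submonoid.powers h) N).restrictScalars A) (annI a) h3
  rw [LinearMap.restrictScalars_apply] at h4
  have hu : h * h ^ m * h ^ k ∈ Submonoid.powers h := ⟨1 + m + k, by ring⟩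
  have h5 : (h * h ^ m * h ^ k) • y =
      LocalizedModule.mkLinearMap (Submonoid.powers h) N (h • h ^ m • x) := by
    rw [mul_smul, hx', mul_smul, ← map_smul, ← map_smul]
  have h6 : y = (IsLocalization.mk' (Localization.Away h) (1 : S)
      (⟨h * h ^ m * h ^ k, hu⟩ : Submonoid.powers h)) • ((h * h ^ m * h ^ k) • y) := by
    rw [← algebraMap_smul (Localization.Away h) (h * h ^ m * h ^ k) y, ← mul_smul]
    have := IsLocalization.mk'_spec (Localization.Away h) (1 : S)
      (⟨h * h ^ m * h ^ k, hu⟩ : Submonoid.powers h)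
    rw [this, map_one, one_smul]
  rw [h6, h5]
  exact smul_mem_ideal_smul_top (annI a) _ h4

end Groth.Agent.Lib.Helper14.LCF
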