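/-
Helper14 library (LCF): the local flatness criterion for finitely presented modules over finitely
presented algebras, without Noetherian hypotheses (model form), by Noetherian induction on
ideals of the Noetherian coefficient ring.

`lt_all`: if `Tor₁(D/p, M_Q) = 0` (in the elementwise form `TVloc`) for the contraction `p` of
the prime `Q`, then `M_Q` is flat over `D`.
-/
import Groth.Agent.Lib.Helper14.LCF.AwayTVa

set_option autoImplicit false
universe u
open TensorProduct
attribute [local instance] MvPolynomial.algebraMvPolynomial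

namespace Groth.Agent.Lib.Helper14.LCF
open Groth.Agent.Lib.Helper14.FlatStage Groth.Agent.Lib.Helper14.FlatOpen

section Aux
variable {A S N : Type u} [CommRing A] [CommRing S] [Algebra A S]
  [AddCommGroup N] [Module A N] [Module S N] [IsScalarTower A S N]

theorem rTensor_injective_prime_congr {Q₁ Q₂ : Ideal S} [Q₁.IsPrime] [Q₂.IsPrime] (h : Q₁ = Q₂)
    (I : Ideal A)
    (hinj : Function.Injective (I.subtype.rTensor (LocalizedModule Q₁.primeCompl N))) :
    Function.Injective (I.subtype.rTensor (LocalizedModule Q₂.primeCompl N)) := by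
  subst h
  exact hinj

/-- Tor-vanishing at a prime of `S_g` in terms of the contraction. -/
theorem rTensor_injective_prime_away_iff (g : S) (Q' : Ideal (Localization.Away g)) [Q'.IsPrime]
    (I : Ideal A) :
    Function.Injective (I.subtype.rTensor
      (LocalizedModule Q'.primeCompl (LocalizedModule (Submonoid.powers g) N))) ↔
    Function.Injective (I.subtype.rTensor
      (LocalizedModule (Q'.comap (algebraMap S (Localization.Away g))).primeCompl N)) := by
  haveI := isLocalizedModule_comp_of_away g (LocalizedModule.mkLinearMap (Submonoid.powers g) N) Q'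
    (LocalizedModule.mkLinearMap Q'.primeCompl (LocalizedModule (Submonoid.powers g) N))
  let e := (IsLocalizedModule.linearEquiv
    (Q'.comap (algebraMap S (Localization.Away g))).primeCompl
    (((LocalizedModule.mkLinearMap Q'.primeCompl
      (LocalizedModule (Submonoid.powers g) N)).restrictScalars S).comp
      (LocalizedModule.mkLinearMap (Submonoid.powers g) N))
    (LocalizedModule.mkLinearMap
      (Q'.comap (algebraMap S (Localization.Away g))).primeCompl N)).restrictScalars A
  exact ⟨rTensor_injective_of_linearEquiv e I, rTensor_injective_of_linearEquiv e.symm I⟩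

end Aux

section LT
variable {R₀ : Type u} [CommRing R₀] [IsNoetherianRing R₀] {n b : ℕ} {κ : Type} [Finite κ]
  (L : κ → Fm n b R₀)

/-- the inductive statement -/
def LT (J : Ideal R₀) : Prop :=
  ∀ (D : Type u) [CommRing D] [Algebra R₀ D], (∀ j ∈ J, algebraMap R₀ D j = 0) →
    ∀ (Q : Ideal (MvPolynomial (Fin n) D)) [Q.IsPrime],
      TVloc L D (Q.comap (algebraMap D (MvPolynomial (Fin n) D))) Q →
      Module.Flat D (LocalizedModule Q.primeCompl (Mm L D))

theorem lt_step (J : Ideal R₀) (IH : ∀ J' > J, LT L J') : LT L J := by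
  intro D _ _ hD Q hQp hQ
  by_cases hJ : J = ⊤
  · exfalso
    have h1 : (1 : D) = 0 := by
      have := hD 1 (by rw [hJ]; trivial)
      rwa [map_one] at this
    haveI : Subsingleton D := subsingleton_of_zero_eq_one h1.symm
    exact hQp.ne_top (Ideal.eq_top_of_isUnit_mem _ (Q.zero_mem) (by
      rw [Subsingleton.elim (0 : MvPolynomial (Fin n) D) 1]; exact isUnit_one))
  obtain ⟨a, haJ, hsel⟩ := exists_sel L J hJ
  set ā : D := algebraMap R₀ D a with hā
  set α : MvPolynomial (Fin n) D := algebraMap D (MvPolynomial (Fin n) D) ā with hα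
  have hαfl : FlatOnD D (Mm L D) α :=
    (flatOnD_iff α).2 ((flat_base_localized_iff ā).2 (hsel D hD))
  by_cases hαQ : α ∈ Q
  swap
  · exact hαfl Q hαQ
  -- main case
  set I : Ideal D := Ideal.span {ā} with hI
  have hlt : J < J ⊔ Ideal.span {a} := by
    refine lt_of_le_of_ne le_sup_left ?_
    intro heq
    apply haJ
    rw [heq]
    exact (le_sup_right : Ideal.span {a} ≤ J ⊔ Ideal.span {a})
      (Ideal.subset_span (Set.mem_singleton a))
  have hD' : ∀ j ∈ J ⊔ Ideal.span {a}, algebraMap R₀ (D ⧸ I) j = 0 := by
    intro j hj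
    obtain ⟨j₁, hj₁, s, hs, rfl⟩ := Submodule.mem_sup.1 hj
    obtain ⟨c, rfl⟩ := Ideal.mem_span_singleton'.1 hs
    rw [map_add, map_mul, IsScalarTower.algebraMap_apply R₀ D (D ⧸ I) j₁, hD j₁ hj₁, map_zero,
      zero_add, IsScalarTower.algebraMap_apply R₀ D (D ⧸ I) a]
    have : algebraMap D (D ⧸ I) (algebraMap R₀ D a) = 0 :=
      Ideal.Quotient.eq_zero_iff_mem.2 (Ideal.subset_span (Set.mem_singleton _))
    rw [this, mul_zero]
  have hsurj : Function.Surjective
      (algebraMap (MvPolynomial (Fin n) D) (MvPolynomial (Fin n) (D ⧸ I))) :=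
    MvPolynomial.map_surjective _ Ideal.Quotient.mk_surjective
  have hker : RingHom.ker (algebraMap (MvPolynomial (Fin n) D) (MvPolynomial (Fin n) (D ⧸ I))) ≤ Q := by
    have : RingHom.ker (algebraMap (MvPolynomial (Fin n) D) (MvPolynomial (Fin n) (D ⧸ I))) =
        (RingHom.ker (Ideal.Quotient.mk I)).map MvPolynomial.C := MvPolynomial.ker_map _
    rw [this, Ideal.mk_ker, hI, Ideal.map_span, Set.image_singleton, Ideal.span_le,
      Set.singleton_subset_iff]
    exact hαQ
  haveI hQ'p : (Q.map (algebraMap (MvPolynomial (Fin n) D) (MvPolynomial (Fin n) (D ⧸ I)))).IsPrime :=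
    Ideal.map_isPrime_of_surjective hsurj hker
  have hQ' := TVloc_quot L D I Q hker _ rfl hQ
  have hfl' := IH _ hlt (D ⧸ I) hD' _ hQ'
  obtain ⟨g', hg', hflg'⟩ := ot_all L _ (D ⧸ I) hD' _ hfl'
  obtain ⟨g, rfl⟩ := hsurj g'
  have hgQ : g ∉ Q := fun h => hg' (Ideal.mem_map_of_mem _ h)
  have H1 := flat_tensor_localized_away L D I g ((flatOnD_iff _).1 hflg')
  have hdisj : Disjoint (Submonoid.powers g : Set (MvPolynomial (Fin n) D)) (Q : Set _) := by
    rw [Set.disjoint_left]
    rintro _ ⟨k, rfl⟩ hk
    exact hgQ (hQp.mem_of_pow_mem k hk)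
  haveI hQ₁p : (Q.map (algebraMap (MvPolynomial (Fin n) D) (Localization.Away g))).IsPrime :=
    IsLocalization.isPrime_of_isPrime_disjoint (Submonoid.powers g) _ Q hQp hdisj
  have hcomap : (Q.map (algebraMap (MvPolynomial (Fin n) D) (Localization.Away g))).comap
      (algebraMap (MvPolynomial (Fin n) D) (Localization.Away g)) = Q :=
    IsLocalization.under_map_of_isPrime_disjoint (Submonoid.powers g) _ hQp hdisj
  -- Tor-vanishing at the prime of `S_g`
  set p : Ideal D := Q.comap (algebraMap D (MvPolynomial (Fin n) D)) with hp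
  have hpeq : (Q.map (algebraMap (MvPolynomial (Fin n) D) (Localization.Away g))).comap
      (algebraMap D (Localization.Away g)) = p := by
    rw [IsScalarTower.algebraMap_eq D (MvPolynomial (Fin n) D) (Localization.Away g),
      ← Ideal.comap_comap, hcomap]
  have hq₁ : Function.Injective
      (((Q.map (algebraMap (MvPolynomial (Fin n) D) (Localization.Away g))).comap
        (algebraMap D (Localization.Away g))).subtype.rTensor
      (LocalizedModule
        (Q.map (algebraMap (MvPolynomial (Fin n) D) (Localization.Away g))).primeCompl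
        (LocalizedModule (Submonoid.powers g) (Mm L D)))) := by
    rw [hpeq, rTensor_injective_prime_away_iff]
    exact rTensor_injective_prime_congr hcomap.symm p ((TVloc_iff L D p Q).1 hQ)
  have haq : algebraMap D (Localization.Away g) ā ∈
      Q.map (algebraMap (MvPolynomial (Fin n) D) (Localization.Away g)) := by
    rw [IsScalarTower.algebraMap_apply D (MvPolynomial (Fin n) D) (Localization.Away g)]
    exact Ideal.mem_map_of_mem _ hαQ
  obtain ⟨h', hh', hTV⟩ := exists_away_TVa' (A := D) (S := Localization.Away g)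
    (N := LocalizedModule (Submonoid.powers g) (Mm L D)) ā H1 _ haq hq₁
  obtain ⟨k, h, hk⟩ := IsLocalization.Away.surj g h'
  have hhQ : h ∉ Q := by
    intro hmem
    have h2 : h' * algebraMap _ (Localization.Away g) g ^ k ∈
        Q.map (algebraMap (MvPolynomial (Fin n) D) (Localization.Away g)) := by
      rw [hk]; exact Ideal.mem_map_of_mem _ hmem
    rcases hQ₁p.mem_or_mem h2 with h3 | h3
    · exact hh' h3
    · exact hQ₁p.ne_top (Ideal.eq_top_of_isUnit_mem _ h3
        ((IsLocalization.Away.algebraMap_isUnit g).pow k))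
  have hg₂Q : g * h ∉ Q := fun hmem => (hQp.mem_or_mem hmem).elim hgQ hhQ
  haveI := isLocalizedModule_comp_away_away (N'' := LocalizedModule (Submonoid.powers h')
      (LocalizedModule (Submonoid.powers g) (Mm L D))) g h h' k hk
    (LocalizedModule.mkLinearMap (Submonoid.powers g) (Mm L D))
    (LocalizedModule.mkLinearMap (Submonoid.powers h')
      (LocalizedModule (Submonoid.powers g) (Mm L D)))
  have iso₂ := IsLocalizedModule.linearEquiv (Submonoid.powers (g * h))
    (((LocalizedModule.mkLinearMap (Submonoid.powers h')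
      (LocalizedModule (Submonoid.powers g) (Mm L D))).restrictScalars
        (MvPolynomial (Fin n) D)).comp
      (LocalizedModule.mkLinearMap (Submonoid.powers g) (Mm L D)))
    (LocalizedModule.mkLinearMap (Submonoid.powers (g * h)) (Mm L D))
  have hTV₂ : TVa D (LocalizedModule (Submonoid.powers (g * h)) (Mm L D)) ā :=
    TVa_of_linearEquiv (iso₂.restrictScalars D) ā hTV
  have H1₂ := flat_tensor_localized_away L D I (g * h) ((flatOnD_iff _).1 (by
    rw [map_mul]
    exact FlatOnD.mul_right hflg' _))
  have H3₂ : Module.Flat D (LocalizedModule (Submonoid.powers ā)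
      (LocalizedModule (Submonoid.powers (g * h)) (Mm L D))) := by
    rw [← flat_base_localized_iff (S := Localization.Away (g * h)), ← flatOnD_iff]
    have := FlatOnD.away hαfl (g * h)
    rwa [hα, ← IsScalarTower.algebraMap_apply] at this
  have hfl := flat_of_fp_criterion (A := D) (S := Localization.Away (g * h))
    (N := LocalizedModule (Submonoid.powers (g * h)) (Mm L D)) ā H1₂ hTV₂ H3₂
  exact (flatOnD_iff _).2 hfl Q hg₂Q

theorem lt_all (J : Ideal R₀) : LT L J :=
  IsNoetherian.induction (P := LT L) (fun J IH => lt_step L J IH) J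

end LT

end Groth.Agent.Lib.Helper14.LCF
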