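/-
Helper14 library (LCF): **the local criterion of flatness for finitely presented modules over
finitely presented algebras, without Noetherian hypotheses**.

`flat_localized_of_rTensor_injective`: `A` a ring, `S` a finitely presented `A`-algebra, `N` a
finitely presented `S`-module, `q` a prime of `S` with contraction `p`.  If `p ⊗_A N_q → N_q` is
injective (i.e. `Tor₁^A(A/p, N_q) = 0`), then `N_q` is flat over `A`.
-/
import Groth.Agent.Lib.Helper14.LCF.Main

set_option autoImplicit false
universe u
open TensorProduct
attribute [local instance] MvPolynomial.algebraMvPolynomial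

namespace Groth.Agent.Lib.Helper14.LCF
open Groth.Agent.Lib.Helper14.FlatStage Groth.Agent.Lib.Helper14.FlatOpen

theorem flat_localized_of_rTensor_injective {A S N : Type u} [CommRing A] [CommRing S]
    [Algebra A S] [Algebra.FinitePresentation A S] [AddCommGroup N] [Module S N] [Module A N]
    [IsScalarTower A S N] [Module.FinitePresentation S N] (q : Ideal S) [q.IsPrime]
    (hq : Function.Injective ((q.comap (algebraMap A S)).subtype.rTensor
      (LocalizedModule q.primeCompl N))) :
    Module.Flat A (LocalizedModule q.primeCompl N) := by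
  classical
  obtain ⟨n, b, e, R₀, hR₀, L, π, iso, -, hπ, hsl⟩ := exists_model' A S N ∅
  haveI : Algebra.FiniteType ℤ R₀ := (Subalgebra.fg_iff_finiteType R₀).1 hR₀
  haveI : IsNoetherianRing R₀ := Algebra.FiniteType.isNoetherianRing ℤ R₀
  haveI : (q.comap π).IsPrime := Ideal.comap_isPrime _ _
  obtain ⟨eq⟩ := nonempty_localized_comap_equiv π hπ iso hsl q
  have hpeq : (q.comap π).comap (algebraMap A (MvPolynomial (Fin n) A)) =
      q.comap (algebraMap A S) := by
    ext c
    rw [Ideal.mem_comap, Ideal.mem_comap, Ideal.mem_comap, AlgHom.commutes]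
  have hTV : TVloc L A ((q.comap π).comap (algebraMap A (MvPolynomial (Fin n) A))) (q.comap π) := by
    rw [hpeq]
    exact (TVloc_iff L A _ (q.comap π)).2 (rTensor_injective_of_linearEquiv eq _ hq)
  have hfl := lt_all L ⊥ A (fun j hj => by rw [(Ideal.mem_bot).1 hj, map_zero]) (q.comap π) hTV
  exact Module.Flat.of_linearEquiv eq

end Groth.Agent.Lib.Helper14.LCF
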