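/-
Helper14 library (LCF): change of rings for Tor-vanishing, and the algebraic core of the
"critère de platitude par fibres" (EGA IV 11.3.10), without Noetherian hypotheses.
-/
import Groth.Agent.Lib.Helper14.LCF.Crit
import Groth.Agent.Lib.Helper14.FibreFree

set_option autoImplicit false
universe u
open TensorProduct

namespace Groth.Agent.Lib.Helper14.LCF
open Groth.Agent.Lib.Helper14.FlatStage Groth.Agent.Lib.Helper14.FlatOpen

section Pres
variable (B : Type u) [CommRing B] (W : Type u) [AddCommGroup W] [Module B W]

/-- the canonical free presentation of a module -/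
noncomputable abbrev presMap : (W →₀ B) →ₗ[B] W := Finsupp.linearCombination B (id : W → W)

theorem presMap_surjective : Function.Surjective (presMap B W) :=
  Finsupp.linearCombination_surjective _ Function.surjective_id

theorem rTensor_injective_iff_pres (I : Ideal B) :
    Function.Injective (I.subtype.rTensor W) ↔
      ∀ x ∈ LinearMap.ker (presMap B W), x ∈ I • (⊤ : Submodule B (W →₀ B)) →
        x ∈ I • LinearMap.ker (presMap B W) :=
  rTensor_injective_iff_of_surjective (presMap B W) (presMap_surjective B W) I

end Pres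

section AF
variable {R B W : Type u} [CommRing R] [CommRing B] [Algebra R B] [AddCommGroup W]
  [Module R W] [Module B W] [IsScalarTower R B W]

/-- (P2) flatness over `R` gives Tor-vanishing over `B` for extended ideals. -/
theorem rTensor_injective_map_of_flat [Module.Flat R W] (𝔪 : Ideal R) :
    Function.Injective ((𝔪.map (algebraMap R B)).subtype.rTensor W) := by
  rw [rTensor_injective_iff_pres]
  intro x hxK hx
  exact FibreFree.mem_smul_ker_of_flat (A := R) (presMap B W) (presMap_surjective B W) 𝔪 hxK hx

/-- (P3) Tor-vanishing over `R` and over a flat `R`-algebra `B`, for extended ideals. -/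
theorem rTensor_injective_map_iff [Module.Flat R B] (q : Ideal R) :
    Function.Injective ((q.map (algebraMap R B)).subtype.rTensor W) ↔
      Function.Injective (q.subtype.rTensor W) := by
  haveI : Module.Flat R (W →₀ B) := Module.Flat.trans R B (W →₀ B)
  rw [rTensor_injective_iff_pres,
    rTensor_injective_iff_of_surjective ((presMap B W).restrictScalars R)
      (presMap_surjective B W) q]
  have e1 : ∀ x : W →₀ B, x ∈ (q.map (algebraMap R B)) • (⊤ : Submodule B (W →₀ B)) ↔
      x ∈ q • (⊤ : Submodule R (W →₀ B)) := by
    intro x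
    have := Ideal.smul_restrictScalars q (⊤ : Submodule B (W →₀ B))
    rw [Submodule.restrictScalars_top] at this
    rw [← this]
    rfl
  have e2 : ∀ x : W →₀ B, x ∈ (q.map (algebraMap R B)) • LinearMap.ker (presMap B W) ↔
      x ∈ q • LinearMap.ker ((presMap B W).restrictScalars R) := by
    intro x
    have := Ideal.smul_restrictScalars q (LinearMap.ker (presMap B W))
    rw [show (LinearMap.ker (presMap B W)).restrictScalars R =
      LinearMap.ker ((presMap B W).restrictScalars R) from rfl] at this
    rw [← this]
    rfl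
  constructor
  · intro h x hxK hx
    exact (e2 x).1 (h x hxK ((e1 x).2 hx))
  · intro h x hxK hx
    exact (e2 x).2 (h x hxK ((e1 x).1 hx))

end AF

section CR
variable {B W : Type u} [CommRing B] [AddCommGroup W] [Module B W]

/-- (P1) change of rings: Tor-vanishing for `I`, flatness modulo `I`, and `I ≤ J` give
Tor-vanishing for `J`. -/
theorem rTensor_injective_of_le_of_flat_quot (I J : Ideal B) (hIJ : I ≤ J)
    (h1 : Function.Injective (I.subtype.rTensor W))
    (h2 : Module.Flat (B ⧸ I) (W ⧸ I • (⊤ : Submodule B W))) :
    Function.Injective (J.subtype.rTensor W) := by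
  rw [rTensor_injective_iff_pres] at h1 ⊢
  intro z hzK hzJ
  let ψ : (W →₀ B) →ₗ[B] (W ⧸ I • (⊤ : Submodule B W)) :=
    (I • ⊤ : Submodule B W).mkQ ∘ₗ presMap B W
  have hψ : Function.Surjective ψ :=
    (Submodule.mkQ_surjective _).comp (presMap_surjective B W)
  have hzψ : z ∈ LinearMap.ker ψ := by
    rw [LinearMap.mem_ker]
    show (I • ⊤ : Submodule B W).mkQ (presMap B W z) = 0
    rw [LinearMap.mem_ker.1 hzK, map_zero]
  have key := mem_smul_ker_sup_of_flat_quot I ψ hψ J hzψ hzJ
  have hker : LinearMap.ker ψ ≤
      LinearMap.ker (presMap B W) ⊔ I • (⊤ : Submodule B (W →₀ B)) := by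
    intro x hx
    have h3 : presMap B W x ∈ I • (⊤ : Submodule B W) := by
      have : (I • ⊤ : Submodule B W).mkQ (presMap B W x) = 0 := hx
      rwa [Submodule.mkQ_apply, Submodule.Quotient.mk_eq_zero] at this
    have h4 : I • (⊤ : Submodule B W) =
        (I • (⊤ : Submodule B (W →₀ B))).map (presMap B W) := by
      rw [Submodule.map_smul'', Submodule.map_top,
        LinearMap.range_eq_top.2 (presMap_surjective B W)]
    rw [h4] at h3
    obtain ⟨v, hv, hvx⟩ := h3
    have h5 : x - v ∈ LinearMap.ker (presMap B W) := by
      rw [LinearMap.mem_ker, map_sub, hvx, sub_self]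
    have := Submodule.add_mem_sup h5 hv
    rwa [sub_add_cancel] at this
  have hle : J • LinearMap.ker ψ ⊔ I • (⊤ : Submodule B (W →₀ B)) ≤
      J • LinearMap.ker (presMap B W) ⊔ I • (⊤ : Submodule B (W →₀ B)) := by
    refine sup_le ?_ le_sup_right
    calc J • LinearMap.ker ψ
        ≤ J • (LinearMap.ker (presMap B W) ⊔ I • (⊤ : Submodule B (W →₀ B))) :=
          Submodule.smul_mono le_rfl hker
      _ = J • LinearMap.ker (presMap B W) ⊔ J • (I • (⊤ : Submodule B (W →₀ B))) :=
          Submodule.smul_sup _ _ _
      _ ≤ J • LinearMap.ker (presMap B W) ⊔ I • (⊤ : Submodule B (W →₀ B)) :=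
          sup_le_sup_left Submodule.smul_le_right _
  have h5 : z ∈ J • LinearMap.ker (presMap B W) ⊔ I • (⊤ : Submodule B (W →₀ B)) := hle key
  obtain ⟨w, hw, v, hv, rfl⟩ := Submodule.mem_sup.1 h5
  have hvK : v ∈ LinearMap.ker (presMap B W) := by
    have hwK : w ∈ LinearMap.ker (presMap B W) := Submodule.smul_le_right hw
    have := sub_mem hzK hwK
    rwa [add_sub_cancel_left] at this
  exact add_mem hw (Submodule.smul_mono hIJ le_rfl (h1 v hvK hv))

end CR

end Groth.Agent.Lib.Helper14.LCF
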