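/-
Helper14 library (LCF): the algebraic "critère de platitude par fibres" (EGA IV 11.3.10 /
Stacks 00R7, 00R8 without finiteness of the middle ring), stalk form.
-/
import Groth.Agent.Lib.Helper14.LCF.Fibre

set_option autoImplicit false
universe u
open TensorProduct

namespace Groth.Agent.Lib.Helper14.LCF
open Groth.Agent.Lib.Helper14.FlatStage Groth.Agent.Lib.Helper14.FlatOpen

/-- the local criterion, for any localization `W` of `N` at the prime `q`. -/
theorem flat_of_isLocalizedModule_of_rTensor_injective {A S N W : Type u} [CommRing A]
    [CommRing S] [Algebra A S] [Algebra.FinitePresentation A S] [AddCommGroup N] [Module S N]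
    [Module A N] [IsScalarTower A S N] [Module.FinitePresentation S N] (q : Ideal S) [q.IsPrime]
    [AddCommGroup W] [Module S W] [Module A W] [IsScalarTower A S W] (f : N →ₗ[S] W)
    [IsLocalizedModule q.primeCompl f]
    (hq : Function.Injective ((q.comap (algebraMap A S)).subtype.rTensor W)) :
    Module.Flat A W := by
  let e := (IsLocalizedModule.linearEquiv q.primeCompl
    (LocalizedModule.mkLinearMap q.primeCompl N) f).restrictScalars A
  haveI := flat_localized_of_rTensor_injective (A := A) (S := S) (N := N) q
    (rTensor_injective_of_linearEquiv e.symm _ hq)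
  exact Module.Flat.of_linearEquiv e.symm

/-- **critère de platitude par fibres, algebraic core**.
`B → C` finitely presented, `N` a finitely presented `C`-module, `Q` a prime of `C` with
contraction `q`; `B'` the localization of `B` at `q`, `W` the localization of `N` at `Q`
(a `B'`-module).  `R → B'` a ring map, `𝔪` an ideal of `R` with `𝔪 B' ⊆ q B'`.
If `W` is flat over `R` and `W/𝔪W` is flat over `B'/𝔪B'`, then `W` is flat over `B'`. -/
theorem flat_of_flat_of_flat_fibre {R B B' C N W : Type u} [CommRing R] [CommRing B]
    [CommRing B'] [CommRing C] [Algebra B C] [Algebra.FinitePresentation B C]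
    [AddCommGroup N] [Module C N] [Module.FinitePresentation C N] [Module B N]
    [IsScalarTower B C N] (Q : Ideal C) [Q.IsPrime]
    [Algebra B B'] [IsLocalization.AtPrime B' (Q.comap (algebraMap B C))]
    [AddCommGroup W] [Module C W] [Module B W] [IsScalarTower B C W] [Module B' W]
    [IsScalarTower B B' W] (f : N →ₗ[C] W) [IsLocalizedModule Q.primeCompl f]
    [Algebra R B'] [Module R W] [IsScalarTower R B' W] (𝔪 : Ideal R)
    (h𝔪 : 𝔪.map (algebraMap R B') ≤ (Q.comap (algebraMap B C)).map (algebraMap B B'))
    [Module.Flat R W]
    (hfib : Module.Flat (B' ⧸ 𝔪.map (algebraMap R B'))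
      (W ⧸ (𝔪.map (algebraMap R B')) • (⊤ : Submodule B' W))) :
    Module.Flat B' W := by
  have h1 := rTensor_injective_map_of_flat (R := R) (B := B') (W := W) 𝔪
  have h2 := rTensor_injective_of_le_of_flat_quot _ _ h𝔪 h1 hfib
  haveI : Module.Flat B B' := IsLocalization.flat B' (Q.comap (algebraMap B C)).primeCompl
  have h3 := (rTensor_injective_map_iff (R := B) (B := B') (W := W)
    (Q.comap (algebraMap B C))).1 h2
  haveI : Module.Flat B W :=
    flat_of_isLocalizedModule_of_rTensor_injective (A := B) (S := C) (N := N) Q f h3
  exact (Module.flat_iff_of_isLocalization B' (Q.comap (algebraMap B C)).primeCompl W).2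
    inferInstance

/-- a finite nonzero module over a local ring `C'`, flat over a local ring `B'` with `B' → C'`
local, is faithfully flat over `B'`. -/
theorem faithfullyFlat_of_local {B' C' W : Type u} [CommRing B'] [IsLocalRing B'] [CommRing C']
    [IsLocalRing C'] [Algebra B' C'] [IsLocalHom (algebraMap B' C')] [AddCommGroup W]
    [Module B' W] [Module C' W] [IsScalarTower B' C' W] [Module.Finite C' W] [Nontrivial W]
    [Module.Flat B' W] : Module.FaithfullyFlat B' W := by
  refine ⟨fun m hm h => ?_⟩
  have hm' : m = IsLocalRing.maximalIdeal B' := IsLocalRing.eq_maximalIdeal hm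
  have hle : (⊤ : Submodule C' W) ≤ IsLocalRing.maximalIdeal C' • (⊤ : Submodule C' W) := by
    intro w _
    have hw : w ∈ m • (⊤ : Submodule B' W) := by rw [h]; trivial
    refine Submodule.smul_induction_on hw ?_ ?_
    · intro c hc v _
      rw [← algebraMap_smul C' c v]
      refine Submodule.smul_mem_smul ?_ Submodule.mem_top
      rw [hm'] at hc
      exact IsLocalRing.map_maximalIdeal_le (algebraMap B' C') (Ideal.mem_map_of_mem _ hc)
    · intro x y hx hy
      exact add_mem hx hy
  have hbot := Submodule.eq_bot_of_le_smul_of_le_jacobson_bot (IsLocalRing.maximalIdeal C')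
    (⊤ : Submodule C' W) Module.Finite.fg_top hle
    (by rw [IsLocalRing.jacobson_eq_maximalIdeal ⊥ bot_ne_top])
  exact top_ne_bot hbot

/-- if `W` is flat over `R` and faithfully flat over the `R`-algebra `B'`, then `B'` is flat
over `R`. -/
theorem flat_of_faithfullyFlat_of_flat {R B' W : Type u} [CommRing R] [CommRing B']
    [Algebra R B'] [AddCommGroup W] [Module R W] [Module B' W] [IsScalarTower R B' W]
    [Module.Flat R W] [Module.FaithfullyFlat B' W] : Module.Flat R B' := by
  rw [Module.Flat.iff_lTensor_injective']
  intro I
  have h1 : Function.Injective (I.subtype.lTensor W) :=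
    Module.Flat.lTensor_preserves_injective_linearMap _ (Submodule.subtype_injective _)
  have h2 := (Helper8.lTensor_baseChange_injective_iff (A := R) (B := B') (N := W)
    I.subtype).2 h1
  exact (Module.FaithfullyFlat.lTensor_injective_iff_injective B' W
    (I.subtype.baseChange B')).1 h2

end Groth.Agent.Lib.Helper14.LCF
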