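/-
Helper14 library (LCF): the "critère de platitude par fibres" for finitely presented
quasi-coherent modules on schemes (EGA IV 11.3.10), stalk form.
-/
import Groth.Agent.Lib.Helper14.LCF.FibreCrit
import Groth.Agent.Lib.Helper14.FlatOpen.ModStalk
import Groth.Agent.Lib.Helper14.FibreFreeSch

set_option autoImplicit false
set_option linter.style.haveILetI false
universe u
open CategoryTheory CategoryTheory.Limits AlgebraicGeometry TensorProduct Opposite

namespace Groth.Agent.Lib.Helper14.LCF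

open Groth.Agent.Lib.Helper3 Groth.Agent.Lib.Helper1.FlatAffine

/-- flatness passes to the quotient by `I`, in the form `W / I W` over `B / I`. -/
theorem flat_quot_smul_top {B W : Type u} [CommRing B] [AddCommGroup W] [Module B W]
    [Module.Flat B W] (I : Ideal B) :
    Module.Flat (B ⧸ I) (W ⧸ I • (⊤ : Submodule B W)) :=
  Module.Flat.of_linearEquiv
    ((quotTensorEquivQuotSMul W I).extendScalarsOfSurjective Ideal.Quotient.mk_surjective).symm

variable {X Y S : Scheme.{u}} (f : X ⟶ Y) (g : Y ⟶ S)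

/-- **critère de platitude par fibres**, hard direction, module part:
`F` flat over `S` at `x` and `F_x / 𝔪_s F_x` flat over `O_{Y,y} / 𝔪_s O_{Y,y}` imply that `F` is
flat over `Y` at `x`. -/
theorem isFlatOverAt_of_flat_fibre [LocallyOfFinitePresentation (f ≫ g)] [LocallyOfFiniteType g]
    (F : X.Modules) [F.IsQuasicoherent]
    [SheafOfModules.IsFinitePresentation (R := X.ringCatSheaf) F] (x : X)
    (h1 : FlatMod.IsFlatOverAt (f ≫ g) F x)
    (h2 : letI := FlatMod.moduleStalkOver f F x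
      Module.Flat (↑(Y.presheaf.stalk (f x)) ⧸ Ideal.map (g.stalkMap (f x)).hom
          (IsLocalRing.maximalIdeal ↑(S.presheaf.stalk (g (f x)))))
        (↑(F.presheaf.stalk x) ⧸ (Ideal.map (g.stalkMap (f x)).hom
          (IsLocalRing.maximalIdeal ↑(S.presheaf.stalk (g (f x)))) •
          (⊤ : Submodule ↑(Y.presheaf.stalk (f x)) ↑(F.presheaf.stalk x))))) :
    FlatMod.IsFlatOverAt f F x := by
  -- charts
  obtain ⟨_, ⟨T, hT, rfl⟩, hsT, -⟩ :=
    S.isBasis_affineOpens.exists_subset_of_mem_open (Set.mem_univ (g (f x))) isOpen_univ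
  obtain ⟨_, ⟨V, hV, rfl⟩, hyV, hVT⟩ :=
    Y.isBasis_affineOpens.exists_subset_of_mem_open hsT (T.2.preimage g.continuous)
  obtain ⟨_, ⟨U, hU, rfl⟩, hxU, hUV⟩ :=
    X.isBasis_affineOpens.exists_subset_of_mem_open hyV (V.2.preimage f.continuous)
  have hUT : U ≤ (f ≫ g) ⁻¹ᵁ T := fun z hz => hVT (hUV hz)
  -- the chart rings
  letI aBC : Algebra Γ(Y, V) Γ(X, U) := (f.appLE V U hUV).hom.toAlgebra
  haveI fpBC : Algebra.FinitePresentation Γ(Y, V) Γ(X, U) := by
    have hc : g.appLE T V hVT ≫ f.appLE V U hUV = (f ≫ g).appLE T U hUT :=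
      Scheme.Hom.appLE_comp_appLE _ _ _ _ _ _ _
    have hfp : ((f ≫ g).appLE T U hUT).hom.FinitePresentation :=
      (f ≫ g).finitePresentation_appLE hT hU hUT
    have hft : (g.appLE T V hVT).hom.FiniteType := g.finiteType_appLE hT hV hVT
    rw [← hc, CommRingCat.hom_comp] at hfp
    exact RingHom.FinitePresentation.of_comp_finiteType (g.appLE T V hVT).hom hfp hft
  letI mBN : Module Γ(Y, V) Γ(F, U) := Module.compHom _ (f.appLE V U hUV).hom
  haveI stBCN : IsScalarTower Γ(Y, V) Γ(X, U) Γ(F, U) :=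
    IsScalarTower.of_algebraMap_smul fun r n => rfl
  haveI fpN : Module.FinitePresentation Γ(X, U) Γ(F, U) := QCProps.finitePresentation_sections F hU
  -- the stalk data
  obtain ⟨i1, i2, i3, i4, gF, hg1, hg2, hg3⟩ := QS.exists_isLocalizedModule hU F x hxU
  letI mBW : Module Γ(Y, V) (F.presheaf.stalk x) := Module.compHom _ (f.appLE V U hUV).hom
  haveI stBCW : IsScalarTower Γ(Y, V) Γ(X, U) (F.presheaf.stalk x) :=
    IsScalarTower.of_algebraMap_smul fun r n => rfl
  letI aBB' : Algebra Γ(Y, V) (Y.presheaf.stalk (f x)) :=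
    TopCat.Presheaf.algebra_section_stalk Y.presheaf (U := V) ⟨f x, hyV⟩
  letI mB'W := FlatMod.moduleStalkOver f F x
  haveI stBB'W : IsScalarTower Γ(Y, V) (Y.presheaf.stalk (f x)) (F.presheaf.stalk x) := by
    refine IsScalarTower.of_algebraMap_smul fun r n => ?_
    have e1 : (algebraMap Γ(Y, V) (Y.presheaf.stalk (f x)) r) • n =
        (f.stalkMap x).hom (Y.presheaf.germ V (f x) hyV r) • n := rfl
    have e2 : r • n = (f.appLE V U hUV).hom r • n := rfl
    rw [e1, e2, ← germ_appLE f hUV x hxU r, ← hg1, algebraMap_smul]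
  have hq : (hU.primeIdealOf ⟨x, hxU⟩).asIdeal.comap (algebraMap Γ(Y, V) Γ(X, U)) =
      (hV.primeIdealOf ⟨f x, hyV⟩).asIdeal :=
    congrArg PrimeSpectrum.asIdeal (IsAffineOpen.comap_primeIdealOf_appLE V hV U hU hUV hxU)
  have hsub : ((hU.primeIdealOf ⟨x, hxU⟩).asIdeal.comap
      (algebraMap Γ(Y, V) Γ(X, U))).primeCompl =
      (hV.primeIdealOf ⟨f x, hyV⟩).asIdeal.primeCompl := by
    ext z
    simp only [Ideal.mem_primeCompl_iff]
    rw [hq]
  haveI locB' : IsLocalization.AtPrime (Y.presheaf.stalk (f x))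
      ((hU.primeIdealOf ⟨x, hxU⟩).asIdeal.comap (algebraMap Γ(Y, V) Γ(X, U))) := by
    show IsLocalization _ _
    rw [hsub]
    exact hV.isLocalization_stalk ⟨f x, hyV⟩
  -- the base local ring
  letI aRB' : Algebra (S.presheaf.stalk (g (f x))) (Y.presheaf.stalk (f x)) :=
    (g.stalkMap (f x)).hom.toAlgebra
  letI mRW : Module (S.presheaf.stalk (g (f x))) (F.presheaf.stalk x) :=
    FlatMod.moduleStalkOver (f ≫ g) F x
  haveI stRB'W : IsScalarTower (S.presheaf.stalk (g (f x))) (Y.presheaf.stalk (f x))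
      (F.presheaf.stalk x) := by
    refine IsScalarTower.of_algebraMap_smul fun r n => ?_
    change (f.stalkMap x).hom ((g.stalkMap (f x)).hom r) • n = ((f ≫ g).stalkMap x).hom r • n
    rw [Scheme.Hom.stalkMap_comp]
    rfl
  haveI flRW : Module.Flat (S.presheaf.stalk (g (f x))) (F.presheaf.stalk x) := h1
  have h𝔪 : (IsLocalRing.maximalIdeal (S.presheaf.stalk (g (f x)))).map
      (algebraMap (S.presheaf.stalk (g (f x))) (Y.presheaf.stalk (f x))) ≤
      ((hU.primeIdealOf ⟨x, hxU⟩).asIdeal.comap (algebraMap Γ(Y, V) Γ(X, U))).map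
        (algebraMap Γ(Y, V) (Y.presheaf.stalk (f x))) := by
    rw [IsLocalization.AtPrime.map_eq_maximalIdeal
      ((hU.primeIdealOf ⟨x, hxU⟩).asIdeal.comap (algebraMap Γ(Y, V) Γ(X, U)))
      (Y.presheaf.stalk (f x))]
    exact IsLocalRing.map_maximalIdeal_le (g.stalkMap (f x)).hom
  exact flat_of_flat_of_flat_fibre (R := S.presheaf.stalk (g (f x))) (B := Γ(Y, V))
    (B' := Y.presheaf.stalk (f x)) (C := Γ(X, U)) (N := Γ(F, U)) (W := F.presheaf.stalk x)
    (hU.primeIdealOf ⟨x, hxU⟩).asIdeal gF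
    (IsLocalRing.maximalIdeal (S.presheaf.stalk (g (f x)))) h𝔪 h2

/-- if a finitely presented quasi-coherent module with nonzero stalk at `x` is flat at `x` over
both `Y` and `S`, then `Y → S` is flat at `f x`. -/
theorem flat_stalkMap_of_isFlatOverAt (F : X.Modules) [F.IsQuasicoherent]
    [SheafOfModules.IsFinitePresentation (R := X.ringCatSheaf) F] (x : X)
    [Nontrivial (F.presheaf.stalk x)]
    (h1 : FlatMod.IsFlatOverAt (f ≫ g) F x) (h3 : FlatMod.IsFlatOverAt f F x) :
    (g.stalkMap (f x)).hom.Flat := by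
  letI aRB' : Algebra (S.presheaf.stalk (g (f x))) (Y.presheaf.stalk (f x)) :=
    (g.stalkMap (f x)).hom.toAlgebra
  letI aB'C' : Algebra (Y.presheaf.stalk (f x)) (X.presheaf.stalk x) :=
    (f.stalkMap x).hom.toAlgebra
  letI mB'W := FlatMod.moduleStalkOver f F x
  letI mRW : Module (S.presheaf.stalk (g (f x))) (F.presheaf.stalk x) :=
    FlatMod.moduleStalkOver (f ≫ g) F x
  haveI stRB'W : IsScalarTower (S.presheaf.stalk (g (f x))) (Y.presheaf.stalk (f x))
      (F.presheaf.stalk x) := by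
    refine IsScalarTower.of_algebraMap_smul fun r n => ?_
    change (f.stalkMap x).hom ((g.stalkMap (f x)).hom r) • n = ((f ≫ g).stalkMap x).hom r • n
    rw [Scheme.Hom.stalkMap_comp]
    rfl
  haveI : IsScalarTower (Y.presheaf.stalk (f x)) (X.presheaf.stalk x) (F.presheaf.stalk x) :=
    IsScalarTower.of_algebraMap_smul (fun r y => rfl)
  haveI : IsLocalHom (algebraMap (Y.presheaf.stalk (f x)) (X.presheaf.stalk x)) :=
    inferInstanceAs (IsLocalHom (f.stalkMap x).hom)
  haveI := FibreFree.finitePresentation_stalk F x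
  haveI : Module.Flat (S.presheaf.stalk (g (f x))) (F.presheaf.stalk x) := h1
  haveI : Module.Flat (Y.presheaf.stalk (f x)) (F.presheaf.stalk x) := h3
  haveI : Module.FaithfullyFlat (Y.presheaf.stalk (f x)) (F.presheaf.stalk x) :=
    faithfullyFlat_of_local (B' := Y.presheaf.stalk (f x)) (C' := X.presheaf.stalk x)
  exact flat_of_faithfullyFlat_of_flat (R := S.presheaf.stalk (g (f x)))
    (B' := Y.presheaf.stalk (f x)) (W := F.presheaf.stalk x)

end Groth.Agent.Lib.Helper14.LCF
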