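/-
Helper14 library (LCF): the "critère de platitude par fibres" for the structure sheaf
(EGA IV 11.3.10 with `F = O_X`), stalk form.
-/
import Groth.Agent.Lib.Helper14.LCF.FibreSch

set_option autoImplicit false
set_option linter.style.haveILetI false
universe u
open CategoryTheory CategoryTheory.Limits AlgebraicGeometry TensorProduct Opposite

namespace Groth.Agent.Lib.Helper14.LCF

open Groth.Agent.Lib.Helper3 Groth.Agent.Lib.Helper1.FlatAffine

variable {X Y S : Scheme.{u}} (f : X ⟶ Y) (g : Y ⟶ S)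

/-- if `f ≫ g` is locally of finite presentation and `g` is locally of finite type then `f` is
locally of finite presentation. -/
theorem locallyOfFinitePresentation_of_comp [LocallyOfFinitePresentation (f ≫ g)]
    [LocallyOfFiniteType g] : LocallyOfFinitePresentation f := by
  rw [HasRingHomProperty.iff_exists_appLE (P := @LocallyOfFinitePresentation)
    (RingHom.finitePresentation_stableUnderComposition.stableUnderCompositionWithLocalizationAway
      RingHom.finitePresentation_holdsForLocalizationAway).left]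
  intro x
  obtain ⟨_, ⟨T, hT, rfl⟩, hsT, -⟩ :=
    S.isBasis_affineOpens.exists_subset_of_mem_open (Set.mem_univ (g (f x))) isOpen_univ
  obtain ⟨_, ⟨V, hV, rfl⟩, hyV, hVT⟩ :=
    Y.isBasis_affineOpens.exists_subset_of_mem_open hsT (T.2.preimage g.continuous)
  obtain ⟨_, ⟨U, hU, rfl⟩, hxU, hUV⟩ :=
    X.isBasis_affineOpens.exists_subset_of_mem_open hyV (V.2.preimage f.continuous)
  have hUT : U ≤ (f ≫ g) ⁻¹ᵁ T := fun z hz => hVT (hUV hz)
  refine ⟨⟨V, hV⟩, ⟨U, hU⟩, hxU, hUV, ?_⟩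
  have hc : g.appLE T V hVT ≫ f.appLE V U hUV = (f ≫ g).appLE T U hUT :=
    Scheme.Hom.appLE_comp_appLE _ _ _ _ _ _ _
  have hfp : ((f ≫ g).appLE T U hUT).hom.FinitePresentation :=
    (f ≫ g).finitePresentation_appLE hT hU hUT
  have hft : (g.appLE T V hVT).hom.FiniteType := g.finiteType_appLE hT hV hVT
  rw [← hc, CommRingCat.hom_comp] at hfp
  exact RingHom.FinitePresentation.of_comp_finiteType (g.appLE T V hVT).hom hfp hft

/-- **critère de platitude par fibres**, hard direction, for the structure sheaf: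
`X → S` flat at `x` and `O_{X,x} / 𝔪_s O_{X,x}` flat over `O_{Y,y} / 𝔪_s O_{Y,y}` imply that
`f` is flat at `x`. -/
theorem flat_stalkMap_of_flat_fibre [LocallyOfFinitePresentation (f ≫ g)] [LocallyOfFiniteType g]
    (x : X) (h1 : ((f ≫ g).stalkMap x).hom.Flat)
    (h2 : letI := (f.stalkMap x).hom.toAlgebra
      Module.Flat (↑(Y.presheaf.stalk (f x)) ⧸ Ideal.map (g.stalkMap (f x)).hom
          (IsLocalRing.maximalIdeal ↑(S.presheaf.stalk (g (f x)))))
        (↑(X.presheaf.stalk x) ⧸ (Ideal.map (g.stalkMap (f x)).hom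
          (IsLocalRing.maximalIdeal ↑(S.presheaf.stalk (g (f x)))) •
          (⊤ : Submodule ↑(Y.presheaf.stalk (f x)) ↑(X.presheaf.stalk x))))) :
    (f.stalkMap x).hom.Flat := by
  -- charts
  obtain ⟨_, ⟨T, hT, rfl⟩, hsT, -⟩ :=
    S.isBasis_affineOpens.exists_subset_of_mem_open (Set.mem_univ (g (f x))) isOpen_univ
  obtain ⟨_, ⟨V, hV, rfl⟩, hyV, hVT⟩ :=
    Y.isBasis_affineOpens.exists_subset_of_mem_open hsT (T.2.preimage g.continuous)
  obtain ⟨_, ⟨U, hU, rfl⟩, hxU, hUV⟩ :=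
    X.isBasis_affineOpens.exists_subset_of_mem_open hyV (V.2.preimage f.continuous)
  have hUT : U ≤ (f ≫ g) ⁻¹ᵁ T := fun z hz => hVT (hUV hz)
  -- the chart rings
  letI aBC : Algebra Γ(Y, V) Γ(X, U) := (f.appLE V U hUV).hom.toAlgebra
  haveI fpBC : Algebra.FinitePresentation Γ(Y, V) Γ(X, U) := by
    have hc : g.appLE T V hVT ≫ f.appLE V U hUV = (f ≫ g).appLE T U hUT :=
      Scheme.Hom.appLE_comp_appLE _ _ _ _ _ _ _
    have hfp : ((f ≫ g).appLE T U hUT).hom.FinitePresentation :=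
      (f ≫ g).finitePresentation_appLE hT hU hUT
    have hft : (g.appLE T V hVT).hom.FiniteType := g.finiteType_appLE hT hV hVT
    rw [← hc, CommRingCat.hom_comp] at hfp
    exact RingHom.FinitePresentation.of_comp_finiteType (g.appLE T V hVT).hom hfp hft
  -- the stalk data
  letI aCC' : Algebra Γ(X, U) (X.presheaf.stalk x) :=
    TopCat.Presheaf.algebra_section_stalk X.presheaf (U := U) ⟨x, hxU⟩
  haveI locC' : IsLocalization.AtPrime (X.presheaf.stalk x) (hU.primeIdealOf ⟨x, hxU⟩).asIdeal :=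
    hU.isLocalization_stalk ⟨x, hxU⟩
  letI aB'C' : Algebra (Y.presheaf.stalk (f x)) (X.presheaf.stalk x) :=
    (f.stalkMap x).hom.toAlgebra
  letI mBW : Module Γ(Y, V) (X.presheaf.stalk x) := Module.compHom _ (f.appLE V U hUV).hom
  haveI stBCW : IsScalarTower Γ(Y, V) Γ(X, U) (X.presheaf.stalk x) :=
    IsScalarTower.of_algebraMap_smul fun r n => rfl
  letI aBB' : Algebra Γ(Y, V) (Y.presheaf.stalk (f x)) :=
    TopCat.Presheaf.algebra_section_stalk Y.presheaf (U := V) ⟨f x, hyV⟩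
  haveI stBB'W : IsScalarTower Γ(Y, V) (Y.presheaf.stalk (f x)) (X.presheaf.stalk x) := by
    refine IsScalarTower.of_algebraMap_smul fun r n => ?_
    have e1 : (algebraMap Γ(Y, V) (Y.presheaf.stalk (f x)) r) • n =
        (f.stalkMap x).hom (Y.presheaf.germ V (f x) hyV r) * n := rfl
    have e2 : r • n = X.presheaf.germ U x hxU ((f.appLE V U hUV).hom r) * n := rfl
    rw [e1, e2, ← germ_appLE f hUV x hxU r]
  have hq : (hU.primeIdealOf ⟨x, hxU⟩).asIdeal.comap (algebraMap Γ(Y, V) Γ(X, U)) =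
      (hV.primeIdealOf ⟨f x, hyV⟩).asIdeal :=
    congrArg PrimeSpectrum.asIdeal (IsAffineOpen.comap_primeIdealOf_appLE V hV U hU hUV hxU)
  have hsub : ((hU.primeIdealOf ⟨x, hxU⟩).asIdeal.comap
      (algebraMap Γ(Y, V) Γ(X, U))).primeCompl =
      (hV.primeIdealOf ⟨f x, hyV⟩).asIdeal.primeCompl := by
    ext z
    simp only [Ideal.mem_primeCompl_iff]
    rw [hq]
  haveI locB' : IsLocalization.AtPrime (Y.presheaf.stalk (f x))
      ((hU.primeIdealOf ⟨x, hxU⟩).asIdeal.comap (algebraMap Γ(Y, V) Γ(X, U))) := by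
    show IsLocalization _ _
    rw [hsub]
    exact hV.isLocalization_stalk ⟨f x, hyV⟩
  -- the base local ring
  letI aRB' : Algebra (S.presheaf.stalk (g (f x))) (Y.presheaf.stalk (f x)) :=
    (g.stalkMap (f x)).hom.toAlgebra
  letI mRW : Module (S.presheaf.stalk (g (f x))) (X.presheaf.stalk x) :=
    Module.compHom _ ((f ≫ g).stalkMap x).hom
  haveI stRB'W : IsScalarTower (S.presheaf.stalk (g (f x))) (Y.presheaf.stalk (f x))
      (X.presheaf.stalk x) := by
    refine IsScalarTower.of_algebraMap_smul fun r n => ?_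
    change (f.stalkMap x).hom ((g.stalkMap (f x)).hom r) * n = ((f ≫ g).stalkMap x).hom r * n
    rw [Scheme.Hom.stalkMap_comp]
    rfl
  haveI flRW : Module.Flat (S.presheaf.stalk (g (f x))) (X.presheaf.stalk x) := h1
  have h𝔪 : (IsLocalRing.maximalIdeal (S.presheaf.stalk (g (f x)))).map
      (algebraMap (S.presheaf.stalk (g (f x))) (Y.presheaf.stalk (f x))) ≤
      ((hU.primeIdealOf ⟨x, hxU⟩).asIdeal.comap (algebraMap Γ(Y, V) Γ(X, U))).map
        (algebraMap Γ(Y, V) (Y.presheaf.stalk (f x))) := by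
    rw [IsLocalization.AtPrime.map_eq_maximalIdeal
      ((hU.primeIdealOf ⟨x, hxU⟩).asIdeal.comap (algebraMap Γ(Y, V) Γ(X, U)))
      (Y.presheaf.stalk (f x))]
    exact IsLocalRing.map_maximalIdeal_le (g.stalkMap (f x)).hom
  exact flat_of_flat_of_flat_fibre (R := S.presheaf.stalk (g (f x))) (B := Γ(Y, V))
    (B' := Y.presheaf.stalk (f x)) (C := Γ(X, U)) (N := Γ(X, U)) (W := X.presheaf.stalk x)
    (hU.primeIdealOf ⟨x, hxU⟩).asIdeal (Algebra.linearMap Γ(X, U) (X.presheaf.stalk x))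
    (IsLocalRing.maximalIdeal (S.presheaf.stalk (g (f x)))) h𝔪 h2

end Groth.Agent.Lib.Helper14.LCF
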