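/-
Helper14 library (LCF): flatness of the morphism of fibres `X_s → Y_s` at a point, in terms of
`O_{X,x} / 𝔪_s O_{X,x}` over `O_{Y,y} / 𝔪_s O_{Y,y}`; and the full pointwise
"critère de platitude par fibres" for the structure sheaf.
-/
import Groth.Agent.Lib.Helper14.LCF.FibreRing
import Groth.Agent.Lib.Helper17.FibreStalkMap
import Groth.Agent.Lib.Helper17.FibreFlat
import Groth.Agent.Lib.Helper14.FlatOpen.Stalk
import Groth.Prelude.Def_MoreMor

set_option autoImplicit false
set_option linter.style.haveILetI false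
universe u
open CategoryTheory CategoryTheory.Limits AlgebraicGeometry TensorProduct Opposite

namespace Groth.Agent.Lib.Helper14.LCF

/-- transport of flatness of a quotient along surjections `B ↠ B₀` (kernel `I`) and
`W ↠ W₀` (kernel `I W`). -/
theorem flat_quot_smul_top_of_surjective {B B₀ W W₀ : Type u} [CommRing B] [CommRing B₀]
    [AddCommGroup W] [Module B W] [AddCommGroup W₀] [Module B₀ W₀] [Module B W₀] (I : Ideal B)
    (p : B →+* B₀) (hp : Function.Surjective p) (hker : RingHom.ker p = I)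
    (hsm : ∀ (b : B) (w : W₀), b • w = p b • w)
    (π : W →ₗ[B] W₀) (hπ : Function.Surjective π)
    (hkerπ : LinearMap.ker π = I • (⊤ : Submodule B W)) [Module.Flat B₀ W₀] :
    Module.Flat (B ⧸ I) (W ⧸ I • (⊤ : Submodule B W)) := by
  let ē : (B ⧸ I) →+* B₀ := Ideal.Quotient.lift I p (fun a ha => by
    rw [← hker] at ha; exact ha)
  have hē : Function.Bijective ē := by
    constructor
    · rw [injective_iff_map_eq_zero]
      intro a ha
      obtain ⟨a, rfl⟩ := Ideal.Quotient.mk_surjective a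
      rw [Ideal.Quotient.eq_zero_iff_mem, ← hker]
      exact ha
    · intro b
      obtain ⟨a, rfl⟩ := hp b
      exact ⟨Ideal.Quotient.mk I a, rfl⟩
  letI aQ : Algebra (B ⧸ I) B₀ := ē.toAlgebra
  haveI : Module.Flat (B ⧸ I) B₀ := RingHom.Flat.of_bijective hē
  letI mQ : Module (B ⧸ I) W₀ := Module.compHom W₀ ē
  haveI : IsScalarTower (B ⧸ I) B₀ W₀ := IsScalarTower.of_algebraMap_smul fun r n => rfl
  haveI : Module.Flat (B ⧸ I) W₀ := Module.Flat.trans (B ⧸ I) B₀ W₀
  haveI : IsScalarTower B (B ⧸ I) W₀ := by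
    refine IsScalarTower.of_algebraMap_smul fun b w => ?_
    change ē (Ideal.Quotient.mk I b) • w = b • w
    rw [hsm]
    rfl
  let e₀ : (W ⧸ I • (⊤ : Submodule B W)) ≃ₗ[B] W₀ :=
    (Submodule.quotEquivOfEq _ _ hkerπ.symm).trans (π.quotKerEquivOfSurjective hπ)
  exact Module.Flat.of_linearEquiv
    (e₀.extendScalarsOfSurjective Ideal.Quotient.mk_surjective)

variable {X Y S : Scheme.{u}} (f : X ⟶ Y) (g : Y ⟶ S)

theorem fiberMap_fiberι (s : S) :
    MoreMor.fiberMap f g s ≫ g.fiberι s = (f ≫ g).fiberι s ≫ f :=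
  pullback.lift_fst _ _ _

theorem isPullback_fiberMap (s : S) :
    IsPullback ((f ≫ g).fiberι s) (MoreMor.fiberMap f g s) f (g.fiberι s) := by
  have hsnd : MoreMor.fiberMap f g s ≫ g.fiberToSpecResidueField s =
      (f ≫ g).fiberToSpecResidueField s := pullback.lift_snd _ _ _
  have t : IsPullback (g.fiberι s) (g.fiberToSpecResidueField s) g
      (S.fromSpecResidueField s) := IsPullback.of_hasPullback _ _
  refine IsPullback.of_bot ?_ (fiberMap_fiberι f g s).symm t
  rw [hsnd]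
  exact IsPullback.of_hasPullback (f ≫ g) (S.fromSpecResidueField s)

/-- the ideal `𝔪_{g y} O_{Y,y}` is compatible with `stalkCongr`. -/
theorem comap_stalkCongr_map_maximalIdeal (y y' : Y) (h : y = y') :
    (Ideal.map (g.stalkMap y').hom (IsLocalRing.maximalIdeal (S.presheaf.stalk (g y')))).comap
      (Y.presheaf.stalkCongr (.of_eq h)).hom.hom =
    Ideal.map (g.stalkMap y).hom (IsLocalRing.maximalIdeal (S.presheaf.stalk (g y))) := by
  subst h
  have h1 : (Y.presheaf.stalkCongr (Inseparable.of_eq (rfl : y = y))).hom = 𝟙 _ := by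
    rw [TopCat.Presheaf.stalkCongr_hom]
    exact TopCat.Presheaf.stalkSpecializes_refl _ _
  rw [h1]
  rfl

end Groth.Agent.Lib.Helper14.LCF

namespace Groth.Agent.Lib.Helper14.LCF

open Groth.Agent.Lib.Helper17

variable {X Y S : Scheme.{u}} (f : X ⟶ Y) (g : Y ⟶ S)

/-- the square of stalk maps attached to the square `X_s → Y_s`, `X → Y`. -/
theorem stalkMap_fiberMap_square (s : S) (x₀ : (f ≫ g).fiber s) :
    f.stalkMap ((f ≫ g).fiberι s x₀) ≫ ((f ≫ g).fiberι s).stalkMap x₀ =
      (Y.presheaf.stalkCongr (.of_eq (show f ((f ≫ g).fiberι s x₀) =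
        g.fiberι s (MoreMor.fiberMap f g s x₀) by
          rw [← Scheme.Hom.comp_apply, ← Scheme.Hom.comp_apply, fiberMap_fiberι]))).hom ≫
        (g.fiberι s).stalkMap (MoreMor.fiberMap f g s x₀) ≫
          (MoreMor.fiberMap f g s).stalkMap x₀ := by
  rw [← Scheme.Hom.stalkMap_comp, ← Scheme.Hom.stalkMap_comp]
  exact Scheme.Hom.stalkMap_congr_hom _ _ (fiberMap_fiberι f g s).symm x₀

/-- if the morphism of fibres `X_s → Y_s` is flat at `x₀`, then `O_{X,x}/𝔪_s O_{X,x}` is flat
over `O_{Y,y}/𝔪_s O_{Y,y}` (`x` the image of `x₀` in `X`). -/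
theorem flat_fibre_of_fiberMap (s : S) (x₀ : (f ≫ g).fiber s)
    (h : ((MoreMor.fiberMap f g s).stalkMap x₀).hom.Flat) :
    letI := (f.stalkMap ((f ≫ g).fiberι s x₀)).hom.toAlgebra
    Module.Flat (↑(Y.presheaf.stalk (f ((f ≫ g).fiberι s x₀))) ⧸
        Ideal.map (g.stalkMap (f ((f ≫ g).fiberι s x₀))).hom
          (IsLocalRing.maximalIdeal ↑(S.presheaf.stalk (g (f ((f ≫ g).fiberι s x₀))))))
        (↑(X.presheaf.stalk ((f ≫ g).fiberι s x₀)) ⧸
          (Ideal.map (g.stalkMap (f ((f ≫ g).fiberι s x₀))).hom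
            (IsLocalRing.maximalIdeal ↑(S.presheaf.stalk (g (f ((f ≫ g).fiberι s x₀))))) •
          (⊤ : Submodule ↑(Y.presheaf.stalk (f ((f ≫ g).fiberι s x₀)))
            ↑(X.presheaf.stalk ((f ≫ g).fiberι s x₀))))) := by
  have hpt : f ((f ≫ g).fiberι s x₀) = g.fiberι s (MoreMor.fiberMap f g s x₀) := by
    rw [← Scheme.Hom.comp_apply, ← Scheme.Hom.comp_apply, fiberMap_fiberι]
  have hsq := stalkMap_fiberMap_square f g s x₀
  obtain ⟨hXs, hXk⟩ := FibreStalkMap.stalkMap_fiberι (f ≫ g) s x₀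
  obtain ⟨hYs, hYk⟩ := FibreStalkMap.stalkMap_fiberι g s (MoreMor.fiberMap f g s x₀)
  letI aBW := (f.stalkMap ((f ≫ g).fiberι s x₀)).hom.toAlgebra
  let c := Y.presheaf.stalkCongr (Inseparable.of_eq hpt)
  let p : ↑(Y.presheaf.stalk (f ((f ≫ g).fiberι s x₀))) →+*
      ↑((g.fiber s).presheaf.stalk (MoreMor.fiberMap f g s x₀)) :=
    ((g.fiberι s).stalkMap (MoreMor.fiberMap f g s x₀)).hom.comp c.hom.hom
  letI aB₀W₀ : Algebra ↑((g.fiber s).presheaf.stalk (MoreMor.fiberMap f g s x₀))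
      ↑(((f ≫ g).fiber s).presheaf.stalk x₀) :=
    ((MoreMor.fiberMap f g s).stalkMap x₀).hom.toAlgebra
  letI mBW₀ : Module ↑(Y.presheaf.stalk (f ((f ≫ g).fiberι s x₀)))
      ↑(((f ≫ g).fiber s).presheaf.stalk x₀) :=
    Module.compHom _ (((MoreMor.fiberMap f g s).stalkMap x₀).hom.comp p)
  haveI : Module.Flat ↑((g.fiber s).presheaf.stalk (MoreMor.fiberMap f g s x₀))
      ↑(((f ≫ g).fiber s).presheaf.stalk x₀) := h
  have hcomm : ∀ b : ↑(Y.presheaf.stalk (f ((f ≫ g).fiberι s x₀))),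
      (((f ≫ g).fiberι s).stalkMap x₀).hom ((f.stalkMap ((f ≫ g).fiberι s x₀)).hom b) =
        ((MoreMor.fiberMap f g s).stalkMap x₀).hom (p b) := fun b =>
    congrArg (fun k => k.hom b) hsq
  let π : ↑(X.presheaf.stalk ((f ≫ g).fiberι s x₀)) →ₗ[↑(Y.presheaf.stalk
      (f ((f ≫ g).fiberι s x₀)))] ↑(((f ≫ g).fiber s).presheaf.stalk x₀) :=
    { toFun := (((f ≫ g).fiberι s).stalkMap x₀).hom
      map_add' := map_add _
      map_smul' := fun b w => by
        change (((f ≫ g).fiberι s).stalkMap x₀).hom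
          ((f.stalkMap ((f ≫ g).fiberι s x₀)).hom b * w) =
          ((MoreMor.fiberMap f g s).stalkMap x₀).hom (p b) *
            (((f ≫ g).fiberι s).stalkMap x₀).hom w
        rw [map_mul, hcomm] }
  refine flat_quot_smul_top_of_surjective _ p ?_ ?_ (fun b w => rfl) π hXs ?_
  · exact hYs.comp (ConcreteCategory.bijective_of_isIso c.hom).2
  · rw [← comap_stalkCongr_map_maximalIdeal g _ _ hpt, ← hYk]
    rfl
  · ext w
    rw [LinearMap.mem_ker, Ideal.smul_top_eq_map, Submodule.restrictScalars_mem, Ideal.map_map]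
    change w ∈ RingHom.ker (((f ≫ g).fiberι s).stalkMap x₀).hom ↔ _
    rw [hXk, Scheme.Hom.stalkMap_comp]
    rfl

/-- flatness of `O_S → O_Y` at `f x` from flatness of `f` and `f ≫ g` at `x`. -/
theorem flat_stalkMap_of_comp (x : X) (h1 : ((f ≫ g).stalkMap x).hom.Flat)
    (h2 : (f.stalkMap x).hom.Flat) : (g.stalkMap (f x)).hom.Flat := by
  letI aRB' : Algebra (S.presheaf.stalk (g (f x))) (Y.presheaf.stalk (f x)) :=
    (g.stalkMap (f x)).hom.toAlgebra
  letI aB'C' : Algebra (Y.presheaf.stalk (f x)) (X.presheaf.stalk x) :=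
    (f.stalkMap x).hom.toAlgebra
  letI mRW : Module (S.presheaf.stalk (g (f x))) (X.presheaf.stalk x) :=
    Module.compHom _ ((f ≫ g).stalkMap x).hom
  haveI stRB'W : IsScalarTower (S.presheaf.stalk (g (f x))) (Y.presheaf.stalk (f x))
      (X.presheaf.stalk x) := by
    refine IsScalarTower.of_algebraMap_smul fun r n => ?_
    change (f.stalkMap x).hom ((g.stalkMap (f x)).hom r) * n = ((f ≫ g).stalkMap x).hom r * n
    rw [Scheme.Hom.stalkMap_comp]
    rfl
  haveI : IsLocalHom (algebraMap (Y.presheaf.stalk (f x)) (X.presheaf.stalk x)) :=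
    inferInstanceAs (IsLocalHom (f.stalkMap x).hom)
  haveI : Module.Flat (S.presheaf.stalk (g (f x))) (X.presheaf.stalk x) := h1
  haveI : Module.Flat (Y.presheaf.stalk (f x)) (X.presheaf.stalk x) := h2
  haveI : Module.FaithfullyFlat (Y.presheaf.stalk (f x)) (X.presheaf.stalk x) :=
    faithfullyFlat_of_local (B' := Y.presheaf.stalk (f x)) (C' := X.presheaf.stalk x)
      (W := X.presheaf.stalk x)
  exact flat_of_faithfullyFlat_of_flat (R := S.presheaf.stalk (g (f x)))
    (B' := Y.presheaf.stalk (f x)) (W := X.presheaf.stalk x)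

/-- **critère de platitude par fibres** for the structure sheaf, pointwise. -/
theorem flat_fiberMap_iff [LocallyOfFinitePresentation (f ≫ g)] [LocallyOfFiniteType g] (x : X) :
    ((f ≫ g).stalkMap x).hom.Flat ∧
      ((MoreMor.fiberMap f g (g (f x))).stalkMap ((f ≫ g).asFiber x)).hom.Flat ↔
        (g.stalkMap (f x)).hom.Flat ∧ (f.stalkMap x).hom.Flat := by
  have hx : (f ≫ g).fiberι (g (f x)) ((f ≫ g).asFiber x) = x := (f ≫ g).fiberι_asFiber x
  constructor
  · rintro ⟨h1, h2⟩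
    have h3 := flat_fibre_of_fiberMap f g (g (f x)) ((f ≫ g).asFiber x) h2
    have key : ∀ x' : X, x' = x →
        (letI := (f.stalkMap x').hom.toAlgebra
        Module.Flat (↑(Y.presheaf.stalk (f x')) ⧸ Ideal.map (g.stalkMap (f x')).hom
          (IsLocalRing.maximalIdeal ↑(S.presheaf.stalk (g (f x')))))
        (↑(X.presheaf.stalk x') ⧸ (Ideal.map (g.stalkMap (f x')).hom
          (IsLocalRing.maximalIdeal ↑(S.presheaf.stalk (g (f x')))) •
          (⊤ : Submodule ↑(Y.presheaf.stalk (f x')) ↑(X.presheaf.stalk x'))))) →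
        (f.stalkMap x).hom.Flat := by
      intro x' hx' h
      subst hx'
      exact flat_stalkMap_of_flat_fibre f g x' h1 h
    have h4 := key _ hx h3
    exact ⟨flat_stalkMap_of_comp f g x h1 h4, h4⟩
  · rintro ⟨h1, h2⟩
    refine ⟨?_, ?_⟩
    · rw [Scheme.Hom.stalkMap_comp]
      exact RingHom.Flat.comp h1 h2
    · have key : ∀ x' : X, x' = x → (f.stalkMap x').hom.Flat := by
        intro x' hx'
        subst hx'
        exact h2
      exact FibreFlat.flat_stalkMap_baseChange (isPullback_fiberMap f g (g (f x))).flip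
        ((f ≫ g).asFiber x) (key _ hx)

/-- the locus where `g` is flat at `f x` and `f` is flat at `x` is open. -/
theorem isOpen_flat_flat [LocallyOfFinitePresentation (f ≫ g)] [LocallyOfFiniteType g] :
    IsOpen {x : ↑X | (g.stalkMap (f x)).hom.Flat ∧ (f.stalkMap x).hom.Flat} := by
  haveI := locallyOfFinitePresentation_of_comp f g
  have e : {x : ↑X | (g.stalkMap (f x)).hom.Flat ∧ (f.stalkMap x).hom.Flat} =
      {x : X | ((f ≫ g).stalkMap x).hom.Flat} ∩ {x : X | (f.stalkMap x).hom.Flat} := by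
    ext x
    constructor
    · rintro ⟨h1, h2⟩
      refine ⟨?_, h2⟩
      change ((f ≫ g).stalkMap x).hom.Flat
      rw [Scheme.Hom.stalkMap_comp]
      exact RingHom.Flat.comp h1 h2
    · rintro ⟨h1, h2⟩
      exact ⟨flat_stalkMap_of_comp f g x h1 h2, h2⟩
  rw [e]
  exact (FlatOpen.isOpen_flat_stalkMap (f ≫ g)).inter (FlatOpen.isOpen_flat_stalkMap f)

end Groth.Agent.Lib.Helper14.LCF
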