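/-
Helper14 library (LCF): flatness of a morphism of `S'`-schemes can be checked after restricting to
a thickening `S ⊂ S'` (given flatness of the source over `S'`).
-/
import Groth.Agent.Lib.Helper14.LCF.FibreMapStalk

set_option autoImplicit false
set_option linter.style.haveILetI false
universe u
open CategoryTheory CategoryTheory.Limits AlgebraicGeometry TensorProduct Opposite

namespace Groth.Agent.Lib.Helper14.LCF

open Groth.Agent.Lib.Helper17

/-- The fibre of a base change is the base change of the fibre (after Helper12). -/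
theorem exists_fibre_isPullback {X X' Y Y' : Scheme.{u}} {f : X ⟶ Y} {f' : X' ⟶ Y'}
    {eX : X' ⟶ X} {eY : Y' ⟶ Y} (hX : IsPullback eX f' f eY) (y' : Y') :
    ∃ e : f'.fiber y' ⟶ f.fiber (eY y'),
      IsPullback e (f'.fiberToSpecResidueField y') (f.fiberToSpecResidueField (eY y'))
        (Spec.map (eY.residueFieldMap y')) ∧ e ≫ f.fiberι (eY y') = f'.fiberι y' ≫ eX := by
  have h1 : IsPullback (f'.fiberι y' ≫ eX) (f'.fiberToSpecResidueField y') f
      (Y'.fromSpecResidueField y' ≫ eY) :=
    (IsPullback.of_hasPullback f' (Y'.fromSpecResidueField y')).paste_horiz hX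
  rw [← Scheme.Hom.SpecMap_residueFieldMap_fromSpecResidueField] at h1
  have h2 : IsPullback (f.fiberι (eY y')) (f.fiberToSpecResidueField (eY y')) f
      (Y.fromSpecResidueField (eY y')) := IsPullback.of_hasPullback _ _
  have hw : (f'.fiberι y' ≫ eX) ≫ f = (f'.fiberToSpecResidueField y' ≫
      Spec.map (eY.residueFieldMap y')) ≫ Y.fromSpecResidueField (eY y') := by
    rw [Category.assoc]; exact h1.w
  refine ⟨h2.lift _ _ hw, ?_, h2.lift_fst _ _ hw⟩
  refine IsPullback.of_right ?_ (h2.lift_snd _ _ hw) h2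
  rw [h2.lift_fst]
  exact h1

/-- a closed immersion induces isomorphisms on residue fields. -/
theorem isIso_residueFieldMap_of_isClosedImmersion {S S' : Scheme.{u}} (i : S ⟶ S')
    [IsClosedImmersion i] (s : S) : IsIso (i.residueFieldMap s) := by
  have hs : Function.Surjective (i.residueFieldMap s).hom := by
    have h1 : Function.Surjective ((S'.residue (i s) ≫ i.residueFieldMap s).hom) := by
      rw [Scheme.residue_residueFieldMap, CommRingCat.hom_comp]
      exact (IsLocalRing.residue_surjective (R := S.presheaf.stalk s)).comp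
        (i.stalkMap_surjective s)
    rw [CommRingCat.hom_comp, RingHom.coe_comp] at h1
    exact Function.Surjective.of_comp h1
  exact (ConcreteCategory.isIso_iff_bijective _).2 ⟨RingHom.injective _, hs⟩

/-- **flatness and thickenings**: for `X' → Y' → S'` with `X'` flat and l.f.p. over `S'`, `Y'` l.f.t.
over `S'`, and `S ⊂ S'` a thickening, `X' → Y'` is flat iff its restriction over `S` is. -/
theorem flat_iff_of_thickening {X X' Y Y' S S' : Scheme.{u}} (iX : X ⟶ X') (iY : Y ⟶ Y')
    (iS : S ⟶ S') (f : X ⟶ Y) (f' : X' ⟶ Y') (g : Y ⟶ S) (g' : Y' ⟶ S')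
    [IsClosedImmersion iS] [Surjective iS]
    (hcX : IsPullback iX (f ≫ g) (f' ≫ g') iS) (hcY : IsPullback iY g g' iS)
    (w : iX ≫ f' = f ≫ iY) [Flat (f' ≫ g')] [LocallyOfFinitePresentation (f' ≫ g')]
    [LocallyOfFiniteType g'] :
    Flat f ↔ Flat f' := by
  have hpb : IsPullback iX f f' iY := IsPullback.of_bot hcX w hcY
  constructor
  · intro hf
    rw [Flat.iff_flat_stalkMap]
    intro x'
    haveI : Surjective iX :=
      MorphismProperty.of_isPullback (P := @Surjective) hcX.flip inferInstance
    obtain ⟨x, rfl⟩ := iX.surjective x'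
    obtain ⟨eY₀, hY₀, cY⟩ := exists_fibre_isPullback hcY (g (f x))
    obtain ⟨eX₀, hX₀, cX⟩ := exists_fibre_isPullback hcX (g (f x))
    haveI := isIso_residueFieldMap_of_isClosedImmersion iS (g (f x))
    haveI : IsIso eY₀ := hY₀.isIso_fst_of_isIso
    haveI : IsIso eX₀ := hX₀.isIso_fst_of_isIso
    have c2 : eX₀ ≫ MoreMor.fiberMap f' g' (iS (g (f x))) =
        MoreMor.fiberMap f g (g (f x)) ≫ eY₀ := by
      apply (IsPullback.of_hasPullback g' (S'.fromSpecResidueField (iS (g (f x))))).hom_ext
      · change (eX₀ ≫ MoreMor.fiberMap f' g' (iS (g (f x)))) ≫ g'.fiberι (iS (g (f x))) =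
          (MoreMor.fiberMap f g (g (f x)) ≫ eY₀) ≫ g'.fiberι (iS (g (f x)))
        rw [Category.assoc, fiberMap_fiberι, reassoc_of% cX, Category.assoc, cY,
          reassoc_of% (fiberMap_fiberι f g (g (f x))), w]
      · change (eX₀ ≫ MoreMor.fiberMap f' g' (iS (g (f x)))) ≫
            g'.fiberToSpecResidueField (iS (g (f x))) =
          (MoreMor.fiberMap f g (g (f x)) ≫ eY₀) ≫ g'.fiberToSpecResidueField (iS (g (f x)))
        have e1 : MoreMor.fiberMap f' g' (iS (g (f x))) ≫
            g'.fiberToSpecResidueField (iS (g (f x))) =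
            (f' ≫ g').fiberToSpecResidueField (iS (g (f x))) := pullback.lift_snd _ _ _
        have e2 : MoreMor.fiberMap f g (g (f x)) ≫ g.fiberToSpecResidueField (g (f x)) =
            (f ≫ g).fiberToSpecResidueField (g (f x)) := pullback.lift_snd _ _ _
        rw [Category.assoc, e1, hX₀.w, Category.assoc, hY₀.w, reassoc_of% e2]
    -- the morphism of fibres of `f` is flat
    have hφ : ∀ z, ((MoreMor.fiberMap f g (g (f x))).stalkMap z).hom.Flat := fun z =>
      FibreFlat.flat_stalkMap_baseChange (isPullback_fiberMap f g (g (f x))).flip z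
        (Flat.stalkMap f _)
    have sq : IsPullback (MoreMor.fiberMap f' g' (iS (g (f x)))) (inv eX₀) (inv eY₀)
        (MoreMor.fiberMap f g (g (f x))) :=
      IsPullback.of_vert_isIso ⟨by
        rw [IsIso.comp_inv_eq, Category.assoc, IsIso.eq_inv_comp, c2]⟩
    have hφ' : ∀ z', ((MoreMor.fiberMap f' g' (iS (g (f x)))).stalkMap z').hom.Flat := fun z' =>
      FibreFlat.flat_stalkMap_baseChange sq z' (hφ _)
    set z' := eX₀ ((f ≫ g).asFiber x) with hz'
    have h2 := flat_fibre_of_fiberMap f' g' (iS (g (f x))) z' (hφ' z')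
    have hx'' : (f' ≫ g').fiberι (iS (g (f x))) z' = iX x := by
      rw [hz', ← Scheme.Hom.comp_apply, cX, Scheme.Hom.comp_apply]
      exact congrArg iX ((f ≫ g).fiberι_asFiber x)
    have h3 := flat_stalkMap_of_flat_fibre f' g' _ (Flat.stalkMap (f' ≫ g') _) h2
    have key : ∀ y : X', y = iX x → (f'.stalkMap y).hom.Flat → (f'.stalkMap (iX x)).hom.Flat := by
      intro y hy h
      subst hy
      exact h
    exact key _ hx'' h3
  · intro hf'
    exact MorphismProperty.of_isPullback (P := @Flat) hpb hf'

end Groth.Agent.Lib.Helper14.LCF
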