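/-
Helper14 library (LCF): slicing by a fibrewise nonzerodivisor (EGA IV 11.3.8), without Noetherian
hypotheses, via the "`A[T]`-trick": if `M_q` is `A`-flat and `g ∈ q` is regular on
`M_q / p M_q`, then `M_q` is flat over `A[T]` (with `T` acting as `g`).
-/
import Groth.Agent.Lib.Helper14.LCF.FibreCrit

set_option autoImplicit false
set_option linter.style.haveILetI false
universe u
open TensorProduct Polynomial

namespace Groth.Agent.Lib.Helper14.LCF
open Groth.Agent.Lib.Helper14.FlatStage Groth.Agent.Lib.Helper14.FlatOpen

section CR2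
variable {B W : Type u} [CommRing B] [AddCommGroup W] [Module B W]

/-- Tor-vanishing for `I` and regularity of `t` on `W / I W` give Tor-vanishing for `I + (t)`. -/
theorem rTensor_injective_sup_span (I : Ideal B) (t : B)
    (h1 : Function.Injective (I.subtype.rTensor W))
    (hreg : ∀ w : W, t • w ∈ I • (⊤ : Submodule B W) → w ∈ I • (⊤ : Submodule B W)) :
    Function.Injective ((I ⊔ Ideal.span {t}).subtype.rTensor W) := by
  rw [rTensor_injective_iff_pres] at h1 ⊢
  intro z hzK hzJ
  rw [Submodule.sup_smul] at hzJ
  obtain ⟨i, hi, y, hy, rfl⟩ := Submodule.mem_sup.1 hzJ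
  obtain ⟨x, rfl⟩ : ∃ x, y = t • x := by
    rw [Submodule.ideal_span_singleton_smul] at hy
    obtain ⟨x, -, rfl⟩ := hy
    exact ⟨x, rfl⟩
  have h4 : I • (⊤ : Submodule B W) =
      (I • (⊤ : Submodule B (W →₀ B))).map (presMap B W) := by
    rw [Submodule.map_smul'', Submodule.map_top,
      LinearMap.range_eq_top.2 (presMap_surjective B W)]
  have hπ : t • presMap B W x ∈ I • (⊤ : Submodule B W) := by
    have h0 : presMap B W (i + t • x) = 0 := hzK
    rw [map_add, map_smul] at h0
    have h2 : t • presMap B W x = - presMap B W i := eq_neg_of_add_eq_zero_right h0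
    rw [h2, h4]
    exact neg_mem (Submodule.mem_map_of_mem hi)
  have hx := hreg _ hπ
  rw [h4] at hx
  obtain ⟨i', hi', hi'x⟩ := hx
  have hk : x - i' ∈ LinearMap.ker (presMap B W) := by
    rw [LinearMap.mem_ker, map_sub, hi'x, sub_self]
  have hz : i + t • x = (i + t • i') + t • (x - i') := by rw [smul_sub]; abel
  have hi'' : i + t • i' ∈ I • (⊤ : Submodule B (W →₀ B)) :=
    add_mem hi (Submodule.smul_mem _ _ hi')
  have htk : t • (x - i') ∈ (I ⊔ Ideal.span {t}) • LinearMap.ker (presMap B W) :=
    Submodule.smul_mem_smul (Ideal.mem_sup_right (Ideal.subset_span (Set.mem_singleton t))) hk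
  have hi''K : i + t • i' ∈ LinearMap.ker (presMap B W) := by
    have := sub_mem hzK (Submodule.smul_mem _ t hk)
    rwa [hz, add_sub_cancel_right] at this
  rw [hz]
  exact add_mem (Submodule.smul_mono le_sup_left le_rfl (h1 _ hi''K hi'')) htk

end CR2

section Core
variable {A R B N W : Type u} [CommRing A] [CommRing R] [CommRing B] [Algebra A R] [Algebra R B]
  [Algebra.FinitePresentation R B]
  [AddCommGroup N] [Module B N] [Module R N] [IsScalarTower R B N] [Module.FinitePresentation B N]
  (Q : Ideal B) [Q.IsPrime]
  [AddCommGroup W] [Module B W] [Module R W] [IsScalarTower R B W] [Module A W]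
  [IsScalarTower A R W] (f : N →ₗ[B] W) [IsLocalizedModule Q.primeCompl f]

include f in
/-- **slicing, abstract form**: if `W = N_Q` is flat over `A`, the contraction of `Q` to the
`A`-algebra `R` is `𝔭 R + (t)`, and `t` is regular on `W / 𝔭 W`, then `W` is flat over `R`. -/
theorem flat_of_flat_of_regular_fibre [Module.Flat A W] (𝔭 : Ideal A) (t : R)
    (hcomap : Q.comap (algebraMap R B) = 𝔭.map (algebraMap A R) ⊔ Ideal.span {t})
    (hreg : ∀ w : W, t • w ∈ (𝔭.map (algebraMap A R)) • (⊤ : Submodule R W) →
      w ∈ (𝔭.map (algebraMap A R)) • (⊤ : Submodule R W)) :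
    Module.Flat R W := by
  have h1 := rTensor_injective_map_of_flat (R := A) (B := R) (W := W) 𝔭
  have h2 := rTensor_injective_sup_span _ t h1 hreg
  rw [← hcomap] at h2
  exact flat_of_isLocalizedModule_of_rTensor_injective (A := R) (S := B) (N := N) Q f h2

end Core

section Poly
variable (A : Type u) {B : Type u} [CommRing A] [CommRing B] [Algebra A B] (g : B)

/-- `B` as an `A[X]`-algebra via `X ↦ g`. -/
@[reducible] noncomputable def polyAlgebra : Algebra A[X] B :=
  (Polynomial.aeval g : A[X] →ₐ[A] B).toRingHom.toAlgebra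

/-- a `B`-module as an `A[X]`-module via `X ↦ g`. -/
@[reducible] noncomputable def polyModule (W : Type u) [AddCommGroup W] [Module B W] :
    Module A[X] W :=
  Module.compHom W (Polynomial.aeval g : A[X] →ₐ[A] B).toRingHom

theorem polyAlgebra_isScalarTower :
    letI := polyAlgebra A g
    IsScalarTower A A[X] B := by
  letI := polyAlgebra A g
  refine IsScalarTower.of_algebraMap_eq fun a => ?_
  change algebraMap A B a = Polynomial.aeval g (Polynomial.C a)
  rw [Polynomial.aeval_C]

theorem polyAlgebra_finitePresentation [Algebra.FinitePresentation A B] :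
    letI := polyAlgebra A g
    Algebra.FinitePresentation A[X] B := by
  letI := polyAlgebra A g
  haveI := polyAlgebra_isScalarTower A g
  exact Algebra.FinitePresentation.of_restrict_scalars_finitePresentation A A[X] B

theorem comap_polyAlgebra (Q : Ideal B) [Q.IsPrime] (hg : g ∈ Q) :
    letI := polyAlgebra A g
    Q.comap (algebraMap A[X] B) =
      (Q.comap (algebraMap A B)).map (algebraMap A A[X]) ⊔ Ideal.span {Polynomial.X} := by
  letI := polyAlgebra A g
  apply le_antisymm
  · intro r hr
    have hr' : Polynomial.aeval g r ∈ Q := hr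
    have hdec : r = Polynomial.C (r.coeff 0) + Polynomial.X * r.divX := by
      conv_lhs => rw [← Polynomial.divX_mul_X_add r]
      ring
    have h0 : algebraMap A B (r.coeff 0) ∈ Q := by
      rw [hdec, map_add, map_mul, Polynomial.aeval_C, Polynomial.aeval_X] at hr'
      have h1 : g * Polynomial.aeval g r.divX ∈ Q := Q.mul_mem_right _ hg
      have := Q.sub_mem hr' h1
      rwa [add_sub_cancel_right] at this
    rw [hdec]
    refine Ideal.add_mem _ (Ideal.mem_sup_left (Ideal.mem_map_of_mem _ h0))
      (Ideal.mem_sup_right ?_)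
    exact Ideal.mul_mem_right _ _ (Ideal.subset_span (Set.mem_singleton _))
  · refine sup_le ?_ ?_
    · rw [Ideal.map_le_iff_le_comap]
      intro a ha
      change Polynomial.aeval g (Polynomial.C a) ∈ Q
      rw [Polynomial.aeval_C]
      exact ha
    · rw [Ideal.span_le, Set.singleton_subset_iff]
      change Polynomial.aeval g Polynomial.X ∈ Q
      rw [Polynomial.aeval_X]
      exact hg

end Poly

section PolyMain
variable {A B N W : Type u} [CommRing A] [CommRing B] [Algebra A B]
  [Algebra.FinitePresentation A B] [AddCommGroup N] [Module B N]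
  [Module.FinitePresentation B N] (Q : Ideal B) [Q.IsPrime] (g : B)
  [AddCommGroup W] [Module B W] [Module A W] [IsScalarTower A B W]
  (f : N →ₗ[B] W) [IsLocalizedModule Q.primeCompl f]

theorem mem_map_smul_top_iff {A R W : Type u} [CommRing A] [CommRing R] [Algebra A R]
    [AddCommGroup W] [Module R W] [Module A W] [IsScalarTower A R W] (𝔭 : Ideal A) (x : W) :
    x ∈ (𝔭.map (algebraMap A R)) • (⊤ : Submodule R W) ↔ x ∈ 𝔭 • (⊤ : Submodule A W) := by
  have := Ideal.smul_restrictScalars 𝔭 (⊤ : Submodule R W)
  rw [Submodule.restrictScalars_top] at this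
  rw [← this]
  rfl

include f in
/-- **slicing, polynomial form**: if `W = N_Q` is `A`-flat and `g ∈ Q` is regular on
`W / p W`, then `W` is flat over `A[X]`, `X` acting as `g`. -/
theorem flat_polynomial_of_regular_fibre (hg : g ∈ Q) [Module.Flat A W]
    (hreg : ∀ w : W, g • w ∈ (Q.comap (algebraMap A B)) • (⊤ : Submodule A W) →
      w ∈ (Q.comap (algebraMap A B)) • (⊤ : Submodule A W)) :
    letI := polyModule A g W
    Module.Flat A[X] W := by
  letI := polyAlgebra A g
  haveI := polyAlgebra_isScalarTower A g
  haveI := polyAlgebra_finitePresentation A g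
  letI mRN := polyModule A g N
  letI mRW := polyModule A g W
  haveI : IsScalarTower A[X] B N := IsScalarTower.of_algebraMap_smul fun r n => rfl
  haveI : IsScalarTower A[X] B W := IsScalarTower.of_algebraMap_smul fun r n => rfl
  haveI : IsScalarTower A A[X] W := by
    refine IsScalarTower.of_algebraMap_smul fun a w => ?_
    change Polynomial.aeval g (Polynomial.C a) • w = a • w
    rw [Polynomial.aeval_C, algebraMap_smul]
  refine flat_of_flat_of_regular_fibre (A := A) (R := A[X]) (B := B) (N := N) Q f
    (Q.comap (algebraMap A B)) Polynomial.X (comap_polyAlgebra A g Q hg) ?_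
  intro w hw
  rw [mem_map_smul_top_iff] at hw ⊢
  refine hreg w ?_
  have : (Polynomial.X : A[X]) • w = g • w := by
    change Polynomial.aeval g Polynomial.X • w = g • w
    rw [Polynomial.aeval_X]
  rwa [this] at hw

end PolyMain

/-- flatness passes to the quotient by `I`, in the form `W / I W` over `B / I`. -/
theorem flat_quot_smul_top' {B W : Type u} [CommRing B] [AddCommGroup W] [Module B W]
    [Module.Flat B W] (I : Ideal B) :
    Module.Flat (B ⧸ I) (W ⧸ I • (⊤ : Submodule B W)) :=
  Module.Flat.of_linearEquiv
    ((quotTensorEquivQuotSMul W I).extendScalarsOfSurjective Ideal.Quotient.mk_surjective).symm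

section Conseq
variable {A B W : Type u} [CommRing A] [CommRing B] [Algebra A B] (g : B)
  [AddCommGroup W] [Module B W] [Module A W] [IsScalarTower A B W]

/-- if `W` is flat over `A[X]` (`X` acting as `g`), then `g` is regular on `W`. -/
theorem isSMulRegular_of_flat_polynomial
    (h : letI := polyModule A g W; Module.Flat A[X] W) : IsSMulRegular W g := by
  letI := polyModule A g W
  haveI : Module.Flat A[X] W := h
  have h1 : IsSMulRegular W (Polynomial.X : A[X]) :=
    Module.Flat.isSMulRegular_of_isRegular Polynomial.isRegular_X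
  intro w₁ w₂ hw
  apply h1
  change Polynomial.aeval g Polynomial.X • w₁ = Polynomial.aeval g Polynomial.X • w₂
  rw [Polynomial.aeval_X]
  exact hw

/-- if `W` is flat over `A[X]` (`X` acting as `g`), then `W / g W` is flat over `A`. -/
theorem flat_quot_of_flat_polynomial
    (h : letI := polyModule A g W; Module.Flat A[X] W) :
    Module.Flat A (W ⧸ (Ideal.span {g} • (⊤ : Submodule B W))) := by
  letI := polyModule A g W
  haveI : Module.Flat A[X] W := h
  haveI : IsScalarTower A A[X] W := by
    refine IsScalarTower.of_algebraMap_smul fun a w => ?_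
    change Polynomial.aeval g (Polynomial.C a) • w = a • w
    rw [Polynomial.aeval_C, algebraMap_smul]
  -- flat over `A[X]/(X)`
  haveI h1 : Module.Flat (A[X] ⧸ Ideal.span {(Polynomial.X : A[X])})
      (W ⧸ (Ideal.span {(Polynomial.X : A[X])} • (⊤ : Submodule A[X] W))) :=
    flat_quot_smul_top' _
  -- `A[X]/(X)` is flat over `A`
  haveI h2 : Module.Flat A (A[X] ⧸ Ideal.span {(Polynomial.X : A[X])}) := by
    have e := Polynomial.quotientSpanXSubCAlgEquiv (0 : A)
    rw [map_zero, sub_zero] at e
    exact Module.Flat.of_linearEquiv e.toLinearEquiv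
  haveI h3 : Module.Flat A (W ⧸ (Ideal.span {(Polynomial.X : A[X])} • (⊤ : Submodule A[X] W))) :=
    Module.Flat.trans A (A[X] ⧸ Ideal.span {(Polynomial.X : A[X])}) _
  -- compare the two quotients
  have hcar : (Ideal.span {(Polynomial.X : A[X])} • (⊤ : Submodule A[X] W)).restrictScalars A =
      (Ideal.span {g} • (⊤ : Submodule B W)).restrictScalars A := by
    ext w
    simp only [Submodule.restrictScalars_mem]
    rw [Submodule.ideal_span_singleton_smul, Submodule.ideal_span_singleton_smul]
    constructor
    · rintro ⟨v, -, rfl⟩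
      refine ⟨v, trivial, ?_⟩
      change g • v = Polynomial.aeval g Polynomial.X • v
      rw [Polynomial.aeval_X]
    · rintro ⟨v, -, rfl⟩
      refine ⟨v, trivial, ?_⟩
      change Polynomial.aeval g Polynomial.X • v = g • v
      rw [Polynomial.aeval_X]
  let e : (W ⧸ (Ideal.span {(Polynomial.X : A[X])} • (⊤ : Submodule A[X] W))) ≃ₗ[A]
      (W ⧸ (Ideal.span {g} • (⊤ : Submodule B W))) :=
    ((Submodule.Quotient.restrictScalarsEquiv A _).symm.trans
      (Submodule.quotEquivOfEq _ _ hcar)).trans (Submodule.Quotient.restrictScalarsEquiv A _)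
  exact Module.Flat.of_linearEquiv e.symm

end Conseq

section Open
variable {A B N : Type u} [CommRing A] [CommRing B] [Algebra A B]
  [Algebra.FinitePresentation A B] [AddCommGroup N] [Module B N] [Module A N]
  [IsScalarTower A B N] [Module.FinitePresentation B N] (Q : Ideal B) [Q.IsPrime] (g : B)

/-- a `B`-linear equivalence is `A[X]`-linear for the structures `X ↦ g`. -/
noncomputable def polyEquiv {W W' : Type u} [AddCommGroup W] [Module B W] [AddCommGroup W']
    [Module B W'] (e : W ≃ₗ[B] W') :
    letI := polyModule A g W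
    letI := polyModule A g W'
    W ≃ₗ[A[X]] W' :=
  letI := polyModule A g W
  letI := polyModule A g W'
  { e with map_smul' := fun r w => e.map_smul (Polynomial.aeval g r) w }

/-- **slicing, local form**: if `W = N_Q` is `A`-flat and `g ∈ Q` is regular on `W / p W`, then on
a basic open neighbourhood `D(c)` of `Q`, `g` is `N_c`-regular and `N_c / g N_c` is `A`-flat. -/
theorem exists_away_regular_flat (hg : g ∈ Q) {W : Type u} [AddCommGroup W] [Module B W]
    [Module A W] [IsScalarTower A B W] (f : N →ₗ[B] W) [IsLocalizedModule Q.primeCompl f]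
    [Module.Flat A W]
    (hreg : ∀ w : W, g • w ∈ (Q.comap (algebraMap A B)) • (⊤ : Submodule A W) →
      w ∈ (Q.comap (algebraMap A B)) • (⊤ : Submodule A W)) :
    ∃ c : B, c ∉ Q ∧ ∀ (N' : Type u) [AddCommGroup N'] [Module B N'] [Module A N']
      [IsScalarTower A B N'] (f' : N →ₗ[B] N') [IsLocalizedModule (Submonoid.powers c) f'],
      IsSMulRegular N' g ∧ Module.Flat A (N' ⧸ (Ideal.span {g} • (⊤ : Submodule B N'))) := by
  have h0 := flat_polynomial_of_regular_fibre (A := A) Q g f hg hreg
  have h0' : letI := polyModule A g (LocalizedModule Q.primeCompl N)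
      Module.Flat A[X] (LocalizedModule Q.primeCompl N) := by
    letI := polyModule A g (LocalizedModule Q.primeCompl N)
    letI := polyModule A g W
    haveI := h0
    exact Module.Flat.of_linearEquiv (polyEquiv (A := A) g
      (IsLocalizedModule.linearEquiv Q.primeCompl
        (LocalizedModule.mkLinearMap Q.primeCompl N) f))
  letI := polyAlgebra A g
  haveI := polyAlgebra_isScalarTower A g
  haveI := polyAlgebra_finitePresentation A g
  letI mRN := polyModule A g N
  haveI : IsScalarTower A[X] B N := IsScalarTower.of_algebraMap_smul fun r n => rfl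
  have heq : ∀ (T : Submonoid B), polyModule A g (LocalizedModule T N) =
      (inferInstance : Module A[X] (LocalizedModule T N)) := by
    intro T
    refine Module.ext' _ _ fun r w => ?_
    exact algebraMap_smul B r w
  rw [heq] at h0'
  obtain ⟨c, hc, hfl⟩ := exists_flatOnD (A := A[X]) (S := B) (N := N) Q h0'
  rw [flatOnD_iff] at hfl
  refine ⟨c, hc, ?_⟩
  intro N' _ _ _ _ f' _
  have hfl' : letI := polyModule A g (LocalizedModule (Submonoid.powers c) N)
      Module.Flat A[X] (LocalizedModule (Submonoid.powers c) N) := by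
    rw [heq]
    exact hfl
  have hfl'' : letI := polyModule A g N'
      Module.Flat A[X] N' := by
    letI := polyModule A g (LocalizedModule (Submonoid.powers c) N)
    letI := polyModule A g N'
    haveI := hfl'
    exact Module.Flat.of_linearEquiv (polyEquiv (A := A) g
      (IsLocalizedModule.linearEquiv (Submonoid.powers c)
        (LocalizedModule.mkLinearMap (Submonoid.powers c) N) f')).symm
  exact ⟨isSMulRegular_of_flat_polynomial (A := A) g hfl'',
    flat_quot_of_flat_polynomial (A := A) g hfl''⟩

include Q in
/-- **slicing, pointwise form**. -/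
theorem regular_and_flat_quot_of_regular_fibre (hg : g ∈ Q) {W : Type u} [AddCommGroup W]
    [Module B W] [Module A W] [IsScalarTower A B W] (f : N →ₗ[B] W)
    [IsLocalizedModule Q.primeCompl f] [Module.Flat A W]
    (hreg : ∀ w : W, g • w ∈ (Q.comap (algebraMap A B)) • (⊤ : Submodule A W) →
      w ∈ (Q.comap (algebraMap A B)) • (⊤ : Submodule A W)) :
    IsSMulRegular W g ∧ Module.Flat A (W ⧸ (Ideal.span {g} • (⊤ : Submodule B W))) := by
  have h0 := flat_polynomial_of_regular_fibre (A := A) Q g f hg hreg
  exact ⟨isSMulRegular_of_flat_polynomial (A := A) g h0,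
    flat_quot_of_flat_polynomial (A := A) g h0⟩

end Open

end Groth.Agent.Lib.Helper14.LCF
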