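/-
Helper14 library (LCF): slicing a flat l.f.p. morphism by a lift of a fibrewise nonzerodivisor
(EGA IV 11.3.8), scheme form.
-/
import Groth.Agent.Lib.Helper14.LCF.Slice
import Groth.Agent.Lib.Helper1.FlatAffine

set_option autoImplicit false
set_option linter.style.haveILetI false
universe u
open CategoryTheory CategoryTheory.Limits AlgebraicGeometry TensorProduct Opposite

namespace Groth.Agent.Lib.Helper14.LCF

open Groth.Agent.Lib.Helper1.FlatAffine

/-- transfer of flatness from `N' / (g) N'` (module quotient over `C`) to the ring quotient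
`C' / (g')`. -/
theorem flat_quot_span_of_flat_quot_smul {A C C' : Type u} [CommRing A] [CommRing C] [CommRing C']
    [Algebra A C] [Algebra C C'] [Algebra A C'] [IsScalarTower A C C'] (g : C)
    (h : Module.Flat A (C' ⧸ (Ideal.span {g} • (⊤ : Submodule C C')))) :
    Module.Flat A (C' ⧸ Ideal.span {algebraMap C C' g}) := by
  have hcar : (Ideal.span {g} • (⊤ : Submodule C C')).restrictScalars A =
      (Ideal.span {algebraMap C C' g} : Submodule C' C').restrictScalars A := by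
    ext w
    simp only [Submodule.restrictScalars_mem]
    rw [Submodule.ideal_span_singleton_smul]
    constructor
    · rintro ⟨v, -, rfl⟩
      change g • v ∈ Ideal.span {algebraMap C C' g}
      rw [Algebra.smul_def]
      exact Ideal.mul_mem_right _ _ (Ideal.subset_span (Set.mem_singleton _))
    · intro hw
      obtain ⟨v, rfl⟩ := Ideal.mem_span_singleton'.1 hw
      refine ⟨v, trivial, ?_⟩
      change g • v = v * algebraMap C C' g
      rw [Algebra.smul_def, mul_comm]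
  let e : (C' ⧸ (Ideal.span {g} • (⊤ : Submodule C C'))) ≃ₗ[A]
      (C' ⧸ (Ideal.span {algebraMap C C' g} : Submodule C' C')) :=
    ((Submodule.Quotient.restrictScalarsEquiv A _).symm.trans
      (Submodule.quotEquivOfEq _ _ hcar)).trans (Submodule.Quotient.restrictScalarsEquiv A _)
  exact Module.Flat.of_linearEquiv e.symm

/-- **slicing by a lift of a fibrewise nonzerodivisor**, scheme form. -/
theorem exists_slice {X S : Scheme.{u}} (f : X ⟶ S) [LocallyOfFinitePresentation f] (x : X)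
    (hflat : (f.stalkMap x).hom.Flat) (h : X.presheaf.stalk x)
    (hm : h ∈ IsLocalRing.maximalIdeal (X.presheaf.stalk x))
    (hreg : ∀ w : X.presheaf.stalk x,
      h * w ∈ Ideal.map (f.stalkMap x).hom (IsLocalRing.maximalIdeal (S.presheaf.stalk (f x))) →
      w ∈ Ideal.map (f.stalkMap x).hom (IsLocalRing.maximalIdeal (S.presheaf.stalk (f x)))) :
    ∃ (U : X.Opens) (hU : IsAffineOpen U) (hx : x ∈ U) (h' : Γ(X, U)),
      X.presheaf.germ U x hx h' = h ∧ h' ∈ nonZeroDivisors Γ(X, U) ∧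
      Flat (Spec.map (CommRingCat.ofHom (Ideal.Quotient.mk (Ideal.span {h'}))) ≫
        hU.fromSpec ≫ f) ∧
      LocallyOfFinitePresentation (Spec.map (CommRingCat.ofHom
        (Ideal.Quotient.mk (Ideal.span {h'}))) ≫ hU.fromSpec ≫ f) := by
  obtain ⟨V₀, hxV₀, t, ht⟩ := X.presheaf.exists_germ_eq h
  obtain ⟨_, ⟨T, hT, rfl⟩, hsT, -⟩ :=
    S.isBasis_affineOpens.exists_subset_of_mem_open (Set.mem_univ (f x)) isOpen_univ
  obtain ⟨_, ⟨U₀, hU₀, rfl⟩, hxU₀, hU₀le⟩ :=
    X.isBasis_affineOpens.exists_subset_of_mem_open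
      (show x ∈ ((f ⁻¹ᵁ T ⊓ V₀ : X.Opens) : Set X) from ⟨hsT, hxV₀⟩) (f ⁻¹ᵁ T ⊓ V₀).2
  have hU₀T : U₀ ≤ f ⁻¹ᵁ T := fun z hz => (hU₀le hz).1
  have hU₀V : U₀ ≤ V₀ := fun z hz => (hU₀le hz).2
  set h₀ : Γ(X, U₀) := X.presheaf.map (homOfLE hU₀V).op t with hh₀def
  have hh₀ : X.presheaf.germ U₀ x hxU₀ h₀ = h := by
    rw [← ht]
    exact TopCat.Presheaf.germ_res_apply X.presheaf (homOfLE hU₀V) x hxU₀ t
  -- algebra structures
  letI aAC : Algebra Γ(S, T) Γ(X, U₀) := (f.appLE T U₀ hU₀T).hom.toAlgebra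
  haveI fpAC : Algebra.FinitePresentation Γ(S, T) Γ(X, U₀) :=
    f.finitePresentation_appLE hT hU₀ hU₀T
  set Q := (hU₀.primeIdealOf ⟨x, hxU₀⟩).asIdeal with hQ
  letI aCO : Algebra Γ(X, U₀) (X.presheaf.stalk x) :=
    TopCat.Presheaf.algebra_section_stalk X.presheaf (U := U₀) ⟨x, hxU₀⟩
  haveI locO : IsLocalization.AtPrime (X.presheaf.stalk x) Q :=
    hU₀.isLocalization_stalk ⟨x, hxU₀⟩
  letI aAO : Algebra Γ(S, T) (X.presheaf.stalk x) :=
    ((algebraMap Γ(X, U₀) (X.presheaf.stalk x)).comp (algebraMap Γ(S, T) Γ(X, U₀))).toAlgebra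
  haveI : IsScalarTower Γ(S, T) Γ(X, U₀) (X.presheaf.stalk x) :=
    IsScalarTower.of_algebraMap_eq fun _ => rfl
  letI aAOs : Algebra Γ(S, T) (S.presheaf.stalk (f x)) :=
    TopCat.Presheaf.algebra_section_stalk S.presheaf (U := T) ⟨f x, hsT⟩
  haveI locOs : IsLocalization.AtPrime (S.presheaf.stalk (f x))
      (hT.primeIdealOf ⟨f x, hsT⟩).asIdeal := hT.isLocalization_stalk ⟨f x, hsT⟩
  letI aOsO : Algebra (S.presheaf.stalk (f x)) (X.presheaf.stalk x) :=
    (f.stalkMap x).hom.toAlgebra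
  haveI : IsScalarTower Γ(S, T) (S.presheaf.stalk (f x)) (X.presheaf.stalk x) :=
    IsScalarTower.of_algebraMap_eq fun r => germ_appLE f hU₀T x hxU₀ r
  haveI : Module.Flat (S.presheaf.stalk (f x)) (X.presheaf.stalk x) := hflat
  haveI : Module.Flat Γ(S, T) (S.presheaf.stalk (f x)) :=
    IsLocalization.flat _ (hT.primeIdealOf ⟨f x, hsT⟩).asIdeal.primeCompl
  haveI flAO : Module.Flat Γ(S, T) (X.presheaf.stalk x) :=
    Module.Flat.trans Γ(S, T) (S.presheaf.stalk (f x)) (X.presheaf.stalk x)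
  have hg : h₀ ∈ Q := by
    rw [← IsLocalization.AtPrime.to_map_mem_maximal_iff (X.presheaf.stalk x) Q h₀]
    change X.presheaf.germ U₀ x hxU₀ h₀ ∈ _
    rw [hh₀]
    exact hm
  have hq : Q.comap (algebraMap Γ(S, T) Γ(X, U₀)) = (hT.primeIdealOf ⟨f x, hsT⟩).asIdeal :=
    congrArg PrimeSpectrum.asIdeal (IsAffineOpen.comap_primeIdealOf_appLE T hT U₀ hU₀ hU₀T hxU₀)
  have hmem : ∀ w : X.presheaf.stalk x,
      w ∈ (Q.comap (algebraMap Γ(S, T) Γ(X, U₀))) • (⊤ : Submodule Γ(S, T) (X.presheaf.stalk x)) ↔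
      w ∈ Ideal.map (f.stalkMap x).hom (IsLocalRing.maximalIdeal (S.presheaf.stalk (f x))) := by
    intro w
    rw [Ideal.smul_top_eq_map, Submodule.restrictScalars_mem, hq,
      IsScalarTower.algebraMap_eq Γ(S, T) (S.presheaf.stalk (f x)) (X.presheaf.stalk x),
      ← Ideal.map_map, IsLocalization.AtPrime.map_eq_maximalIdeal
        (hT.primeIdealOf ⟨f x, hsT⟩).asIdeal (S.presheaf.stalk (f x))]
    rfl
  have hregQ : ∀ w : X.presheaf.stalk x,
      h₀ • w ∈ (Q.comap (algebraMap Γ(S, T) Γ(X, U₀))) •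
        (⊤ : Submodule Γ(S, T) (X.presheaf.stalk x)) →
      w ∈ (Q.comap (algebraMap Γ(S, T) Γ(X, U₀))) •
        (⊤ : Submodule Γ(S, T) (X.presheaf.stalk x)) := by
    intro w hw
    rw [hmem] at hw ⊢
    refine hreg w ?_
    have e : h₀ • w = h * w := by
      rw [Algebra.smul_def, ← hh₀]
      rfl
    rwa [e] at hw
  obtain ⟨c, hc, H⟩ := exists_away_regular_flat (A := Γ(S, T)) (B := Γ(X, U₀))
    (N := Γ(X, U₀)) Q h₀ hg (Algebra.linearMap Γ(X, U₀) (X.presheaf.stalk x)) hregQ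
  -- the smaller affine open
  have hxU : x ∈ X.basicOpen c := by
    rw [Scheme.mem_basicOpen X c x hxU₀]
    exact (IsLocalization.AtPrime.isUnit_to_map_iff (X.presheaf.stalk x) Q c).2 hc
  have hU : IsAffineOpen (X.basicOpen c) := hU₀.basicOpen c
  have hUT : X.basicOpen c ≤ f ⁻¹ᵁ T := le_trans (X.basicOpen_le c) hU₀T
  haveI locU : IsLocalization.Away c Γ(X, X.basicOpen c) := hU₀.isLocalization_basicOpen c
  letI aAU : Algebra Γ(S, T) Γ(X, X.basicOpen c) :=
    ((algebraMap Γ(X, U₀) Γ(X, X.basicOpen c)).comp (algebraMap Γ(S, T) Γ(X, U₀))).toAlgebra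
  haveI : IsScalarTower Γ(S, T) Γ(X, U₀) Γ(X, X.basicOpen c) :=
    IsScalarTower.of_algebraMap_eq fun _ => rfl
  obtain ⟨hregU, hflU⟩ := H Γ(X, X.basicOpen c)
    (Algebra.linearMap Γ(X, U₀) Γ(X, X.basicOpen c))
  have hflU' := flat_quot_span_of_flat_quot_smul (A := Γ(S, T)) h₀ hflU
  refine ⟨X.basicOpen c, hU, hxU, algebraMap Γ(X, U₀) Γ(X, X.basicOpen c) h₀, ?_, ?_, ?_⟩
  · rw [← hh₀]
    exact TopCat.Presheaf.germ_res_apply X.presheaf (homOfLE (X.basicOpen_le c)) x hxU h₀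
  · rw [mem_nonZeroDivisors_iff_right]
    intro y hy
    apply hregU
    show h₀ • y = h₀ • 0
    rw [smul_zero, Algebra.smul_def, mul_comm]
    exact hy
  · set h' := algebraMap Γ(X, U₀) Γ(X, X.basicOpen c) h₀ with hh'
    set ψ : Γ(S, T) ⟶ CommRingCat.of (Γ(X, X.basicOpen c) ⧸ Ideal.span {h'}) :=
      f.appLE T (X.basicOpen c) hUT ≫ CommRingCat.ofHom (Ideal.Quotient.mk (Ideal.span {h'}))
      with hψ
    have e1 : Spec.map (CommRingCat.ofHom (Ideal.Quotient.mk (Ideal.span {h'}))) ≫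
        hU.fromSpec ≫ f = Spec.map ψ ≫ hT.fromSpec := by
      rw [← hT.SpecMap_appLE_fromSpec f hU hUT, hψ, Spec.map_comp, Category.assoc]
    rw [e1]
    have hψfp : ψ.hom.FinitePresentation := by
      rw [hψ, CommRingCat.hom_comp]
      refine RingHom.FinitePresentation.comp ?_ (f.finitePresentation_appLE hT hU hUT)
      refine RingHom.FinitePresentation.of_surjective _ Ideal.Quotient.mk_surjective ?_
      rw [CommRingCat.hom_ofHom, Ideal.mk_ker]
      exact ⟨{h'}, by simp⟩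
    have hψfl : ψ.hom.Flat := by
      have h3 : (algebraMap Γ(S, T) (Γ(X, X.basicOpen c) ⧸ Ideal.span {h'})).Flat :=
        RingHom.flat_algebraMap_iff.2 hflU'
      have h4 : ψ.hom = algebraMap Γ(S, T) (Γ(X, X.basicOpen c) ⧸ Ideal.span {h'}) := by
        ext a
        change Ideal.Quotient.mk _ ((f.appLE T (X.basicOpen c) hUT).hom a) =
          Ideal.Quotient.mk _ (algebraMap Γ(X, U₀) Γ(X, X.basicOpen c)
            (algebraMap Γ(S, T) Γ(X, U₀) a))
        congr 1
        exact congr($(Scheme.Hom.appLE_map f hU₀T (homOfLE (X.basicOpen_le c)).op).hom a).symm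
      rw [h4]
      exact h3
    haveI : Flat (Spec.map ψ) := (HasRingHomProperty.Spec_iff (P := @Flat)).2 hψfl
    haveI : LocallyOfFinitePresentation (Spec.map ψ) :=
      (HasRingHomProperty.Spec_iff (P := @LocallyOfFinitePresentation)).2 hψfp
    exact ⟨inferInstance, inferInstance⟩

end Groth.Agent.Lib.Helper14.LCF
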