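/-
Helper14 library (LCF): slicing by a fibrewise regular sequence (EGA IV 11.3.8), without
Noetherian hypotheses, via the multi-variable "`A[T₁,…,Tₙ]`-trick".
-/
import Groth.Agent.Lib.Helper14.LCF.Slice
import Groth.Agent.Lib.Helper4.KosPoly

set_option autoImplicit false
set_option linter.style.haveILetI false
universe u
open TensorProduct MvPolynomial

namespace Groth.Agent.Lib.Helper14.LCF
open Groth.Agent.Lib.Helper14.FlatStage Groth.Agent.Lib.Helper14.FlatOpen

section Vars

theorem ofList_ofFn {R : Type*} [CommSemiring R] {n : ℕ} (f : Fin n → R) :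
    Ideal.ofList (List.ofFn f) = Ideal.span (Set.range f) := by
  rw [Ideal.ofList]
  congr 1
  ext x
  simp [List.mem_ofFn]

/-- (after Helper1) the kernel of evaluation at `0` is generated by the variables. -/
theorem ker_aeval_zero (A : Type u) [CommRing A] (n : ℕ) :
    RingHom.ker (aeval (fun _ : Fin n => (0 : A)) : MvPolynomial (Fin n) A →ₐ[A] A).toRingHom =
      Ideal.span (Set.range (X : Fin n → MvPolynomial (Fin n) A)) := by
  change _ = idealOfVars (Fin n) A
  ext p
  have h1 := mem_pow_idealOfVars_iff' (σ := Fin n) (R := A) 1 p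
  rw [pow_one] at h1
  rw [h1, RingHom.mem_ker]
  have h2 : (aeval (fun _ : Fin n => (0 : A)) : MvPolynomial (Fin n) A →ₐ[A] A).toRingHom p =
      constantCoeff p := by
    have := MvPolynomial.aeval_zero' (σ := Fin n) (R := A) (S₁ := A) p
    simpa using this
  rw [h2]
  constructor
  · intro h x hx
    have : x = 0 := by
      have hx' : x.degree = 0 := by omega
      exact (Finsupp.degree_eq_zero_iff x).mp hx'
    subst this
    exact h
  · intro h
    exact h 0 (by simp)

/-- (after Helper1) the variables form a weakly regular sequence. -/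
theorem isWeaklyRegular_X (A : Type u) [CommRing A] (n : ℕ) :
    RingTheory.Sequence.IsWeaklyRegular (MvPolynomial (Fin n) A)
      (List.ofFn fun i : Fin n => (X i : MvPolynomial (Fin n) A)) := by
  have h := Groth.Agent.Lib.Helper4.KosPoly.isWeaklyRegular_X_pow (A := A) (σ := Fin n) 1
    (List.finRange n) (List.nodup_finRange n)
  rw [List.ofFn_eq_map]
  simpa using h

end Vars

section MvPoly
variable (A : Type u) {B : Type u} [CommRing A] [CommRing B] [Algebra A B] {n : ℕ}
  (gs : Fin n → B)

/-- `B` as an `A[X₁,…,Xₙ]`-algebra via `Xᵢ ↦ gs i`. -/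
@[reducible] noncomputable def mvPolyAlgebra : Algebra (MvPolynomial (Fin n) A) B :=
  (MvPolynomial.aeval gs : MvPolynomial (Fin n) A →ₐ[A] B).toRingHom.toAlgebra

/-- a `B`-module as an `A[X₁,…,Xₙ]`-module via `Xᵢ ↦ gs i`. -/
@[reducible] noncomputable def mvPolyModule (W : Type u) [AddCommGroup W] [Module B W] :
    Module (MvPolynomial (Fin n) A) W :=
  Module.compHom W (MvPolynomial.aeval gs : MvPolynomial (Fin n) A →ₐ[A] B).toRingHom

theorem mvPolyAlgebra_isScalarTower :
    letI := mvPolyAlgebra A gs
    IsScalarTower A (MvPolynomial (Fin n) A) B := by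
  letI := mvPolyAlgebra A gs
  refine IsScalarTower.of_algebraMap_eq fun a => ?_
  change algebraMap A B a = MvPolynomial.aeval gs (MvPolynomial.C a)
  rw [MvPolynomial.aeval_C]

theorem mvPolyAlgebra_finitePresentation [Algebra.FinitePresentation A B] :
    letI := mvPolyAlgebra A gs
    Algebra.FinitePresentation (MvPolynomial (Fin n) A) B := by
  letI := mvPolyAlgebra A gs
  haveI := mvPolyAlgebra_isScalarTower A gs
  exact Algebra.FinitePresentation.of_restrict_scalars_finitePresentation A
    (MvPolynomial (Fin n) A) B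

theorem comap_mvPolyAlgebra (Q : Ideal B) [Q.IsPrime] (hgs : ∀ i, gs i ∈ Q) :
    letI := mvPolyAlgebra A gs
    Q.comap (algebraMap (MvPolynomial (Fin n) A) B) =
      (Q.comap (algebraMap A B)).map (algebraMap A (MvPolynomial (Fin n) A)) ⊔
        Ideal.span (Set.range (X : Fin n → MvPolynomial (Fin n) A)) := by
  letI := mvPolyAlgebra A gs
  have hX : Ideal.span (Set.range (X : Fin n → MvPolynomial (Fin n) A)) ≤
      Q.comap (algebraMap (MvPolynomial (Fin n) A) B) := by
    rw [Ideal.span_le]
    rintro _ ⟨i, rfl⟩
    change MvPolynomial.aeval gs (X i) ∈ Q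
    rw [MvPolynomial.aeval_X]
    exact hgs i
  apply le_antisymm
  · intro r hr
    have hr' : MvPolynomial.aeval gs r ∈ Q := hr
    have h1 : r - C (constantCoeff r) ∈
        Ideal.span (Set.range (X : Fin n → MvPolynomial (Fin n) A)) := by
      rw [← ker_aeval_zero, RingHom.mem_ker, map_sub]
      have h2 : ∀ q : MvPolynomial (Fin n) A,
          (aeval (fun _ : Fin n => (0 : A)) : MvPolynomial (Fin n) A →ₐ[A] A).toRingHom q =
          constantCoeff q := by
        intro q
        have := MvPolynomial.aeval_zero' (σ := Fin n) (R := A) (S₁ := A) q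
        simpa using this
      rw [h2, h2, constantCoeff_C, sub_self]
    have h0 : algebraMap A B (constantCoeff r) ∈ Q := by
      have h3 : MvPolynomial.aeval gs (r - C (constantCoeff r)) ∈ Q := hX h1
      rw [map_sub, MvPolynomial.aeval_C] at h3
      have := Q.sub_mem hr' h3
      rwa [sub_sub_cancel] at this
    have hdec : r = C (constantCoeff r) + (r - C (constantCoeff r)) := by ring
    rw [hdec]
    exact Ideal.add_mem _ (Ideal.mem_sup_left (Ideal.mem_map_of_mem _ h0))
      (Ideal.mem_sup_right h1)
  · refine sup_le ?_ hX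
    rw [Ideal.map_le_iff_le_comap]
    intro a ha
    change MvPolynomial.aeval gs (MvPolynomial.C a) ∈ Q
    rw [MvPolynomial.aeval_C]
    exact ha

end MvPoly

section Chain
variable {R W : Type u} [CommRing R] [AddCommGroup W] [Module R W] {n : ℕ}

/-- the chain of Tor-vanishing statements for `I + (t₀, …, t_{k-1})`. -/
theorem rTensor_injective_sup_span_image (I : Ideal R) (t : Fin n → R)
    (h0 : Function.Injective (I.subtype.rTensor W))
    (hreg : ∀ (k : Fin n) (w : W),
      t k • w ∈ (I ⊔ Ideal.span (t '' {j : Fin n | j < k})) • (⊤ : Submodule R W) →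
      w ∈ (I ⊔ Ideal.span (t '' {j : Fin n | j < k})) • (⊤ : Submodule R W)) :
    ∀ k : ℕ, k ≤ n → Function.Injective
      ((I ⊔ Ideal.span (t '' {j : Fin n | j.val < k})).subtype.rTensor W) := by
  intro k
  induction k with
  | zero =>
    intro _
    have : (I ⊔ Ideal.span (t '' {j : Fin n | j.val < 0})) = I := by
      simp
    rw [this]
    exact h0
  | succ k ih =>
    intro hk
    have hk' : k < n := hk
    have hset : {j : Fin n | j.val < k + 1} = {j : Fin n | j.val < k} ∪ {⟨k, hk'⟩} := by
      ext j
      simp only [Set.mem_setOf_eq, Set.mem_union, Set.mem_singleton_iff, Fin.ext_iff]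
      omega
    have hI : (I ⊔ Ideal.span (t '' {j : Fin n | j.val < k + 1})) =
        (I ⊔ Ideal.span (t '' {j : Fin n | j.val < k})) ⊔ Ideal.span {t ⟨k, hk'⟩} := by
      rw [hset, Set.image_union, Ideal.span_union, Set.image_singleton, sup_assoc]
    rw [hI]
    refine rTensor_injective_sup_span _ _ (ih (le_of_lt hk')) ?_
    have hset' : {j : Fin n | j.val < k} = {j : Fin n | j < (⟨k, hk'⟩ : Fin n)} := by
      ext j
      simp [Fin.lt_def]
    rw [hset']
    exact hreg ⟨k, hk'⟩

end Chain

section SeqMain
variable {A B N W : Type u} [CommRing A] [CommRing B] [Algebra A B]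
  [Algebra.FinitePresentation A B] [AddCommGroup N] [Module B N]
  [Module.FinitePresentation B N] (Q : Ideal B) [Q.IsPrime] {n : ℕ} (gs : Fin n → B)
  [AddCommGroup W] [Module B W] [Module A W] [IsScalarTower A B W]
  (f : N →ₗ[B] W) [IsLocalizedModule Q.primeCompl f]

include f in
/-- **slicing by a sequence, polynomial form**: if `W = N_Q` is `A`-flat and `gs` (in `Q`) is a
regular sequence on `W / p W`, then `W` is flat over `A[X₁,…,Xₙ]`, `Xᵢ` acting as `gs i`. -/
theorem flat_mvPolynomial_of_regular_fibre (hgs : ∀ i, gs i ∈ Q) [Module.Flat A W]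
    (hreg : ∀ (k : Fin n) (w : W),
      gs k • w ∈ ((Q.comap (algebraMap A B)).map (algebraMap A B) ⊔
        Ideal.span (gs '' {j : Fin n | j < k})) • (⊤ : Submodule B W) →
      w ∈ ((Q.comap (algebraMap A B)).map (algebraMap A B) ⊔
        Ideal.span (gs '' {j : Fin n | j < k})) • (⊤ : Submodule B W)) :
    letI := mvPolyModule A gs W
    Module.Flat (MvPolynomial (Fin n) A) W := by
  letI := mvPolyAlgebra A gs
  haveI := mvPolyAlgebra_isScalarTower A gs
  haveI := mvPolyAlgebra_finitePresentation A gs
  letI mRN := mvPolyModule A gs N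
  letI mRW := mvPolyModule A gs W
  haveI : IsScalarTower (MvPolynomial (Fin n) A) B N :=
    IsScalarTower.of_algebraMap_smul fun r n => rfl
  haveI : IsScalarTower (MvPolynomial (Fin n) A) B W :=
    IsScalarTower.of_algebraMap_smul fun r n => rfl
  haveI : IsScalarTower A (MvPolynomial (Fin n) A) W := by
    refine IsScalarTower.of_algebraMap_smul fun a w => ?_
    change MvPolynomial.aeval gs (MvPolynomial.C a) • w = a • w
    rw [MvPolynomial.aeval_C, algebraMap_smul]
  set 𝔭 := Q.comap (algebraMap A B) with h𝔭
  have h1 := rTensor_injective_map_of_flat (R := A) (B := MvPolynomial (Fin n) A) (W := W) 𝔭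
  -- translate the regularity hypotheses
  have hmap : ∀ k : Fin n, (𝔭.map (algebraMap A (MvPolynomial (Fin n) A)) ⊔
      Ideal.span ((X : Fin n → MvPolynomial (Fin n) A) '' {j : Fin n | j < k})).map
        (algebraMap (MvPolynomial (Fin n) A) B) =
      𝔭.map (algebraMap A B) ⊔ Ideal.span (gs '' {j : Fin n | j < k}) := by
    intro k
    rw [Ideal.map_sup, Ideal.map_map, ← IsScalarTower.algebraMap_eq, Ideal.map_span,
      Set.image_image]
    congr 3
    ext j
    change MvPolynomial.aeval gs (X j) = gs j
    rw [MvPolynomial.aeval_X]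
  have hregR : ∀ (k : Fin n) (w : W),
      (X k : MvPolynomial (Fin n) A) • w ∈ (𝔭.map (algebraMap A (MvPolynomial (Fin n) A)) ⊔
        Ideal.span ((X : Fin n → MvPolynomial (Fin n) A) '' {j : Fin n | j < k})) •
          (⊤ : Submodule (MvPolynomial (Fin n) A) W) →
      w ∈ (𝔭.map (algebraMap A (MvPolynomial (Fin n) A)) ⊔
        Ideal.span ((X : Fin n → MvPolynomial (Fin n) A) '' {j : Fin n | j < k})) •
          (⊤ : Submodule (MvPolynomial (Fin n) A) W) := by
    intro k w hw
    rw [← mem_map_smul_top_iff (A := MvPolynomial (Fin n) A) (R := B), hmap] at hw ⊢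
    refine hreg k w ?_
    have : (X k : MvPolynomial (Fin n) A) • w = gs k • w := by
      change MvPolynomial.aeval gs (X k) • w = gs k • w
      rw [MvPolynomial.aeval_X]
    rwa [this] at hw
  have h2 := rTensor_injective_sup_span_image _ _ h1 hregR n le_rfl
  have hall : {j : Fin n | j.val < n} = Set.univ := by
    ext j
    simp
  rw [hall, Set.image_univ, ← comap_mvPolyAlgebra A gs Q hgs] at h2
  exact flat_of_isLocalizedModule_of_rTensor_injective (A := MvPolynomial (Fin n) A) (S := B)
    (N := N) Q f h2

end SeqMain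

section SeqOpen
variable {A C : Type u} [CommRing A] [CommRing C] [Algebra A C]
  [Algebra.FinitePresentation A C] (Q : Ideal C) [Q.IsPrime] {n : ℕ} (gs : Fin n → C)

/-- a `C`-linear equivalence is `A[X₁,…,Xₙ]`-linear for the structures `Xᵢ ↦ gs i`. -/
noncomputable def mvPolyEquiv {W W' : Type u} [AddCommGroup W] [Module C W] [AddCommGroup W']
    [Module C W'] (e : W ≃ₗ[C] W') :
    letI := mvPolyModule A gs W
    letI := mvPolyModule A gs W'
    W ≃ₗ[MvPolynomial (Fin n) A] W' :=
  letI := mvPolyModule A gs W
  letI := mvPolyModule A gs W'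
  { e with map_smul' := fun r w => e.map_smul (MvPolynomial.aeval gs r) w }

/-- consequences of flatness of a `C`-algebra `C'` over `A[X₁,…,Xₙ]` (`Xᵢ ↦ gs i`). -/
theorem regular_and_flat_quot_of_flat_mvPolynomial (C' : Type u) [CommRing C'] [Algebra C C']
    [Algebra A C'] [IsScalarTower A C C']
    (h : letI := mvPolyModule A gs C'; Module.Flat (MvPolynomial (Fin n) A) C') :
    RingTheory.Sequence.IsWeaklyRegular C' (List.ofFn fun i => algebraMap C C' (gs i)) ∧
      Module.Flat A (C' ⧸ Ideal.span (Set.range fun i => algebraMap C C' (gs i))) := by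
  letI aRC := mvPolyAlgebra A gs
  haveI := mvPolyAlgebra_isScalarTower A gs
  letI aRC' : Algebra (MvPolynomial (Fin n) A) C' :=
    ((algebraMap C C').comp (algebraMap (MvPolynomial (Fin n) A) C)).toAlgebra
  haveI : IsScalarTower (MvPolynomial (Fin n) A) C C' :=
    IsScalarTower.of_algebraMap_eq fun _ => rfl
  have heq : mvPolyModule A gs C' = (inferInstance : Module (MvPolynomial (Fin n) A) C') := by
    refine Module.ext' _ _ fun r w => ?_
    change MvPolynomial.aeval gs r • w = algebraMap C C' (MvPolynomial.aeval gs r) * w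
    rw [Algebra.smul_def]
  rw [heq] at h
  haveI := h
  haveI : IsScalarTower A (MvPolynomial (Fin n) A) C' := by
    refine IsScalarTower.of_algebraMap_eq fun a => ?_
    change algebraMap A C' a = algebraMap C C' (MvPolynomial.aeval gs (MvPolynomial.C a))
    rw [MvPolynomial.aeval_C, ← IsScalarTower.algebraMap_apply]
  have hX : ∀ i, algebraMap (MvPolynomial (Fin n) A) C' (X i) = algebraMap C C' (gs i) := by
    intro i
    change algebraMap C C' (MvPolynomial.aeval gs (X i)) = _
    rw [MvPolynomial.aeval_X]
  constructor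
  · have h1 := RingTheory.Sequence.IsWeaklyRegular.of_flat (S := C') (isWeaklyRegular_X A n)
    rw [List.map_ofFn] at h1
    have : ((algebraMap (MvPolynomial (Fin n) A) C') ∘ fun i : Fin n =>
        (X i : MvPolynomial (Fin n) A)) = fun i => algebraMap C C' (gs i) := by
      ext i
      exact hX i
    rwa [this] at h1
  · set IR : Ideal (MvPolynomial (Fin n) A) :=
      Ideal.span (Set.range (X : Fin n → MvPolynomial (Fin n) A)) with hIR
    haveI h1 : Module.Flat (MvPolynomial (Fin n) A ⧸ IR)
        (C' ⧸ (IR • (⊤ : Submodule (MvPolynomial (Fin n) A) C'))) :=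
      flat_quot_smul_top' _
    haveI h2 : Module.Flat A (MvPolynomial (Fin n) A ⧸ IR) := by
      have hs : Function.Surjective
          (aeval (fun _ : Fin n => (0 : A)) : MvPolynomial (Fin n) A →ₐ[A] A) := by
        intro a
        exact ⟨MvPolynomial.C a, by simp⟩
      have e1 := Ideal.quotientKerAlgEquivOfSurjective hs
      have e2 : (MvPolynomial (Fin n) A ⧸ IR) ≃ₐ[A] (MvPolynomial (Fin n) A ⧸
          RingHom.ker (aeval (fun _ : Fin n => (0 : A)) : MvPolynomial (Fin n) A →ₐ[A] A)) :=
        Ideal.quotientEquivAlgOfEq A (ker_aeval_zero A n).symm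
      exact Module.Flat.of_linearEquiv (e2.trans e1).toLinearEquiv
    haveI h3 : Module.Flat A (C' ⧸ (IR • (⊤ : Submodule (MvPolynomial (Fin n) A) C'))) :=
      Module.Flat.trans A (MvPolynomial (Fin n) A ⧸ IR) _
    have hcar : (IR • (⊤ : Submodule (MvPolynomial (Fin n) A) C')).restrictScalars A =
        (Ideal.span (Set.range fun i => algebraMap C C' (gs i)) :
          Submodule C' C').restrictScalars A := by
      ext w
      simp only [Submodule.restrictScalars_mem]
      rw [Ideal.smul_top_eq_map, Submodule.restrictScalars_mem, hIR, Ideal.map_span]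
      have : (algebraMap (MvPolynomial (Fin n) A) C') ''
          (Set.range (X : Fin n → MvPolynomial (Fin n) A)) =
          Set.range fun i => algebraMap C C' (gs i) := by
        rw [← Set.range_comp]
        congr 1
        ext i
        exact hX i
      rw [this]
    let e : (C' ⧸ (IR • (⊤ : Submodule (MvPolynomial (Fin n) A) C'))) ≃ₗ[A]
        (C' ⧸ (Ideal.span (Set.range fun i => algebraMap C C' (gs i)) : Submodule C' C')) :=
      ((Submodule.Quotient.restrictScalarsEquiv A _).symm.trans
        (Submodule.quotEquivOfEq _ _ hcar)).trans (Submodule.Quotient.restrictScalarsEquiv A _)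
    exact Module.Flat.of_linearEquiv e.symm

/-- **slicing by a sequence, local form** (for the algebra itself): if `C_Q` is `A`-flat and `gs`
(in `Q`) is a regular sequence on `C_Q / p C_Q`, then on a basic open neighbourhood `D(c)` of `Q`
the sequence `gs` is regular on `C_c` and `C_c / (gs)` is `A`-flat. -/
theorem exists_away_regular_seq (hgs : ∀ i, gs i ∈ Q) {W : Type u} [AddCommGroup W] [Module C W]
    [Module A W] [IsScalarTower A C W] (f : C →ₗ[C] W) [IsLocalizedModule Q.primeCompl f]
    [Module.Flat A W]
    (hreg : ∀ (k : Fin n) (w : W),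
      gs k • w ∈ ((Q.comap (algebraMap A C)).map (algebraMap A C) ⊔
        Ideal.span (gs '' {j : Fin n | j < k})) • (⊤ : Submodule C W) →
      w ∈ ((Q.comap (algebraMap A C)).map (algebraMap A C) ⊔
        Ideal.span (gs '' {j : Fin n | j < k})) • (⊤ : Submodule C W)) :
    ∃ c : C, c ∉ Q ∧ ∀ (C' : Type u) [CommRing C'] [Algebra C C'] [Algebra A C']
      [IsScalarTower A C C'] [IsLocalization.Away c C'],
      RingTheory.Sequence.IsWeaklyRegular C' (List.ofFn fun i => algebraMap C C' (gs i)) ∧
        Module.Flat A (C' ⧸ Ideal.span (Set.range fun i => algebraMap C C' (gs i))) := by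
  have h0 := flat_mvPolynomial_of_regular_fibre (A := A) Q gs f hgs hreg
  have h0' : letI := mvPolyModule A gs (LocalizedModule Q.primeCompl C)
      Module.Flat (MvPolynomial (Fin n) A) (LocalizedModule Q.primeCompl C) := by
    letI := mvPolyModule A gs (LocalizedModule Q.primeCompl C)
    letI := mvPolyModule A gs W
    haveI := h0
    exact Module.Flat.of_linearEquiv (mvPolyEquiv (A := A) gs
      (IsLocalizedModule.linearEquiv Q.primeCompl
        (LocalizedModule.mkLinearMap Q.primeCompl C) f))
  letI := mvPolyAlgebra A gs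
  haveI := mvPolyAlgebra_isScalarTower A gs
  haveI := mvPolyAlgebra_finitePresentation A gs
  have heq : ∀ (T : Submonoid C), mvPolyModule A gs (LocalizedModule T C) =
      (inferInstance : Module (MvPolynomial (Fin n) A) (LocalizedModule T C)) := by
    intro T
    refine Module.ext' _ _ fun r w => ?_
    exact algebraMap_smul C r w
  rw [heq] at h0'
  obtain ⟨c, hc, hfl⟩ := exists_flatOnD (A := MvPolynomial (Fin n) A) (S := C) (N := C) Q h0'
  rw [flatOnD_iff] at hfl
  refine ⟨c, hc, ?_⟩
  intro C' _ _ _ _ _
  have hfl' : letI := mvPolyModule A gs (LocalizedModule (Submonoid.powers c) C)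
      Module.Flat (MvPolynomial (Fin n) A) (LocalizedModule (Submonoid.powers c) C) := by
    rw [heq]
    exact hfl
  have hfl'' : letI := mvPolyModule A gs C'
      Module.Flat (MvPolynomial (Fin n) A) C' := by
    letI := mvPolyModule A gs (LocalizedModule (Submonoid.powers c) C)
    letI := mvPolyModule A gs C'
    haveI := hfl'
    exact Module.Flat.of_linearEquiv (mvPolyEquiv (A := A) gs
      (IsLocalizedModule.linearEquiv (Submonoid.powers c)
        (LocalizedModule.mkLinearMap (Submonoid.powers c) C)
        (Algebra.linearMap C C'))).symm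
  exact regular_and_flat_quot_of_flat_mvPolynomial (A := A) gs C' hfl''

/-- variant of `exists_away_regular_seq`: the conclusion also holds on every smaller basic open
`D(c * c')`. -/
theorem exists_away_regular_seq' (hgs : ∀ i, gs i ∈ Q) {W : Type u} [AddCommGroup W] [Module C W]
    [Module A W] [IsScalarTower A C W] (f : C →ₗ[C] W) [IsLocalizedModule Q.primeCompl f]
    [Module.Flat A W]
    (hreg : ∀ (k : Fin n) (w : W),
      gs k • w ∈ ((Q.comap (algebraMap A C)).map (algebraMap A C) ⊔
        Ideal.span (gs '' {j : Fin n | j < k})) • (⊤ : Submodule C W) →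
      w ∈ ((Q.comap (algebraMap A C)).map (algebraMap A C) ⊔
        Ideal.span (gs '' {j : Fin n | j < k})) • (⊤ : Submodule C W)) :
    ∃ c : C, c ∉ Q ∧ ∀ (c' : C) (C' : Type u) [CommRing C'] [Algebra C C'] [Algebra A C']
      [IsScalarTower A C C'] [IsLocalization.Away (c * c') C'],
      RingTheory.Sequence.IsWeaklyRegular C' (List.ofFn fun i => algebraMap C C' (gs i)) ∧
        Module.Flat A (C' ⧸ Ideal.span (Set.range fun i => algebraMap C C' (gs i))) := by
  have h0 := flat_mvPolynomial_of_regular_fibre (A := A) Q gs f hgs hreg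
  have h0' : letI := mvPolyModule A gs (LocalizedModule Q.primeCompl C)
      Module.Flat (MvPolynomial (Fin n) A) (LocalizedModule Q.primeCompl C) := by
    letI := mvPolyModule A gs (LocalizedModule Q.primeCompl C)
    letI := mvPolyModule A gs W
    haveI := h0
    exact Module.Flat.of_linearEquiv (mvPolyEquiv (A := A) gs
      (IsLocalizedModule.linearEquiv Q.primeCompl
        (LocalizedModule.mkLinearMap Q.primeCompl C) f))
  letI := mvPolyAlgebra A gs
  haveI := mvPolyAlgebra_isScalarTower A gs
  haveI := mvPolyAlgebra_finitePresentation A gs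
  have heq : ∀ (T : Submonoid C), mvPolyModule A gs (LocalizedModule T C) =
      (inferInstance : Module (MvPolynomial (Fin n) A) (LocalizedModule T C)) := by
    intro T
    refine Module.ext' _ _ fun r w => ?_
    exact algebraMap_smul C r w
  rw [heq] at h0'
  obtain ⟨c, hc, hfl⟩ := exists_flatOnD (A := MvPolynomial (Fin n) A) (S := C) (N := C) Q h0'
  refine ⟨c, hc, ?_⟩
  intro c' C' _ _ _ _ _
  have hfl2 : FlatOnD (MvPolynomial (Fin n) A) C (c * c') := by
    intro Q' _ hQ'
    exact hfl Q' fun hcQ' => hQ' (Ideal.mul_mem_right _ _ hcQ')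
  rw [flatOnD_iff] at hfl2
  have hfl' : letI := mvPolyModule A gs (LocalizedModule (Submonoid.powers (c * c')) C)
      Module.Flat (MvPolynomial (Fin n) A) (LocalizedModule (Submonoid.powers (c * c')) C) := by
    rw [heq]
    exact hfl2
  have hfl'' : letI := mvPolyModule A gs C'
      Module.Flat (MvPolynomial (Fin n) A) C' := by
    letI := mvPolyModule A gs (LocalizedModule (Submonoid.powers (c * c')) C)
    letI := mvPolyModule A gs C'
    haveI := hfl'
    exact Module.Flat.of_linearEquiv (mvPolyEquiv (A := A) gs
      (IsLocalizedModule.linearEquiv (Submonoid.powers (c * c'))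
        (LocalizedModule.mkLinearMap (Submonoid.powers (c * c')) C)
        (Algebra.linearMap C C'))).symm
  exact regular_and_flat_quot_of_flat_mvPolynomial (A := A) gs C' hfl''

end SeqOpen

end Groth.Agent.Lib.Helper14.LCF
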