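/-
Helper14 library (LCF): slicing a flat l.f.p. morphism by a lift of a fibrewise regular
sequence (EGA IV 11.3.8), scheme form.
-/
import Groth.Agent.Lib.Helper14.LCF.SliceSeq
import Groth.Agent.Lib.Helper14.LCF.SliceSch

set_option autoImplicit false
set_option linter.style.haveILetI false
universe u
open CategoryTheory CategoryTheory.Limits AlgebraicGeometry TensorProduct Opposite

namespace Groth.Agent.Lib.Helper14.LCF

open Groth.Agent.Lib.Helper1.FlatAffine

/-- **slicing by a lift of a fibrewise regular sequence**, scheme form. The output is an affine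
open `U₀ ∋ x` over an affine open `T` of the base, sections `gs` of `U₀` with the prescribed germs,
and `c` with `x ∈ D(c)`, such that on every smaller basic open `D(c c')` the sequence `gs` is
weakly regular and `V(gs) ∩ D(c c')` is flat and locally of finite presentation over `S`. -/
theorem exists_slice_seq {X S : Scheme.{u}} (f : X ⟶ S) [LocallyOfFinitePresentation f] (x : X)
    (hflat : (f.stalkMap x).hom.Flat) {n : ℕ} (hs : Fin n → X.presheaf.stalk x)
    (hm : ∀ i, hs i ∈ IsLocalRing.maximalIdeal (X.presheaf.stalk x))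
    (hreg : ∀ (k : Fin n) (w : X.presheaf.stalk x),
      hs k * w ∈ Ideal.map (f.stalkMap x).hom
          (IsLocalRing.maximalIdeal (S.presheaf.stalk (f x))) ⊔
        Ideal.span (hs '' {j : Fin n | j < k}) →
      w ∈ Ideal.map (f.stalkMap x).hom
          (IsLocalRing.maximalIdeal (S.presheaf.stalk (f x))) ⊔
        Ideal.span (hs '' {j : Fin n | j < k})) :
    ∃ (T : S.Opens) (hT : IsAffineOpen T) (U₀ : X.Opens) (hU₀ : IsAffineOpen U₀)
      (_ : U₀ ≤ f ⁻¹ᵁ T) (hx : x ∈ U₀) (gs : Fin n → Γ(X, U₀)) (c : Γ(X, U₀)),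
      (∀ i, X.presheaf.germ U₀ x hx (gs i) = hs i) ∧ x ∈ X.basicOpen c ∧
      ∀ c' : Γ(X, U₀),
        RingTheory.Sequence.IsWeaklyRegular Γ(X, X.basicOpen (c * c'))
          (List.ofFn fun i => algebraMap Γ(X, U₀) Γ(X, X.basicOpen (c * c')) (gs i)) ∧
        Flat (Spec.map (CommRingCat.ofHom (Ideal.Quotient.mk (Ideal.span (Set.range fun i =>
            algebraMap Γ(X, U₀) Γ(X, X.basicOpen (c * c')) (gs i))))) ≫
          (hU₀.basicOpen (c * c')).fromSpec ≫ f) ∧
        LocallyOfFinitePresentation (Spec.map (CommRingCat.ofHom (Ideal.Quotient.mk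
            (Ideal.span (Set.range fun i =>
              algebraMap Γ(X, U₀) Γ(X, X.basicOpen (c * c')) (gs i))))) ≫
          (hU₀.basicOpen (c * c')).fromSpec ≫ f) := by
  choose V₀ hxV₀ t ht using fun i => X.presheaf.exists_germ_eq (hs i)
  obtain ⟨_, ⟨T, hT, rfl⟩, hsT, -⟩ :=
    S.isBasis_affineOpens.exists_subset_of_mem_open (Set.mem_univ (f x)) isOpen_univ
  have hopen : IsOpen (((f ⁻¹ᵁ T : X.Opens) : Set X) ∩ ⋂ i, ((V₀ i : X.Opens) : Set X)) :=
    (f ⁻¹ᵁ T).2.inter (isOpen_iInter_of_finite fun i => (V₀ i).2)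
  obtain ⟨_, ⟨U₀, hU₀, rfl⟩, hxU₀, hU₀le⟩ :=
    X.isBasis_affineOpens.exists_subset_of_mem_open
      (show x ∈ ((f ⁻¹ᵁ T : X.Opens) : Set X) ∩ ⋂ i, ((V₀ i : X.Opens) : Set X) from
        ⟨hsT, Set.mem_iInter.2 hxV₀⟩) hopen
  have hU₀T : U₀ ≤ f ⁻¹ᵁ T := fun z hz => (hU₀le hz).1
  have hU₀V : ∀ i, U₀ ≤ V₀ i := fun i z hz => Set.mem_iInter.1 (hU₀le hz).2 i
  set gs : Fin n → Γ(X, U₀) := fun i => X.presheaf.map (homOfLE (hU₀V i)).op (t i) with hgsdef
  have hgs : ∀ i, X.presheaf.germ U₀ x hxU₀ (gs i) = hs i := by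
    intro i
    rw [← ht i]
    exact TopCat.Presheaf.germ_res_apply X.presheaf (homOfLE (hU₀V i)) x hxU₀ (t i)
  -- algebra structures
  letI aAC : Algebra Γ(S, T) Γ(X, U₀) := (f.appLE T U₀ hU₀T).hom.toAlgebra
  haveI fpAC : Algebra.FinitePresentation Γ(S, T) Γ(X, U₀) :=
    f.finitePresentation_appLE hT hU₀ hU₀T
  set Q := (hU₀.primeIdealOf ⟨x, hxU₀⟩).asIdeal with hQ
  letI aCO : Algebra Γ(X, U₀) (X.presheaf.stalk x) :=
    TopCat.Presheaf.algebra_section_stalk X.presheaf (U := U₀) ⟨x, hxU₀⟩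
  haveI locO : IsLocalization.AtPrime (X.presheaf.stalk x) Q :=
    hU₀.isLocalization_stalk ⟨x, hxU₀⟩
  letI aAO : Algebra Γ(S, T) (X.presheaf.stalk x) :=
    ((algebraMap Γ(X, U₀) (X.presheaf.stalk x)).comp (algebraMap Γ(S, T) Γ(X, U₀))).toAlgebra
  haveI : IsScalarTower Γ(S, T) Γ(X, U₀) (X.presheaf.stalk x) :=
    IsScalarTower.of_algebraMap_eq fun _ => rfl
  letI aAOs : Algebra Γ(S, T) (S.presheaf.stalk (f x)) :=
    TopCat.Presheaf.algebra_section_stalk S.presheaf (U := T) ⟨f x, hsT⟩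
  haveI locOs : IsLocalization.AtPrime (S.presheaf.stalk (f x))
      (hT.primeIdealOf ⟨f x, hsT⟩).asIdeal := hT.isLocalization_stalk ⟨f x, hsT⟩
  letI aOsO : Algebra (S.presheaf.stalk (f x)) (X.presheaf.stalk x) :=
    (f.stalkMap x).hom.toAlgebra
  haveI : IsScalarTower Γ(S, T) (S.presheaf.stalk (f x)) (X.presheaf.stalk x) :=
    IsScalarTower.of_algebraMap_eq fun r => germ_appLE f hU₀T x hxU₀ r
  haveI : Module.Flat (S.presheaf.stalk (f x)) (X.presheaf.stalk x) := hflat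
  haveI : Module.Flat Γ(S, T) (S.presheaf.stalk (f x)) :=
    IsLocalization.flat _ (hT.primeIdealOf ⟨f x, hsT⟩).asIdeal.primeCompl
  haveI flAO : Module.Flat Γ(S, T) (X.presheaf.stalk x) :=
    Module.Flat.trans Γ(S, T) (S.presheaf.stalk (f x)) (X.presheaf.stalk x)
  have hgQ : ∀ i, gs i ∈ Q := by
    intro i
    rw [← IsLocalization.AtPrime.to_map_mem_maximal_iff (X.presheaf.stalk x) Q (gs i)]
    change X.presheaf.germ U₀ x hxU₀ (gs i) ∈ _
    rw [hgs i]
    exact hm i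
  have hq : Q.comap (algebraMap Γ(S, T) Γ(X, U₀)) = (hT.primeIdealOf ⟨f x, hsT⟩).asIdeal :=
    congrArg PrimeSpectrum.asIdeal (IsAffineOpen.comap_primeIdealOf_appLE T hT U₀ hU₀ hU₀T hxU₀)
  have hmem : ∀ (k : Fin n) (w : X.presheaf.stalk x),
      w ∈ ((Q.comap (algebraMap Γ(S, T) Γ(X, U₀))).map (algebraMap Γ(S, T) Γ(X, U₀)) ⊔
        Ideal.span (gs '' {j : Fin n | j < k})) •
          (⊤ : Submodule Γ(X, U₀) (X.presheaf.stalk x)) ↔
      w ∈ Ideal.map (f.stalkMap x).hom (IsLocalRing.maximalIdeal (S.presheaf.stalk (f x))) ⊔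
        Ideal.span (hs '' {j : Fin n | j < k}) := by
    intro k w
    rw [Ideal.smul_top_eq_map, Submodule.restrictScalars_mem, Ideal.map_sup, Ideal.map_map,
      ← IsScalarTower.algebraMap_eq, hq,
      IsScalarTower.algebraMap_eq Γ(S, T) (S.presheaf.stalk (f x)) (X.presheaf.stalk x),
      ← Ideal.map_map, IsLocalization.AtPrime.map_eq_maximalIdeal
        (hT.primeIdealOf ⟨f x, hsT⟩).asIdeal (S.presheaf.stalk (f x)), Ideal.map_span,
      Set.image_image]
    have : (fun j => algebraMap Γ(X, U₀) (X.presheaf.stalk x) (gs j)) = hs := by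
      ext j
      exact hgs j
    rw [this]
    rfl
  have hregQ : ∀ (k : Fin n) (w : X.presheaf.stalk x),
      gs k • w ∈ ((Q.comap (algebraMap Γ(S, T) Γ(X, U₀))).map (algebraMap Γ(S, T) Γ(X, U₀)) ⊔
        Ideal.span (gs '' {j : Fin n | j < k})) •
          (⊤ : Submodule Γ(X, U₀) (X.presheaf.stalk x)) →
      w ∈ ((Q.comap (algebraMap Γ(S, T) Γ(X, U₀))).map (algebraMap Γ(S, T) Γ(X, U₀)) ⊔
        Ideal.span (gs '' {j : Fin n | j < k})) •
          (⊤ : Submodule Γ(X, U₀) (X.presheaf.stalk x)) := by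
    intro k w hw
    rw [hmem] at hw ⊢
    refine hreg k w ?_
    have e : gs k • w = hs k * w := by
      rw [Algebra.smul_def, ← hgs k]
      rfl
    rwa [e] at hw
  obtain ⟨c, hc, H⟩ := exists_away_regular_seq' (A := Γ(S, T)) (C := Γ(X, U₀))
    Q gs hgQ (Algebra.linearMap Γ(X, U₀) (X.presheaf.stalk x)) hregQ
  have hxU : x ∈ X.basicOpen c := by
    rw [Scheme.mem_basicOpen X c x hxU₀]
    exact (IsLocalization.AtPrime.isUnit_to_map_iff (X.presheaf.stalk x) Q c).2 hc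
  refine ⟨T, hT, U₀, hU₀, hU₀T, hxU₀, gs, c, hgs, hxU, ?_⟩
  intro c'
  have hU : IsAffineOpen (X.basicOpen (c * c')) := hU₀.basicOpen (c * c')
  have hUT : X.basicOpen (c * c') ≤ f ⁻¹ᵁ T := le_trans (X.basicOpen_le (c * c')) hU₀T
  haveI locU : IsLocalization.Away (c * c') Γ(X, X.basicOpen (c * c')) :=
    hU₀.isLocalization_basicOpen (c * c')
  letI aAU : Algebra Γ(S, T) Γ(X, X.basicOpen (c * c')) :=
    ((algebraMap Γ(X, U₀) Γ(X, X.basicOpen (c * c'))).comp
      (algebraMap Γ(S, T) Γ(X, U₀))).toAlgebra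
  haveI : IsScalarTower Γ(S, T) Γ(X, U₀) Γ(X, X.basicOpen (c * c')) :=
    IsScalarTower.of_algebraMap_eq fun _ => rfl
  obtain ⟨hregU, hflU⟩ := H c' Γ(X, X.basicOpen (c * c'))
  refine ⟨hregU, ?_⟩
  set I := Ideal.span (Set.range fun i =>
    algebraMap Γ(X, U₀) Γ(X, X.basicOpen (c * c')) (gs i)) with hI
  set ψ : Γ(S, T) ⟶ CommRingCat.of (Γ(X, X.basicOpen (c * c')) ⧸ I) :=
    f.appLE T (X.basicOpen (c * c')) hUT ≫ CommRingCat.ofHom (Ideal.Quotient.mk I) with hψ
  have e1 : Spec.map (CommRingCat.ofHom (Ideal.Quotient.mk I)) ≫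
      hU.fromSpec ≫ f = Spec.map ψ ≫ hT.fromSpec := by
    rw [← hT.SpecMap_appLE_fromSpec f hU hUT, hψ, Spec.map_comp, Category.assoc]
  rw [e1]
  have hψfp : ψ.hom.FinitePresentation := by
    rw [hψ, CommRingCat.hom_comp]
    refine RingHom.FinitePresentation.comp ?_ (f.finitePresentation_appLE hT hU hUT)
    refine RingHom.FinitePresentation.of_surjective _ Ideal.Quotient.mk_surjective ?_
    rw [CommRingCat.hom_ofHom, Ideal.mk_ker]
    classical
    exact ⟨Finset.univ.image fun i =>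
      algebraMap Γ(X, U₀) Γ(X, X.basicOpen (c * c')) (gs i), by
        rw [hI, Finset.coe_image, Finset.coe_univ, Set.image_univ]⟩
  have hψfl : ψ.hom.Flat := by
    have h3 : (algebraMap Γ(S, T) (Γ(X, X.basicOpen (c * c')) ⧸ I)).Flat :=
      RingHom.flat_algebraMap_iff.2 hflU
    have h4 : ψ.hom = algebraMap Γ(S, T) (Γ(X, X.basicOpen (c * c')) ⧸ I) := by
      ext a
      change Ideal.Quotient.mk _ ((f.appLE T (X.basicOpen (c * c')) hUT).hom a) =
        Ideal.Quotient.mk _ (algebraMap Γ(X, U₀) Γ(X, X.basicOpen (c * c'))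
          (algebraMap Γ(S, T) Γ(X, U₀) a))
      congr 1
      exact congr($(Scheme.Hom.appLE_map f hU₀T (homOfLE (X.basicOpen_le (c * c'))).op).hom a).symm
    rw [h4]
    exact h3
  haveI : Flat (Spec.map ψ) := (HasRingHomProperty.Spec_iff (P := @Flat)).2 hψfl
  haveI : LocallyOfFinitePresentation (Spec.map ψ) :=
    (HasRingHomProperty.Spec_iff (P := @LocallyOfFinitePresentation)).2 hψfp
  exact ⟨inferInstance, inferInstance⟩

end Groth.Agent.Lib.Helper14.LCF
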