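/-
Helper14 library (LCF): a Cohen–Macaulay local ring has a regular sequence in its maximal ideal
whose quotient is zero-dimensional; elementwise form of weak regularity; lifting along a
surjection.
-/
import Mathlib
import Groth.Prelude.Def_CAlg

set_option autoImplicit false
set_option linter.style.haveILetI false
universe u

namespace Groth.Agent.Lib.Helper14.LCF

open RingTheory.Sequence

/-- a Cohen–Macaulay local ring has a (weakly) regular sequence in its maximal ideal such that
the maximal ideal is the only prime containing it. -/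
theorem exists_regular_seq_of_cm (R : Type u) [CommRing R] [LocCoh.IsCohenMacaulayLocalRing R] :
    ∃ rs : List R, (∀ r ∈ rs, r ∈ IsLocalRing.maximalIdeal R) ∧
      IsWeaklyRegular R rs ∧
      ∀ P : Ideal R, P.IsPrime → Ideal.ofList rs ≤ P → P = IsLocalRing.maximalIdeal R := by
  classical
  have hcm := LocCoh.IsCohenMacaulayLocalRing.supportDim_eq_depth (R := R)
  rw [Module.supportDim_self_eq_ringKrullDim] at hcm
  obtain ⟨d, hd⟩ : ∃ d : ℕ, ringKrullDim R = d := by
    have h1 := ringKrullDim_ne_top (R := R)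
    have h2 := ringKrullDim_ne_bot (R := R)
    obtain ⟨e, he⟩ := WithBot.ne_bot_iff_exists.1 h2
    have h3 : e ≠ ⊤ := by
      rintro rfl
      exact h1 he.symm
    obtain ⟨d, rfl⟩ := ENat.ne_top_iff_exists.1 h3
    exact ⟨d, he.symm⟩
  have hdepth : LocCoh.depth R R = d := by
    rw [hd] at hcm
    have : ((d : ℕ∞) : WithBot ℕ∞) = ((LocCoh.depth R R : ℕ∞) : WithBot ℕ∞) := hcm
    exact (WithBot.coe_injective this).symm
  unfold LocCoh.depth LocCoh.idealDepth at hdepth
  have hne : ¬ (IsLocalRing.maximalIdeal R • (⊤ : Submodule R R) = ⊤) := by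
    rw [smul_eq_mul, Ideal.mul_top]
    exact Ideal.IsPrime.ne_top'
  rw [if_neg hne] at hdepth
  -- a sequence of length ≥ d
  obtain ⟨rs, hrs, hlen⟩ : ∃ rs : List R, (IsWeaklyRegular R rs ∧
      ∀ r ∈ rs, r ∈ IsLocalRing.maximalIdeal R) ∧ d ≤ rs.length := by
    by_contra hcon
    push_neg at hcon
    rcases Nat.eq_zero_or_pos d with h0 | hpos
    · exact absurd (hcon [] ⟨IsWeaklyRegular.nil R R, by simp⟩) (by simp [h0])
    · have : (⨆ (rs : List R) (_ : IsWeaklyRegular R rs ∧
          ∀ r ∈ rs, r ∈ IsLocalRing.maximalIdeal R), (rs.length : ℕ∞)) ≤ ((d - 1 : ℕ) : ℕ∞) := by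
        refine iSup_le fun rs => iSup_le fun h => ?_
        have := hcon rs h
        exact_mod_cast Nat.le_sub_one_of_lt this
      rw [hdepth] at this
      have h2 : d ≤ d - 1 := by exact_mod_cast this
      omega
  have hle : Ideal.ofList rs ≤ IsLocalRing.maximalIdeal R := by
    rw [Ideal.ofList, Ideal.span_le]
    intro r hr
    exact hrs.2 r hr
  have hreg : IsRegular R rs := by
    refine ⟨hrs.1, ?_⟩
    rw [smul_eq_mul, Ideal.mul_top]
    intro h
    exact (Ideal.IsPrime.ne_top' (I := IsLocalRing.maximalIdeal R))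
      (top_le_iff.1 (h.symm ▸ hle : (⊤ : Ideal R) ≤ _))
  have hdim := ringKrullDim_add_length_eq_ringKrullDim_of_isRegular rs hreg
  rw [hd] at hdim
  have hdim0 : ringKrullDim (R ⧸ Ideal.ofList rs) ≤ 0 := by
    rcases h : ringKrullDim (R ⧸ Ideal.ofList rs) with _ | e
    · exact bot_le
    · rw [h] at hdim
      have h2 : ((e + (rs.length : ℕ∞) : ℕ∞) : WithBot ℕ∞) = ((d : ℕ∞) : WithBot ℕ∞) := by
        rw [WithBot.coe_add]
        exact hdim
      have h3 : e + (rs.length : ℕ∞) = d := WithBot.coe_injective h2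
      have h4 : e = 0 := by
        cases e with
        | top => simp at h3
        | coe e =>
          have : e + rs.length = d := by exact_mod_cast h3
          have : e = 0 := by omega
          simp [this]
      rw [h4]
      rfl
  haveI : Ring.KrullDimLE 0 (R ⧸ Ideal.ofList rs) := Ring.krullDimLE_iff.2 (by simpa using hdim0)
  refine ⟨rs, hrs.2, hrs.1, ?_⟩
  intro P hP hPle
  have hPmap : (P.map (Ideal.Quotient.mk (Ideal.ofList rs))).IsPrime := by
    refine Ideal.map_isPrime_of_surjective Ideal.Quotient.mk_surjective ?_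
    rwa [Ideal.mk_ker]
  have hmax := Ring.krullDimLE_zero_iff.1 inferInstance _ hPmap
  have hcomap : P = (P.map (Ideal.Quotient.mk (Ideal.ofList rs))).comap
      (Ideal.Quotient.mk (Ideal.ofList rs)) := by
    rw [Ideal.comap_map_of_surjective _ Ideal.Quotient.mk_surjective, ← RingHom.ker_eq_comap_bot,
      Ideal.mk_ker, sup_eq_left.2 hPle]
  have : P.IsMaximal := by
    rw [hcomap]
    exact Ideal.comap_isMaximal_of_surjective _ Ideal.Quotient.mk_surjective
  exact IsLocalRing.eq_maximalIdeal this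

/-- lifting the regular sequence of a Cohen–Macaulay local quotient `R = B / K`. -/
theorem exists_lift_seq {B R : Type u} [CommRing B] [CommRing R] [IsLocalRing B]
    [LocCoh.IsCohenMacaulayLocalRing R] (π : B →+* R) (hπ : Function.Surjective π) :
    ∃ (n : ℕ) (hs : Fin n → B), (∀ i, hs i ∈ IsLocalRing.maximalIdeal B) ∧
      (∀ (k : Fin n) (w : B),
        hs k * w ∈ RingHom.ker π ⊔ Ideal.span (hs '' {j : Fin n | j < k}) →
        w ∈ RingHom.ker π ⊔ Ideal.span (hs '' {j : Fin n | j < k})) ∧
      ∀ P : Ideal B, P.IsPrime → RingHom.ker π ≤ P → (∀ i, hs i ∈ P) →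
        P = IsLocalRing.maximalIdeal B := by
  obtain ⟨rs, hrsm, hrsreg, hrsP⟩ := exists_regular_seq_of_cm R
  choose hs hhs using fun i : Fin rs.length => hπ rs[i]
  have hmap : ∀ k : Fin rs.length, Ideal.map π (Ideal.span (hs '' {j : Fin rs.length | j < k})) =
      Ideal.ofList (rs.take k) := by
    intro k
    rw [Ideal.map_span, Ideal.ofList]
    congr 1
    ext r
    simp only [Set.mem_image, Set.mem_setOf_eq, List.mem_take_iff_getElem]
    constructor
    · rintro ⟨_, ⟨j, hj, rfl⟩, rfl⟩
      refine ⟨j, ?_, ?_⟩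
      · exact lt_min hj j.2
      · exact (hhs j).symm
    · rintro ⟨i, hi, rfl⟩
      have hi1 : i < k.val := lt_of_lt_of_le hi (min_le_left _ _)
      have hi2 : i < rs.length := lt_of_lt_of_le hi (min_le_right _ _)
      exact ⟨hs ⟨i, hi2⟩, ⟨⟨i, hi2⟩, hi1, rfl⟩, hhs ⟨i, hi2⟩⟩
  have hsup : ∀ (J : Ideal B) (w : B), w ∈ RingHom.ker π ⊔ J ↔ π w ∈ Ideal.map π J := by
    intro J w
    rw [← Ideal.mem_comap, Ideal.comap_map_of_surjective π hπ, ← RingHom.ker_eq_comap_bot,
      sup_comm]
  refine ⟨rs.length, hs, ?_, ?_, ?_⟩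
  · intro i
    by_contra hcon
    have hu : IsUnit (hs i) := by
      by_contra hnu
      exact hcon ((IsLocalRing.mem_maximalIdeal _).2 hnu)
    have h1 := hrsm rs[i] (List.getElem_mem _)
    rw [← hhs i] at h1
    exact (IsLocalRing.mem_maximalIdeal _).1 h1 (hu.map π)
  · intro k w hw
    rw [hsup] at hw ⊢
    rw [hmap] at hw ⊢
    rw [map_mul, hhs k] at hw
    have h1 := (isWeaklyRegular_iff_Fin R rs).1 hrsreg k
    rw [isSMulRegular_quotient_iff_mem_of_smul_mem] at h1
    have h2 := h1 (π w) (by rw [smul_eq_mul, Ideal.mul_top, smul_eq_mul]; exact hw)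
    rwa [smul_eq_mul, Ideal.mul_top] at h2
  · intro P hP hker hmem
    have hPmap : (P.map π).IsPrime := Ideal.map_isPrime_of_surjective hπ hker
    have hle : Ideal.ofList rs ≤ P.map π := by
      rw [Ideal.ofList, Ideal.span_le]
      intro r hr
      obtain ⟨i, hi, rfl⟩ := List.mem_iff_getElem.1 hr
      have := Ideal.mem_map_of_mem π (hmem ⟨i, hi⟩)
      rwa [hhs ⟨i, hi⟩] at this
    have h1 := hrsP _ hPmap hle
    have hcomap : P = (P.map π).comap π := by
      rw [Ideal.comap_map_of_surjective π hπ, ← RingHom.ker_eq_comap_bot, sup_eq_left.2 hker]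
    have : P.IsMaximal := by
      rw [hcomap, h1]
      exact Ideal.comap_isMaximal_of_surjective π hπ
    exact IsLocalRing.eq_maximalIdeal this

end Groth.Agent.Lib.Helper14.LCF
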