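/-
Helper14 library (LCF): ring-level quasi-finiteness of a slice at an isolated point of its fibre
(via Mathlib's Zariski main theorem), in a form suited to localizing the ambient ring.
-/
import Mathlib

set_option autoImplicit false
set_option linter.style.haveILetI false
universe u

namespace Groth.Agent.Lib.Helper14.LCF

theorem quasiFiniteAt_of_isolated {A D : Type u} [CommRing A] [CommRing D] [Algebra A D]
    [Algebra.FiniteType A D] (q : Ideal D) [q.IsPrime]
    (ha : ∀ q' : Ideal D, q'.IsPrime → q ≤ q' →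
      q'.comap (algebraMap A D) = q.comap (algebraMap A D) → q' = q)
    (hb : ∀ q' : Ideal D, q'.IsPrime → q' ≤ q →
      q'.comap (algebraMap A D) = q.comap (algebraMap A D) → q' = q) :
    Algebra.QuasiFiniteAt A q := by
  set qs : PrimeSpectrum D := ⟨q, inferInstance⟩ with hqs
  refine Algebra.QuasiFiniteAt.of_isOpen_singleton_fiber qs ?_
  set p := qs.comap (algebraMap A D) with hp
  let e := PrimeSpectrum.preimageHomeomorphFiber A D p
  haveI : IsJacobsonRing (p.asIdeal.Fiber D) :=
    isJacobsonRing_of_finiteType (A := p.asIdeal.ResidueField)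
  haveI : IsNoetherianRing (p.asIdeal.Fiber D) :=
    Algebra.FiniteType.isNoetherianRing p.asIdeal.ResidueField _
  rw [← e.isOpen_image, Set.image_singleton]
  have htfae := (PrimeSpectrum.isOpen_singleton_tfae_of_isNoetherian_of_isJacobsonRing
    (e ⟨qs, rfl⟩)).out 2 0
  refine htfae.1 ⟨?_, ?_⟩
  · rw [← Set.image_singleton, e.isClosed_image]
    have : ({⟨qs, rfl⟩} : Set (PrimeSpectrum.comap (algebraMap A D) ⁻¹' {p})) =
        Subtype.val ⁻¹' (PrimeSpectrum.zeroLocus (q : Set D)) := by
      ext y
      simp only [Set.mem_singleton_iff, Set.mem_preimage, PrimeSpectrum.mem_zeroLocus,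
        SetLike.coe_subset_coe]
      constructor
      · rintro rfl
        exact le_rfl
      · intro hy
        apply Subtype.ext
        apply PrimeSpectrum.ext
        have := y.2
        exact ha y.1.asIdeal y.1.2 hy (congrArg PrimeSpectrum.asIdeal this)
    rw [this]
    exact (PrimeSpectrum.isClosed_zeroLocus _).preimage continuous_subtype_val
  · intro x' y' hyx hx'
    rw [Set.mem_singleton_iff] at hx' ⊢
    subst hx'
    obtain ⟨y, rfl⟩ := e.surjective y'
    rw [e.isInducing.specializes_iff] at hyx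
    have hyx' : y.1 ⤳ qs := (Topology.IsInducing.subtypeVal.specializes_iff).2 hyx
    rw [← PrimeSpectrum.le_iff_specializes] at hyx'
    congr 1
    apply Subtype.ext
    apply PrimeSpectrum.ext
    exact hb y.1.asIdeal y.1.2 hyx' (congrArg PrimeSpectrum.asIdeal y.2)

theorem exists_away_quasiFinite {A D : Type u} [CommRing A] [CommRing D] [Algebra A D]
    [Algebra.FiniteType A D] (q : Ideal D) [q.IsPrime] [Algebra.QuasiFiniteAt A q] :
    ∃ r : D, r ∉ q ∧ (∀ P : PrimeSpectrum A,
        {q' : PrimeSpectrum D | r ∉ q'.asIdeal ∧ q'.comap (algebraMap A D) = P}.Finite) ∧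
      ∀ q' : Ideal D, q'.IsPrime → r ∉ q' →
        q'.comap (algebraMap A D) = q.comap (algebraMap A D) → q' = q := by
  obtain ⟨S', hS', r₂, hr₂, H⟩ :=
    Algebra.ZariskisMainProperty.exists_fg_and_exists_notMem_and_awayMap_bijective q
      (Algebra.ZariskisMainProperty.of_finiteType (R := A) q)
  haveI : Module.Finite A S' := ⟨(Submodule.fg_top _).mpr hS'⟩
  haveI : Algebra.QuasiFinite A (Localization.Away r₂) := .trans _ S' _
  haveI : Algebra.QuasiFinite A (Localization.Away r₂.1) :=
    .of_surjective_algHom (Localization.awayMapₐ S'.val r₂) H.2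
  haveI : q.LiesOver (q.under A) := ⟨rfl⟩
  obtain ⟨r₁, hr₁, hsep⟩ := Ideal.exists_not_mem_forall_mem_of_ne_of_liesOver (q.under A) q
  refine ⟨r₁ * r₂.1, ?_, ?_, ?_⟩
  · intro h
    rcases Ideal.IsPrime.mem_or_mem inferInstance h with h | h
    · exact hr₁ h
    · exact hr₂ h
  · intro P
    have hfin := Algebra.QuasiFinite.finite_comap_preimage_singleton
      (R := A) (S := Localization.Away r₂.1) P
    refine (hfin.image (PrimeSpectrum.comap (algebraMap D (Localization.Away r₂.1)))).subset ?_
    rintro q' ⟨hq'r, hq'P⟩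
    have h2 : r₂.1 ∉ q'.asIdeal := fun h => hq'r (Ideal.mul_mem_left _ _ h)
    have h3 : q' ∈ (PrimeSpectrum.basicOpen r₂.1 : Set (PrimeSpectrum D)) := h2
    rw [← PrimeSpectrum.localization_away_comap_range (Localization.Away r₂.1) r₂.1] at h3
    obtain ⟨q'', rfl⟩ := h3
    refine ⟨q'', ?_, rfl⟩
    rw [Set.mem_preimage, Set.mem_singleton_iff, ← hq'P]
    rw [← PrimeSpectrum.comap_comp_apply, ← IsScalarTower.algebraMap_eq]
  · intro q' hq' hr hcomap
    by_contra hne
    haveI : q'.LiesOver (q.under A) := ⟨hcomap.symm⟩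
    have := hsep q' hq' hne inferInstance
    exact hr (Ideal.mul_mem_right _ _ this)

/-- quotient form: for `I ≤ Q` in a finite type `A`-algebra `C`, if `Q` is isolated in the
fibre of `V(I)` through it, there is `c' ∉ Q` such that `V(I) ∩ D(c')` has finite fibres over
`Spec A` and `Q` is its only point in the fibre through `Q`. -/
theorem exists_away_quasiFinite_quot {A C : Type u} [CommRing A] [CommRing C] [Algebra A C]
    [Algebra.FiniteType A C] (I : Ideal C) (Q : Ideal C) [Q.IsPrime] (hIQ : I ≤ Q)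
    (ha : ∀ q' : Ideal C, q'.IsPrime → Q ≤ q' →
      q'.comap (algebraMap A C) = Q.comap (algebraMap A C) → q' = Q)
    (hb : ∀ q' : Ideal C, q'.IsPrime → I ≤ q' → q' ≤ Q →
      q'.comap (algebraMap A C) = Q.comap (algebraMap A C) → q' = Q) :
    ∃ c' : C, c' ∉ Q ∧
      (∀ P : PrimeSpectrum A, {q' : PrimeSpectrum C | I ≤ q'.asIdeal ∧ c' ∉ q'.asIdeal ∧
        q'.comap (algebraMap A C) = P}.Finite) ∧
      ∀ q' : Ideal C, q'.IsPrime → I ≤ q' → c' ∉ q' →
        q'.comap (algebraMap A C) = Q.comap (algebraMap A C) → q' = Q := by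
  set mk := Ideal.Quotient.mk I with hmk
  have hmks : Function.Surjective mk := Ideal.Quotient.mk_surjective
  have hker : RingHom.ker mk = I := Ideal.mk_ker
  have hcm : ∀ J : Ideal C, I ≤ J → (J.map mk).comap mk = J := by
    intro J hJ
    rw [Ideal.comap_map_of_surjective mk hmks, ← RingHom.ker_eq_comap_bot, hker, sup_eq_left.2 hJ]
  have hmc : ∀ J : Ideal (C ⧸ I), (J.comap mk).map mk = J := fun J =>
    Ideal.map_comap_of_surjective mk hmks J
  have hIc : ∀ J : Ideal (C ⧸ I), I ≤ J.comap mk := by
    intro J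
    exact hker.symm.le.trans (Ideal.ker_le_comap mk)
  have hA : ∀ J : Ideal (C ⧸ I), J.comap (algebraMap A (C ⧸ I)) =
      (J.comap mk).comap (algebraMap A C) := by
    intro J
    rw [Ideal.comap_comap]
    rfl
  haveI hQ' : (Q.map mk).IsPrime := Ideal.map_isPrime_of_surjective hmks (hker.le.trans hIQ)
  haveI : Algebra.QuasiFiniteAt A (Q.map mk) := by
    refine quasiFiniteAt_of_isolated (Q.map mk) ?_ ?_
    · intro q' hq' hle hc
      haveI := hq'
      have h1 : Q ≤ q'.comap mk := by
        rw [← hcm Q hIQ]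
        exact Ideal.comap_mono hle
      have h2 := ha (q'.comap mk) (Ideal.comap_isPrime mk q') h1 (by
        rw [← hA, hc, hA, hcm Q hIQ])
      rw [← hmc q', h2]
    · intro q' hq' hle hc
      haveI := hq'
      have h1 : q'.comap mk ≤ Q := by
        rw [← hcm Q hIQ]
        exact Ideal.comap_mono hle
      have h2 := hb (q'.comap mk) (Ideal.comap_isPrime mk q') (hIc q') h1 (by
        rw [← hA, hc, hA, hcm Q hIQ])
      rw [← hmc q', h2]
  obtain ⟨r, hr, hfin, hsep⟩ := exists_away_quasiFinite (A := A) (Q.map mk)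
  obtain ⟨c', rfl⟩ := hmks r
  have hnot : ∀ q' : Ideal C, I ≤ q' → c' ∉ q' → mk c' ∉ q'.map mk := by
    intro q' hq' hc h
    have : c' ∈ (q'.map mk).comap mk := h
    rw [hcm q' hq'] at this
    exact hc this
  refine ⟨c', fun h => hr (Ideal.mem_map_of_mem mk h), ?_, ?_⟩
  · intro P
    refine ((hfin P).image (PrimeSpectrum.comap mk)).subset ?_
    rintro q' ⟨hq'I, hq'c, hq'P⟩
    haveI : (q'.asIdeal.map mk).IsPrime :=
      Ideal.map_isPrime_of_surjective hmks (hker.le.trans hq'I)
    refine ⟨⟨q'.asIdeal.map mk, inferInstance⟩, ⟨hnot _ hq'I hq'c, ?_⟩, ?_⟩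
    · rw [← hq'P]
      apply PrimeSpectrum.ext
      change (q'.asIdeal.map mk).comap (algebraMap A (C ⧸ I)) = q'.asIdeal.comap (algebraMap A C)
      rw [hA, hcm _ hq'I]
    · apply PrimeSpectrum.ext
      exact hcm _ hq'I
  · intro q' hq' hq'I hq'c hc
    haveI : (q'.map mk).IsPrime := Ideal.map_isPrime_of_surjective hmks (hker.le.trans hq'I)
    have h1 := hsep (q'.map mk) inferInstance (hnot _ hq'I hq'c) (by
      rw [hA, hcm _ hq'I, hc, hA, hcm Q hIQ])
    rw [← hcm q' hq'I, h1, hcm Q hIQ]

/-- consumer: on a localization `C'` of `C` away from a multiple of `c'`, the quotient by any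
ideal containing `I C'` is quasi-finite over `A`. -/
theorem quasiFinite_away_quot {A C : Type u} [CommRing A] [CommRing C] [Algebra A C]
    [Algebra.FiniteType A C] (I : Ideal C) (c' : C)
    (hfin : ∀ P : PrimeSpectrum A, {q' : PrimeSpectrum C | I ≤ q'.asIdeal ∧ c' ∉ q'.asIdeal ∧
      q'.comap (algebraMap A C) = P}.Finite)
    (C' : Type u) [CommRing C'] [Algebra C C'] [Algebra A C'] [IsScalarTower A C C'] (m : C)
    [IsLocalization.Away m C'] (hm : c' ∣ m) (I' : Ideal C')
    (hI' : I.map (algebraMap C C') ≤ I') :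
    Algebra.QuasiFinite A (C' ⧸ I') := by
  haveI : Algebra.FiniteType C C' := IsLocalization.finiteType_of_monoid_fg (Submonoid.powers m) C'
  haveI : Algebra.FiniteType A C' := Algebra.FiniteType.trans (S := C) inferInstance inferInstance
  rw [Algebra.QuasiFinite.iff_finite_comap_preimage_singleton]
  intro P
  set g : PrimeSpectrum (C' ⧸ I') → PrimeSpectrum C := fun q' =>
    PrimeSpectrum.comap (algebraMap C C') (PrimeSpectrum.comap (Ideal.Quotient.mk I') q') with hg
  have hginj : Function.Injective g := by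
    intro q₁ q₂ h
    exact PrimeSpectrum.comap_injective_of_surjective _ Ideal.Quotient.mk_surjective
      (PrimeSpectrum.localization_comap_injective C' (Submonoid.powers m) h)
  refine ((hfin P).preimage hginj.injOn).subset ?_
  intro q' hq'
  rw [Set.mem_preimage, Set.mem_singleton_iff] at hq'
  refine ⟨?_, ?_, ?_⟩
  · intro y hy
    change Ideal.Quotient.mk I' (algebraMap C C' y) ∈ q'.asIdeal
    have : algebraMap C C' y ∈ I' := hI' (Ideal.mem_map_of_mem _ hy)
    rw [Ideal.Quotient.eq_zero_iff_mem.2 this]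
    exact zero_mem _
  · intro hc
    have hc' : Ideal.Quotient.mk I' (algebraMap C C' c') ∈ q'.asIdeal := hc
    have hu : IsUnit (algebraMap C C' m) := IsLocalization.Away.algebraMap_isUnit m
    obtain ⟨d, rfl⟩ := hm
    rw [map_mul] at hu
    have hu' : IsUnit (algebraMap C C' c') := isUnit_of_mul_isUnit_left hu
    exact q'.2.ne_top (Ideal.eq_top_of_isUnit_mem _ hc' (hu'.map _))
  · rw [← hq']
    apply PrimeSpectrum.ext
    change ((q'.asIdeal.comap (Ideal.Quotient.mk I')).comap (algebraMap C C')).comap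
      (algebraMap A C) = q'.asIdeal.comap (algebraMap A (C' ⧸ I'))
    rw [Ideal.comap_comap, Ideal.comap_comap]
    congr 1
    ext a
    simp only [RingHom.comp_apply]
    rw [← IsScalarTower.algebraMap_apply A C C']
    rfl

end Groth.Agent.Lib.Helper14.LCF
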