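/-
Helper14 library (LCF): slicing a Cohen–Macaulay morphism at a point closed in its fibre down to
a quasi-finite flat morphism (EGA IV 15.4.3 / Stacks 0570-type statement).
-/
import Groth.Agent.Lib.Helper14.LCF.SliceSeqSch
import Groth.Agent.Lib.Helper14.LCF.CMSeq
import Groth.Agent.Lib.Helper14.LCF.QFinSlice
import Groth.Agent.Lib.Helper17.FibreStalkMap
import Groth.Prelude.Def_Mor2

set_option autoImplicit false
set_option linter.style.haveILetI false
universe u
open CategoryTheory CategoryTheory.Limits AlgebraicGeometry TensorProduct Opposite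

namespace Groth.Agent.Lib.Helper14.LCF

open Groth.Agent.Lib.Helper1.FlatAffine Groth.Agent.Lib.Helper17

variable {X S : Scheme.{u}} (f : X ⟶ S)

/-- the extension of the maximal ideal of `O_{S,f x}` to `O_{X,x}`, computed on affine charts. -/
theorem map_maximalIdeal_stalkMap_eq {T : S.Opens} (hT : IsAffineOpen T) {U₀ : X.Opens}
    (hU₀ : IsAffineOpen U₀) (hU₀T : U₀ ≤ f ⁻¹ᵁ T) (x : X) (hx : x ∈ U₀) :
    Ideal.map (f.stalkMap x).hom (IsLocalRing.maximalIdeal (S.presheaf.stalk (f x))) =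
      Ideal.map (X.presheaf.germ U₀ x hx).hom (Ideal.map (f.appLE T U₀ hU₀T).hom
        ((hU₀.primeIdealOf ⟨x, hx⟩).asIdeal.comap (f.appLE T U₀ hU₀T).hom)) := by
  have hq : (hU₀.primeIdealOf ⟨x, hx⟩).asIdeal.comap (f.appLE T U₀ hU₀T).hom =
      (hT.primeIdealOf ⟨f x, hU₀T hx⟩).asIdeal :=
    congrArg PrimeSpectrum.asIdeal (IsAffineOpen.comap_primeIdealOf_appLE T hT U₀ hU₀ hU₀T hx)
  letI aAOs : Algebra Γ(S, T) (S.presheaf.stalk (f x)) :=
    TopCat.Presheaf.algebra_section_stalk S.presheaf (U := T) ⟨f x, hU₀T hx⟩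
  haveI locOs : IsLocalization.AtPrime (S.presheaf.stalk (f x))
      (hT.primeIdealOf ⟨f x, hU₀T hx⟩).asIdeal := hT.isLocalization_stalk ⟨f x, hU₀T hx⟩
  rw [hq, ← IsLocalization.AtPrime.map_eq_maximalIdeal
    (hT.primeIdealOf ⟨f x, hU₀T hx⟩).asIdeal (S.presheaf.stalk (f x)), Ideal.map_map, Ideal.map_map]
  congr 1
  ext a
  exact (germ_appLE f hU₀T x hx a).symm

/-- Step A: at a point where the fibre is Cohen–Macaulay, a sequence in `𝔪_x` lifting a maximal
regular sequence of the fibre local ring. -/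
theorem exists_lift_seq_fibre (s : S) (x₀ : f.fiber s)
    [LocCoh.IsCohenMacaulayLocalRing ↑((f.fiber s).presheaf.stalk x₀)] :
    ∃ (n : ℕ) (hs : Fin n → X.presheaf.stalk (f.fiberι s x₀)),
      (∀ i, hs i ∈ IsLocalRing.maximalIdeal (X.presheaf.stalk (f.fiberι s x₀))) ∧
      (∀ (k : Fin n) (w : X.presheaf.stalk (f.fiberι s x₀)),
        hs k * w ∈ Ideal.map (f.stalkMap (f.fiberι s x₀)).hom
            (IsLocalRing.maximalIdeal (S.presheaf.stalk (f (f.fiberι s x₀)))) ⊔
          Ideal.span (hs '' {j : Fin n | j < k}) →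
        w ∈ Ideal.map (f.stalkMap (f.fiberι s x₀)).hom
            (IsLocalRing.maximalIdeal (S.presheaf.stalk (f (f.fiberι s x₀)))) ⊔
          Ideal.span (hs '' {j : Fin n | j < k})) ∧
      ∀ P : Ideal (X.presheaf.stalk (f.fiberι s x₀)), P.IsPrime →
        Ideal.map (f.stalkMap (f.fiberι s x₀)).hom
          (IsLocalRing.maximalIdeal (S.presheaf.stalk (f (f.fiberι s x₀)))) ≤ P →
        (∀ i, hs i ∈ P) → P = IsLocalRing.maximalIdeal (X.presheaf.stalk (f.fiberι s x₀)) := by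
  obtain ⟨hsurj, hker⟩ := FibreStalkMap.stalkMap_fiberι f s x₀
  obtain ⟨n, hs, h1, h2, h3⟩ := exists_lift_seq ((f.fiberι s).stalkMap x₀).hom hsurj
  rw [hker] at h2 h3
  exact ⟨n, hs, h1, h2, h3⟩

theorem exists_lift_seq_point (x : X)
    (hcm : LocCoh.IsCohenMacaulayLocalRing ↑((f.fiber (f x)).presheaf.stalk (f.asFiber x))) :
    ∃ (n : ℕ) (hs : Fin n → X.presheaf.stalk x),
      (∀ i, hs i ∈ IsLocalRing.maximalIdeal (X.presheaf.stalk x)) ∧
      (∀ (k : Fin n) (w : X.presheaf.stalk x),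
        hs k * w ∈ Ideal.map (f.stalkMap x).hom
            (IsLocalRing.maximalIdeal (S.presheaf.stalk (f x))) ⊔
          Ideal.span (hs '' {j : Fin n | j < k}) →
        w ∈ Ideal.map (f.stalkMap x).hom
            (IsLocalRing.maximalIdeal (S.presheaf.stalk (f x))) ⊔
          Ideal.span (hs '' {j : Fin n | j < k})) ∧
      ∀ P : Ideal (X.presheaf.stalk x), P.IsPrime →
        Ideal.map (f.stalkMap x).hom
          (IsLocalRing.maximalIdeal (S.presheaf.stalk (f x))) ≤ P →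
        (∀ i, hs i ∈ P) → P = IsLocalRing.maximalIdeal (X.presheaf.stalk x) := by
  have hfx : f.fiberι (f x) (f.asFiber x) = x := f.fiberι_asFiber x
  have hz := exists_lift_seq_fibre f (f x) (f.asFiber x)
  have key : ∀ z : X, z = x →
      (∃ (n : ℕ) (hs : Fin n → X.presheaf.stalk z),
        (∀ i, hs i ∈ IsLocalRing.maximalIdeal (X.presheaf.stalk z)) ∧
        (∀ (k : Fin n) (w : X.presheaf.stalk z),
          hs k * w ∈ Ideal.map (f.stalkMap z).hom
              (IsLocalRing.maximalIdeal (S.presheaf.stalk (f z))) ⊔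
            Ideal.span (hs '' {j : Fin n | j < k}) →
          w ∈ Ideal.map (f.stalkMap z).hom
              (IsLocalRing.maximalIdeal (S.presheaf.stalk (f z))) ⊔
            Ideal.span (hs '' {j : Fin n | j < k})) ∧
        ∀ P : Ideal (X.presheaf.stalk z), P.IsPrime →
          Ideal.map (f.stalkMap z).hom
            (IsLocalRing.maximalIdeal (S.presheaf.stalk (f z))) ≤ P →
          (∀ i, hs i ∈ P) → P = IsLocalRing.maximalIdeal (X.presheaf.stalk z)) →
      ∃ (n : ℕ) (hs : Fin n → X.presheaf.stalk x),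
        (∀ i, hs i ∈ IsLocalRing.maximalIdeal (X.presheaf.stalk x)) ∧
        (∀ (k : Fin n) (w : X.presheaf.stalk x),
          hs k * w ∈ Ideal.map (f.stalkMap x).hom
              (IsLocalRing.maximalIdeal (S.presheaf.stalk (f x))) ⊔
            Ideal.span (hs '' {j : Fin n | j < k}) →
          w ∈ Ideal.map (f.stalkMap x).hom
              (IsLocalRing.maximalIdeal (S.presheaf.stalk (f x))) ⊔
            Ideal.span (hs '' {j : Fin n | j < k})) ∧
        ∀ P : Ideal (X.presheaf.stalk x), P.IsPrime →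
          Ideal.map (f.stalkMap x).hom
            (IsLocalRing.maximalIdeal (S.presheaf.stalk (f x))) ≤ P →
          (∀ i, hs i ∈ P) → P = IsLocalRing.maximalIdeal (X.presheaf.stalk x) := by
    intro z hz h
    subst hz
    exact h
  exact key _ hfx hz

/-- a point closed in its fibre has no proper specialization inside the fibre. -/
theorem eq_of_specializes_of_isClosed_asFiber (x : X)
    (hcl : IsClosed ({f.asFiber x} : Set ↑(f.fiber (f x)))) (y : X) (hy : f y = f x)
    (hxy : x ⤳ y) : y = x := by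
  rw [← (f.fiberHomeo (f x)).isClosed_image] at hcl
  simp only [Set.image_singleton, Scheme.Hom.asFiber, Homeomorph.apply_symm_apply] at hcl
  have h1 : (⟨x, rfl⟩ : f ⁻¹' {f x}) ⤳ ⟨y, hy⟩ :=
    (Topology.IsInducing.subtypeVal.specializes_iff).1 hxy
  have h2 := hcl.closure_eq ▸ (specializes_iff_mem_closure.1 h1)
  rw [Set.mem_singleton_iff] at h2
  exact congrArg Subtype.val h2

theorem ofList_map {R R' : Type*} [CommSemiring R] [CommSemiring R'] (e : R →+* R') (l : List R) :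
    Ideal.ofList (l.map e) = (Ideal.ofList l).map e := by
  rw [Ideal.ofList, Ideal.ofList, Ideal.map_span]
  congr 1
  ext y
  simp

theorem ker_ideal_top_of_quotient {X : Scheme.{u}} {V : X.Opens} (hV : IsAffineOpen V)
    (I' : Ideal Γ(X, V)) (hVtop : IsAffineOpen (⊤ : (V : Scheme.{u}).Opens)) :
    (Spec.map (CommRingCat.ofHom (Ideal.Quotient.mk I')) ≫ hV.isoSpec.inv).ker.ideal
        ⟨⊤, hVtop⟩ =
      I'.map (V.topIso.symm.commRingCatIsoToRingEquiv : Γ(X, V) →+* Γ((V : Scheme.{u}), ⊤)) := by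
  haveI : IsClosedImmersion (Spec.map (CommRingCat.ofHom (Ideal.Quotient.mk I'))) :=
    IsClosedImmersion.spec_of_surjective _ Ideal.Quotient.mk_surjective
  rw [Scheme.Hom.ker_apply]
  have happ : (Spec.map (CommRingCat.ofHom (Ideal.Quotient.mk I')) ≫ hV.isoSpec.inv).appTop =
      V.topIso.hom ≫ CommRingCat.ofHom (Ideal.Quotient.mk I') ≫ (Scheme.ΓSpecIso _).inv := by
    rw [Scheme.Hom.comp_appTop, hV.isoSpec_inv_appTop, Category.assoc,
      ← Scheme.ΓSpecIso_inv_naturality]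
  ext y
  rw [RingHom.mem_ker]
  change (Spec.map (CommRingCat.ofHom (Ideal.Quotient.mk I')) ≫ hV.isoSpec.inv).appTop.hom y = 0 ↔ _
  rw [happ]
  simp only [CommRingCat.hom_comp, RingHom.comp_apply, CommRingCat.hom_ofHom]
  have hinj : Function.Injective (Scheme.ΓSpecIso
      (CommRingCat.of (Γ(X, V) ⧸ I'))).inv.hom :=
    (ConcreteCategory.bijective_of_isIso _).1
  rw [map_eq_zero_iff _ hinj, Ideal.Quotient.eq_zero_iff_mem]
  constructor
  · intro h
    have h2 := Ideal.mem_map_of_mem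
      (V.topIso.symm.commRingCatIsoToRingEquiv : Γ(X, V) →+* Γ((V : Scheme.{u}), ⊤)) h
    have h3 : (V.topIso.symm.commRingCatIsoToRingEquiv : Γ(X, V) →+* Γ((V : Scheme.{u}), ⊤))
        (V.topIso.hom.hom y) = y := by
      change (V.topIso.hom ≫ V.topIso.inv).hom y = y
      rw [Iso.hom_inv_id]
      rfl
    rwa [h3] at h2
  · intro h
    obtain ⟨x, hx, rfl⟩ := (Ideal.mem_map_of_equiv V.topIso.symm.commRingCatIsoToRingEquiv y).1 h
    have h3 : V.topIso.hom.hom (V.topIso.symm.commRingCatIsoToRingEquiv x) = x := by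
      change (V.topIso.inv ≫ V.topIso.hom).hom x = x
      rw [Iso.inv_hom_id]
      rfl
    rw [h3]
    exact hx

/-- points of charts: image in the base. -/
theorem apply_fromSpec {T : S.Opens} (hT : IsAffineOpen T) {U₀ : X.Opens}
    (hU₀ : IsAffineOpen U₀) (hU₀T : U₀ ≤ f ⁻¹ᵁ T) (q : Spec Γ(X, U₀)) :
    f (hU₀.fromSpec q) = hT.fromSpec (Spec.map (f.appLE T U₀ hU₀T) q) := by
  rw [← Scheme.Hom.comp_apply, ← Scheme.Hom.comp_apply, hT.SpecMap_appLE_fromSpec f hU₀ hU₀T]

theorem apply_fromSpec_eq_iff {T : S.Opens} (hT : IsAffineOpen T) {U₀ : X.Opens}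
    (hU₀ : IsAffineOpen U₀) (hU₀T : U₀ ≤ f ⁻¹ᵁ T) (x : X) (hx : x ∈ U₀)
    (q : Spec Γ(X, U₀)) :
    f (hU₀.fromSpec q) = f x ↔ q.asIdeal.comap (f.appLE T U₀ hU₀T).hom =
      (hU₀.primeIdealOf ⟨x, hx⟩).asIdeal.comap (f.appLE T U₀ hU₀T).hom := by
  have h1 : f x = hT.fromSpec (Spec.map (f.appLE T U₀ hU₀T) (hU₀.primeIdealOf ⟨x, hx⟩)) :=
    (congrArg f (hU₀.fromSpec_primeIdealOf ⟨x, hx⟩)).symm.trans
      (apply_fromSpec f hT hU₀ hU₀T (hU₀.primeIdealOf ⟨x, hx⟩))
  rw [h1, apply_fromSpec f hT hU₀ hU₀T, hT.fromSpec.isOpenEmbedding.injective.eq_iff]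
  constructor
  · intro h
    exact congrArg PrimeSpectrum.asIdeal h
  · intro h
    exact PrimeSpectrum.ext h

theorem slice_cm [LocallyOfFinitePresentation f] (x : X)
    (hflat : (f.stalkMap x).hom.Flat)
    (hcm : LocCoh.IsCohenMacaulayLocalRing ↑((f.fiber (f x)).presheaf.stalk (f.asFiber x)))
    (hcl : IsClosed ({f.asFiber x} : Set ↑(f.fiber (f x)))) :
    ∃ (V : X.Opens) (Z : Scheme.{u}) (i : Z ⟶ (V : Scheme.{u})),
      Mor2.IsRegularClosedImmersion i ∧ x ∈ Set.range ⇑(i ≫ V.ι) ∧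
      Flat (i ≫ V.ι ≫ f) ∧ LocallyOfFinitePresentation (i ≫ V.ι ≫ f) ∧
      LocallyQuasiFinite (i ≫ V.ι ≫ f) ∧
      ∀ z : Z, f (V.ι (i z)) = f x → V.ι (i z) = x := by
  obtain ⟨n, hs, hA1, hA2, hA3⟩ := exists_lift_seq_point f x hcm
  obtain ⟨T, hT, U₀, hU₀, hU₀T, hx, gs, c, hgerm, hxc, H⟩ :=
    exists_slice_seq f x hflat hs hA1 hA2
  -- ring-level setup
  letI aAC : Algebra Γ(S, T) Γ(X, U₀) := (f.appLE T U₀ hU₀T).hom.toAlgebra
  haveI fpAC : Algebra.FinitePresentation Γ(S, T) Γ(X, U₀) :=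
    f.finitePresentation_appLE hT hU₀ hU₀T
  set Q := (hU₀.primeIdealOf ⟨x, hx⟩).asIdeal with hQ
  letI aCO : Algebra Γ(X, U₀) (X.presheaf.stalk x) :=
    TopCat.Presheaf.algebra_section_stalk X.presheaf (U := U₀) ⟨x, hx⟩
  haveI locO : IsLocalization.AtPrime (X.presheaf.stalk x) Q :=
    hU₀.isLocalization_stalk ⟨x, hx⟩
  set I : Ideal Γ(X, U₀) := Ideal.span (Set.range gs) with hI
  have hgQ : ∀ i, gs i ∈ Q := by
    intro i
    rw [← IsLocalization.AtPrime.to_map_mem_maximal_iff (X.presheaf.stalk x) Q (gs i)]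
    change X.presheaf.germ U₀ x hx (gs i) ∈ _
    rw [hgerm i]
    exact hA1 i
  have hIQ : I ≤ Q := by
    rw [hI, Ideal.span_le]
    rintro _ ⟨i, rfl⟩
    exact hgQ i
  have hK := map_maximalIdeal_stalkMap_eq f hT hU₀ hU₀T x hx
  -- (a)
  have ha : ∀ q' : Ideal Γ(X, U₀), q'.IsPrime → Q ≤ q' →
      q'.comap (algebraMap Γ(S, T) Γ(X, U₀)) = Q.comap (algebraMap Γ(S, T) Γ(X, U₀)) → q' = Q := by
    intro q' hq' hle hc
    let qp : Spec Γ(X, U₀) := ⟨q', hq'⟩
    have hfy : f (hU₀.fromSpec qp) = f x := (apply_fromSpec_eq_iff f hT hU₀ hU₀T x hx qp).2 hc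
    have hsp : x ⤳ hU₀.fromSpec qp := by
      have h1 : (hU₀.primeIdealOf ⟨x, hx⟩ : PrimeSpectrum Γ(X, U₀)) ⤳
          (qp : PrimeSpectrum Γ(X, U₀)) := (PrimeSpectrum.le_iff_specializes _ _).1 hle
      have h2 := h1.map hU₀.fromSpec.continuous
      rwa [hU₀.fromSpec_primeIdealOf ⟨x, hx⟩] at h2
    have hyx := eq_of_specializes_of_isClosed_asFiber f x hcl _ hfy hsp
    have : qp = hU₀.primeIdealOf ⟨x, hx⟩ := hU₀.fromSpec.isOpenEmbedding.injective
      (hyx.trans (hU₀.fromSpec_primeIdealOf ⟨x, hx⟩).symm)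
    exact congrArg PrimeSpectrum.asIdeal this
  -- (b)
  have hb : ∀ q' : Ideal Γ(X, U₀), q'.IsPrime → I ≤ q' → q' ≤ Q →
      q'.comap (algebraMap Γ(S, T) Γ(X, U₀)) = Q.comap (algebraMap Γ(S, T) Γ(X, U₀)) → q' = Q := by
    intro q' hq' hIq' hle hc
    have hdisj : Disjoint (Q.primeCompl : Set Γ(X, U₀)) (q' : Set Γ(X, U₀)) := by
      rw [Set.disjoint_left]
      intro a ha ha'
      exact ha (hle ha')
    set P := q'.map (algebraMap Γ(X, U₀) (X.presheaf.stalk x)) with hP
    have hPprime : P.IsPrime :=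
      IsLocalization.isPrime_of_isPrime_disjoint Q.primeCompl _ q' hq' hdisj
    have hPcomap : P.comap (algebraMap Γ(X, U₀) (X.presheaf.stalk x)) = q' :=
      IsLocalization.comap_map_of_isPrime_disjoint Q.primeCompl _ hq' hdisj
    have hKP : Ideal.map (f.stalkMap x).hom
        (IsLocalRing.maximalIdeal (S.presheaf.stalk (f x))) ≤ P := by
      rw [hK]
      refine Ideal.map_mono ?_
      rw [Ideal.map_le_iff_le_comap]
      exact hc.symm.le
    have hmemP : ∀ i, hs i ∈ P := by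
      intro i
      rw [← hgerm i]
      exact Ideal.mem_map_of_mem _ (hIq' (Ideal.subset_span ⟨i, rfl⟩))
    have hPm := hA3 P hPprime hKP hmemP
    rw [← hPcomap, hPm]
    exact IsLocalization.AtPrime.comap_maximalIdeal (X.presheaf.stalk x) Q
  obtain ⟨c', hc'Q, hfin, hsep⟩ := exists_away_quasiFinite_quot (A := Γ(S, T)) I Q hIQ ha hb
  have hcQ : c ∉ Q := by
    rw [Scheme.mem_basicOpen X c x hx] at hxc
    exact (IsLocalization.AtPrime.isUnit_to_map_iff (X.presheaf.stalk x) Q c).1 hxc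
  have hmQ : c * c' ∉ Q := fun h => (Ideal.IsPrime.mem_or_mem inferInstance h).elim hcQ hc'Q
  have hxV : x ∈ X.basicOpen (c * c') := by
    rw [Scheme.mem_basicOpen X (c * c') x hx]
    exact (IsLocalization.AtPrime.isUnit_to_map_iff (X.presheaf.stalk x) Q (c * c')).2 hmQ
  have hV : IsAffineOpen (X.basicOpen (c * c')) := hU₀.basicOpen (c * c')
  have hVT : X.basicOpen (c * c') ≤ f ⁻¹ᵁ T := le_trans (X.basicOpen_le (c * c')) hU₀T
  obtain ⟨hregV, hflV, hfpV⟩ := H c'
  set gs' : Fin n → Γ(X, X.basicOpen (c * c')) := fun i =>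
    algebraMap Γ(X, U₀) Γ(X, X.basicOpen (c * c')) (gs i) with hgs'
  set I' : Ideal Γ(X, X.basicOpen (c * c')) := Ideal.span (Set.range gs') with hI'
  set i : Spec (CommRingCat.of (Γ(X, X.basicOpen (c * c')) ⧸ I')) ⟶
      ((X.basicOpen (c * c') : X.Opens) : Scheme.{u}) :=
    Spec.map (CommRingCat.ofHom (Ideal.Quotient.mk I')) ≫ hV.isoSpec.inv with hi
  have hcomp : i ≫ (X.basicOpen (c * c')).ι ≫ f =
      Spec.map (CommRingCat.ofHom (Ideal.Quotient.mk I')) ≫ hV.fromSpec ≫ f := by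
    rw [hi, Category.assoc]
    rfl
  have hcomp' : i ≫ (X.basicOpen (c * c')).ι =
      Spec.map (CommRingCat.ofHom (Ideal.Quotient.mk I')) ≫ hV.fromSpec := by
    rw [hi, Category.assoc]
    rfl
  have hgerm' : ∀ j, X.presheaf.germ (X.basicOpen (c * c')) x hxV (gs' j) = hs j := by
    intro j
    rw [← hgerm j]
    exact TopCat.Presheaf.germ_res_apply X.presheaf (homOfLE (X.basicOpen_le _)) x hxV (gs j)
  have hI'Q' : I' ≤ (hV.primeIdealOf ⟨x, hxV⟩).asIdeal := by
    rw [hI', Ideal.span_le]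
    rintro _ ⟨j, rfl⟩
    letI : Algebra Γ(X, X.basicOpen (c * c')) (X.presheaf.stalk x) :=
      TopCat.Presheaf.algebra_section_stalk X.presheaf (U := X.basicOpen (c * c')) ⟨x, hxV⟩
    haveI := hV.isLocalization_stalk ⟨x, hxV⟩
    rw [SetLike.mem_coe, ← IsLocalization.AtPrime.to_map_mem_maximal_iff (X.presheaf.stalk x)
      (hV.primeIdealOf ⟨x, hxV⟩).asIdeal (gs' j)]
    change X.presheaf.germ (X.basicOpen (c * c')) x hxV (gs' j) ∈ _
    rw [hgerm' j]
    exact hA1 j
  refine ⟨X.basicOpen (c * c'), _, i, ?_, ?_, ?_, ?_, ?_, ?_⟩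
  · haveI : IsAffine ((X.basicOpen (c * c') : X.Opens) : Scheme.{u}) := hV
    refine ⟨?_, ?_⟩
    · haveI : IsClosedImmersion (Spec.map (CommRingCat.ofHom (Ideal.Quotient.mk I'))) :=
        IsClosedImmersion.spec_of_surjective _ Ideal.Quotient.mk_surjective
      rw [hi]
      infer_instance
    · intro z
      refine ⟨⊤, isAffineOpen_top _, trivial, ?_⟩
      set e : Γ(X, X.basicOpen (c * c')) ≃+*
          Γ(((X.basicOpen (c * c') : X.Opens) : Scheme.{u}), ⊤) :=
        (X.basicOpen (c * c')).topIso.symm.commRingCatIsoToRingEquiv with he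
      have hI'top : I' ≠ ⊤ := by
        intro h
        apply z.2.ne_top
        rw [Ideal.eq_top_iff_one]
        have : (1 : Γ(X, X.basicOpen (c * c')) ⧸ I') = 0 := by
          rw [← map_one (Ideal.Quotient.mk I'), Ideal.Quotient.eq_zero_iff_mem, h]
          trivial
        rw [this]
        exact zero_mem _
      have hofList : Ideal.ofList (List.ofFn gs') = I' := ofList_ofFn gs'
      refine ⟨(List.ofFn gs').map e, ?_, ?_⟩
      · have hreg0 : RingTheory.Sequence.IsRegular Γ(X, X.basicOpen (c * c')) (List.ofFn gs') := by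
          refine ⟨hregV, ?_⟩
          rw [smul_eq_mul, Ideal.mul_top, hofList]
          exact hI'top.symm
        exact (AddEquiv.isRegular_congr (e := e.toAddEquiv)
          (List.forall₂_map_right_iff.mpr <| List.forall₂_same.mpr
            fun r _ x => map_mul e r x)).1 hreg0
      · have hmapI : Ideal.ofList ((List.ofFn gs').map e) = I'.map (e : Γ(X, X.basicOpen (c * c')) →+*
            Γ(((X.basicOpen (c * c') : X.Opens) : Scheme.{u}), ⊤)) := by
          rw [← hofList]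
          exact ofList_map (e : Γ(X, X.basicOpen (c * c')) →+*
            Γ(((X.basicOpen (c * c') : X.Opens) : Scheme.{u}), ⊤)) _
        rw [hmapI, hi]
        exact ker_ideal_top_of_quotient hV I' _
  · rw [hcomp']
    have hrange : hV.primeIdealOf ⟨x, hxV⟩ ∈
        Set.range (PrimeSpectrum.comap (Ideal.Quotient.mk I')) := by
      rw [range_comap_of_surjective _ (Ideal.Quotient.mk I')
        Ideal.Quotient.mk_surjective, Ideal.mk_ker, PrimeSpectrum.mem_zeroLocus]
      exact hI'Q'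
    obtain ⟨z, hz⟩ := hrange
    refine ⟨z, ?_⟩
    refine (Scheme.Hom.comp_apply (Spec.map (CommRingCat.ofHom (Ideal.Quotient.mk I')))
      hV.fromSpec z).trans ?_
    exact (congrArg hV.fromSpec hz).trans (hV.fromSpec_primeIdealOf ⟨x, hxV⟩)
  · rw [hcomp]
    exact hflV
  · rw [hcomp]
    exact hfpV
  · rw [hcomp]
    set ψ : Γ(S, T) ⟶ CommRingCat.of (Γ(X, X.basicOpen (c * c')) ⧸ I') :=
      f.appLE T (X.basicOpen (c * c')) hVT ≫ CommRingCat.ofHom (Ideal.Quotient.mk I') with hψ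
    have e1 : Spec.map (CommRingCat.ofHom (Ideal.Quotient.mk I')) ≫
        hV.fromSpec ≫ f = Spec.map ψ ≫ hT.fromSpec := by
      rw [← hT.SpecMap_appLE_fromSpec f hV hVT, hψ, Spec.map_comp, Category.assoc]
    rw [e1]
    haveI locU : IsLocalization.Away (c * c') Γ(X, X.basicOpen (c * c')) :=
      hU₀.isLocalization_basicOpen (c * c')
    letI aAU : Algebra Γ(S, T) Γ(X, X.basicOpen (c * c')) :=
      ((algebraMap Γ(X, U₀) Γ(X, X.basicOpen (c * c'))).comp
        (algebraMap Γ(S, T) Γ(X, U₀))).toAlgebra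
    haveI : IsScalarTower Γ(S, T) Γ(X, U₀) Γ(X, X.basicOpen (c * c')) :=
      IsScalarTower.of_algebraMap_eq fun _ => rfl
    have hqf : Algebra.QuasiFinite Γ(S, T) (Γ(X, X.basicOpen (c * c')) ⧸ I') :=
      quasiFinite_away_quot (A := Γ(S, T)) I c' hfin Γ(X, X.basicOpen (c * c')) (c * c')
        (Dvd.intro_left c rfl) I' (by
          rw [hI, Ideal.map_span, ← Set.range_comp]
          exact le_rfl)
    have hψqf : ψ.hom.QuasiFinite := by
      have h3 : (algebraMap Γ(S, T) (Γ(X, X.basicOpen (c * c')) ⧸ I')).QuasiFinite :=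
        RingHom.quasiFinite_algebraMap.2 hqf
      have h4 : ψ.hom = algebraMap Γ(S, T) (Γ(X, X.basicOpen (c * c')) ⧸ I') := by
        ext a
        change Ideal.Quotient.mk _ ((f.appLE T (X.basicOpen (c * c')) hVT).hom a) =
          Ideal.Quotient.mk _ (algebraMap Γ(X, U₀) Γ(X, X.basicOpen (c * c'))
            (algebraMap Γ(S, T) Γ(X, U₀) a))
        congr 1
        exact congr($(Scheme.Hom.appLE_map f hU₀T
          (homOfLE (X.basicOpen_le (c * c'))).op).hom a).symm
      rw [h4]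
      exact h3
    haveI : LocallyQuasiFinite (Spec.map ψ) :=
      (HasRingHomProperty.Spec_iff (P := @LocallyQuasiFinite)).2 hψqf
    infer_instance
  · intro z hz
    have hpt : (X.basicOpen (c * c')).ι (i z) =
        hV.fromSpec (Spec.map (CommRingCat.ofHom (Ideal.Quotient.mk I')) z) := by
      rw [← Scheme.Hom.comp_apply, hcomp', Scheme.Hom.comp_apply]
    rw [hpt] at hz ⊢
    set q'' : Spec Γ(X, X.basicOpen (c * c')) :=
      Spec.map (CommRingCat.ofHom (Ideal.Quotient.mk I')) z with hq''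
    have hres : hV.fromSpec q'' = hU₀.fromSpec
        (Spec.map (X.presheaf.map (homOfLE (X.basicOpen_le (c * c'))).op) q'') := by
      have h0 : (Spec.map (X.presheaf.map (homOfLE (X.basicOpen_le (c * c'))).op) ≫
          hU₀.fromSpec) q'' = hV.fromSpec q'' := by
        rw [hU₀.map_fromSpec hV]
      exact h0.symm.trans (Scheme.Hom.comp_apply _ _ q'')
    rw [hres] at hz ⊢
    set q' : Spec Γ(X, U₀) :=
      Spec.map (X.presheaf.map (homOfLE (X.basicOpen_le (c * c'))).op) q'' with hq'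
    have hc := (apply_fromSpec_eq_iff f hT hU₀ hU₀T x hx q').1 hz
    have hIq' : I ≤ q'.asIdeal := by
      rw [hI, Ideal.span_le]
      rintro _ ⟨j, rfl⟩
      change Ideal.Quotient.mk I' (gs' j) ∈ z.asIdeal
      have h0 : gs' j ∈ I' := Ideal.subset_span ⟨j, rfl⟩
      rw [Ideal.Quotient.eq_zero_iff_mem.2 h0]
      exact zero_mem _
    have hc'q' : c' ∉ q'.asIdeal := by
      intro h
      haveI locU : IsLocalization.Away (c * c') Γ(X, X.basicOpen (c * c')) :=
        hU₀.isLocalization_basicOpen (c * c')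
      have hu : IsUnit (algebraMap Γ(X, U₀) Γ(X, X.basicOpen (c * c')) (c * c')) :=
        IsLocalization.Away.algebraMap_isUnit _
      have hmem : algebraMap Γ(X, U₀) Γ(X, X.basicOpen (c * c')) (c * c') ∈ q''.asIdeal := by
        rw [map_mul]
        exact Ideal.mul_mem_left _ _ h
      exact q''.2.ne_top (Ideal.eq_top_of_isUnit_mem _ hmem hu)
    have h1 := hsep q'.asIdeal q'.2 hIq' hc'q' hc
    have h2 : q' = hU₀.primeIdealOf ⟨x, hx⟩ := PrimeSpectrum.ext h1
    rw [h2]
    exact hU₀.fromSpec_primeIdealOf ⟨x, hx⟩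

end Groth.Agent.Lib.Helper14.LCF
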