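/-
Helper14 library (LCF): the data produced by slicing a Cohen–Macaulay morphism at a point closed
in its fibre: an affine open, a sequence of sections lifting a maximal regular sequence of the
fibre local ring, and a basic open on which `x` is the only common zero in its fibre.
-/
import Groth.Agent.Lib.Helper14.LCF.CMSlice

set_option autoImplicit false
set_option linter.style.haveILetI false
universe u
open CategoryTheory CategoryTheory.Limits AlgebraicGeometry TensorProduct Opposite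

namespace Groth.Agent.Lib.Helper14.LCF

open Groth.Agent.Lib.Helper1.FlatAffine Groth.Agent.Lib.Helper17

variable {X S : Scheme.{u}} (f : X ⟶ S)

theorem slice_cm_data [LocallyOfFinitePresentation f] (x : X)
    (hflat : (f.stalkMap x).hom.Flat)
    (hcm : LocCoh.IsCohenMacaulayLocalRing ↑((f.fiber (f x)).presheaf.stalk (f.asFiber x)))
    (hcl : IsClosed ({f.asFiber x} : Set ↑(f.fiber (f x)))) :
    ∃ (n : ℕ) (hs : Fin n → X.presheaf.stalk x),
      (∀ i, hs i ∈ IsLocalRing.maximalIdeal (X.presheaf.stalk x)) ∧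
      (∀ (k : Fin n) (w : X.presheaf.stalk x),
        hs k * w ∈ Ideal.map (f.stalkMap x).hom
            (IsLocalRing.maximalIdeal (S.presheaf.stalk (f x))) ⊔
          Ideal.span (hs '' {j : Fin n | j < k}) →
        w ∈ Ideal.map (f.stalkMap x).hom
            (IsLocalRing.maximalIdeal (S.presheaf.stalk (f x))) ⊔
          Ideal.span (hs '' {j : Fin n | j < k})) ∧
      (∀ P : Ideal (X.presheaf.stalk x), P.IsPrime →
        Ideal.map (f.stalkMap x).hom
          (IsLocalRing.maximalIdeal (S.presheaf.stalk (f x))) ≤ P →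
        (∀ i, hs i ∈ P) → P = IsLocalRing.maximalIdeal (X.presheaf.stalk x)) ∧
      ∃ (U₀ : X.Opens) (_ : IsAffineOpen U₀) (hx : x ∈ U₀) (gs : Fin n → Γ(X, U₀))
        (m : Γ(X, U₀)),
        (∀ i, X.presheaf.germ U₀ x hx (gs i) = hs i) ∧ x ∈ X.basicOpen m ∧
        ∀ u : X, u ∈ X.basicOpen m → f u = f x → (∀ i, u ∉ X.basicOpen (gs i)) → u = x := by
  obtain ⟨n, hs, hA1, hA2, hA3⟩ := exists_lift_seq_point f x hcm
  obtain ⟨T, hT, U₀, hU₀, hU₀T, hx, gs, c, hgerm, hxc, H⟩ :=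
    exists_slice_seq f x hflat hs hA1 hA2
  -- ring-level setup
  letI aAC : Algebra Γ(S, T) Γ(X, U₀) := (f.appLE T U₀ hU₀T).hom.toAlgebra
  haveI fpAC : Algebra.FinitePresentation Γ(S, T) Γ(X, U₀) :=
    f.finitePresentation_appLE hT hU₀ hU₀T
  set Q := (hU₀.primeIdealOf ⟨x, hx⟩).asIdeal with hQ
  letI aCO : Algebra Γ(X, U₀) (X.presheaf.stalk x) :=
    TopCat.Presheaf.algebra_section_stalk X.presheaf (U := U₀) ⟨x, hx⟩
  haveI locO : IsLocalization.AtPrime (X.presheaf.stalk x) Q :=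
    hU₀.isLocalization_stalk ⟨x, hx⟩
  set I : Ideal Γ(X, U₀) := Ideal.span (Set.range gs) with hI
  have hgQ : ∀ i, gs i ∈ Q := by
    intro i
    rw [← IsLocalization.AtPrime.to_map_mem_maximal_iff (X.presheaf.stalk x) Q (gs i)]
    change X.presheaf.germ U₀ x hx (gs i) ∈ _
    rw [hgerm i]
    exact hA1 i
  have hIQ : I ≤ Q := by
    rw [hI, Ideal.span_le]
    rintro _ ⟨i, rfl⟩
    exact hgQ i
  have hK := map_maximalIdeal_stalkMap_eq f hT hU₀ hU₀T x hx
  -- (a)
  have ha : ∀ q' : Ideal Γ(X, U₀), q'.IsPrime → Q ≤ q' →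
      q'.comap (algebraMap Γ(S, T) Γ(X, U₀)) = Q.comap (algebraMap Γ(S, T) Γ(X, U₀)) → q' = Q := by
    intro q' hq' hle hc
    let qp : Spec Γ(X, U₀) := ⟨q', hq'⟩
    have hfy : f (hU₀.fromSpec qp) = f x := (apply_fromSpec_eq_iff f hT hU₀ hU₀T x hx qp).2 hc
    have hsp : x ⤳ hU₀.fromSpec qp := by
      have h1 : (hU₀.primeIdealOf ⟨x, hx⟩ : PrimeSpectrum Γ(X, U₀)) ⤳
          (qp : PrimeSpectrum Γ(X, U₀)) := (PrimeSpectrum.le_iff_specializes _ _).1 hle
      have h2 := h1.map hU₀.fromSpec.continuous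
      rwa [hU₀.fromSpec_primeIdealOf ⟨x, hx⟩] at h2
    have hyx := eq_of_specializes_of_isClosed_asFiber f x hcl _ hfy hsp
    have : qp = hU₀.primeIdealOf ⟨x, hx⟩ := hU₀.fromSpec.isOpenEmbedding.injective
      (hyx.trans (hU₀.fromSpec_primeIdealOf ⟨x, hx⟩).symm)
    exact congrArg PrimeSpectrum.asIdeal this
  -- (b)
  have hb : ∀ q' : Ideal Γ(X, U₀), q'.IsPrime → I ≤ q' → q' ≤ Q →
      q'.comap (algebraMap Γ(S, T) Γ(X, U₀)) = Q.comap (algebraMap Γ(S, T) Γ(X, U₀)) → q' = Q := by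
    intro q' hq' hIq' hle hc
    have hdisj : Disjoint (Q.primeCompl : Set Γ(X, U₀)) (q' : Set Γ(X, U₀)) := by
      rw [Set.disjoint_left]
      intro a ha ha'
      exact ha (hle ha')
    set P := q'.map (algebraMap Γ(X, U₀) (X.presheaf.stalk x)) with hP
    have hPprime : P.IsPrime :=
      IsLocalization.isPrime_of_isPrime_disjoint Q.primeCompl _ q' hq' hdisj
    have hPcomap : P.comap (algebraMap Γ(X, U₀) (X.presheaf.stalk x)) = q' :=
      IsLocalization.comap_map_of_isPrime_disjoint Q.primeCompl _ hq' hdisj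
    have hKP : Ideal.map (f.stalkMap x).hom
        (IsLocalRing.maximalIdeal (S.presheaf.stalk (f x))) ≤ P := by
      rw [hK]
      refine Ideal.map_mono ?_
      rw [Ideal.map_le_iff_le_comap]
      exact hc.symm.le
    have hmemP : ∀ i, hs i ∈ P := by
      intro i
      rw [← hgerm i]
      exact Ideal.mem_map_of_mem _ (hIq' (Ideal.subset_span ⟨i, rfl⟩))
    have hPm := hA3 P hPprime hKP hmemP
    rw [← hPcomap, hPm]
    exact IsLocalization.AtPrime.comap_maximalIdeal (X.presheaf.stalk x) Q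
  obtain ⟨c', hc'Q, hfin, hsep⟩ := exists_away_quasiFinite_quot (A := Γ(S, T)) I Q hIQ ha hb
  have hcQ : c ∉ Q := by
    rw [Scheme.mem_basicOpen X c x hx] at hxc
    exact (IsLocalization.AtPrime.isUnit_to_map_iff (X.presheaf.stalk x) Q c).1 hxc
  have hmQ : c * c' ∉ Q := fun h => (Ideal.IsPrime.mem_or_mem inferInstance h).elim hcQ hc'Q
  have hxV : x ∈ X.basicOpen (c * c') := by
    rw [Scheme.mem_basicOpen X (c * c') x hx]
    exact (IsLocalization.AtPrime.isUnit_to_map_iff (X.presheaf.stalk x) Q (c * c')).2 hmQ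
  refine ⟨n, hs, hA1, hA2, hA3, U₀, hU₀, hx, gs, c * c', hgerm, hxV, ?_⟩
  intro u hum hfu hgu
  have huU : u ∈ U₀ := X.basicOpen_le (c * c') hum
  set q' : Spec Γ(X, U₀) := hU₀.primeIdealOf ⟨u, huU⟩ with hq'
  have hfq : hU₀.fromSpec q' = u := hU₀.fromSpec_primeIdealOf ⟨u, huU⟩
  letI aCOu : Algebra Γ(X, U₀) (X.presheaf.stalk u) :=
    TopCat.Presheaf.algebra_section_stalk X.presheaf (U := U₀) ⟨u, huU⟩
  haveI locOu : IsLocalization.AtPrime (X.presheaf.stalk u) q'.asIdeal :=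
    hU₀.isLocalization_stalk ⟨u, huU⟩
  have hmem : ∀ a : Γ(X, U₀), u ∈ X.basicOpen a ↔ a ∉ q'.asIdeal := by
    intro a
    rw [Scheme.mem_basicOpen X a u huU]
    exact IsLocalization.AtPrime.isUnit_to_map_iff (X.presheaf.stalk u) q'.asIdeal a
  have hc := (apply_fromSpec_eq_iff f hT hU₀ hU₀T x hx q').1 (by rw [hfq]; exact hfu)
  have hIq' : I ≤ q'.asIdeal := by
    rw [hI, Ideal.span_le]
    rintro _ ⟨j, rfl⟩
    by_contra hj
    exact hgu j ((hmem (gs j)).2 hj)
  have hc'q' : c' ∉ q'.asIdeal := by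
    intro h
    exact (hmem (c * c')).1 hum (Ideal.mul_mem_left _ _ h)
  have h1 := hsep q'.asIdeal q'.2 hIq' hc'q' hc
  have h2 : q' = hU₀.primeIdealOf ⟨x, hx⟩ := PrimeSpectrum.ext h1
  rw [← hfq, h2]
  exact hU₀.fromSpec_primeIdealOf ⟨x, hx⟩

end Groth.Agent.Lib.Helper14.LCF
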