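/-
Helper14 library (FibExactLoc): fibrewise exactness of a complex of finitely presented flat
modules over a local ring `S = (S₀)_q` (localization of a finitely presented `R`-algebra) is
equivalent to exactness plus flatness of the cokernel.

`injective_and_flat_coker'` is helper24's Stacks 046Y (`EssFPInj.injective_and_flat_coker`) with
the base ring `R` not assumed local (the proof is theirs, with the two uses of locality replaced).
-/
import Mathlib
import Groth.Agent.Lib.Helper24.EssFPInj

set_option autoImplicit false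
set_option maxHeartbeats 400000
set_option linter.style.haveILetI false
universe u
open TensorProduct

namespace Groth.Agent.Lib.Helper14.LCF.FibExact

open Groth.Agent.Lib.Helper14.FlatStage Groth.Agent.Lib.Helper24.EssFPInj

set_option maxHeartbeats 1600000 in
/-- **Stacks 046Y**, base ring not necessarily local. -/
theorem injective_and_flat_coker' {R S₀ S M N : Type u} [CommRing R] [CommRing S₀] [CommRing S]
    [Algebra R S₀] [Algebra.FinitePresentation R S₀] [Algebra S₀ S] [Algebra R S]
    [IsScalarTower R S₀ S]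
    (q : Ideal S₀) [q.IsPrime] [IsLocalization.AtPrime S q]
    [AddCommGroup M] [Module S M] [Module R M] [IsScalarTower R S M]
    [Module.FinitePresentation S M]
    [AddCommGroup N] [Module S N] [Module R N] [IsScalarTower R S N]
    [Module.FinitePresentation S N] [Module.Flat R N]
    (u : M →ₗ[S] N)
    (hu : ∀ x : M, u x ∈ (q.comap (algebraMap R S₀)).map (algebraMap R S) •
        (⊤ : Submodule S N) →
      x ∈ (q.comap (algebraMap R S₀)).map (algebraMap R S) • (⊤ : Submodule S M)) :
    Function.Injective u ∧ Module.Flat R (N ⧸ LinearMap.range u) := by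
  classical
  haveI : IsLocalRing S := IsLocalization.AtPrime.isLocalRing S q
  obtain ⟨𝔪, h𝔪⟩ : ∃ 𝔪 : Ideal R, 𝔪 = q.comap (algebraMap R S₀) := ⟨_, rfl⟩
  obtain ⟨I, hI⟩ : ∃ I : Ideal S, I = 𝔪.map (algebraMap R S) := ⟨_, rfl⟩
  rw [← h𝔪, ← hI] at hu
  have hrfg : (LinearMap.range u).FG := by
    rw [LinearMap.range_eq_map]; exact Module.Finite.fg_top.map u
  haveI hWfp : Module.FinitePresentation S (N ⧸ LinearMap.range u) :=
    Module.finitePresentation_of_surjective (LinearMap.range u).mkQ (Submodule.mkQ_surjective _)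
      (by rw [Submodule.ker_mkQ]; exact hrfg)
  letI mS₀W : Module S₀ (N ⧸ LinearMap.range u) := Module.compHom _ (algebraMap S₀ S)
  haveI t1 : IsScalarTower S₀ S (N ⧸ LinearMap.range u) := ⟨fun a s w => by
    show (a • s) • w = algebraMap S₀ S a • (s • w)
    rw [Algebra.smul_def, mul_smul]⟩
  haveI t2 : IsScalarTower R S₀ (N ⧸ LinearMap.range u) := ⟨fun r a w => by
    show algebraMap S₀ S (r • a) • w = r • (algebraMap S₀ S a • w)
    rw [Algebra.smul_def, map_mul, ← IsScalarTower.algebraMap_apply R S₀ S, mul_smul,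
      algebraMap_smul]⟩
  have htopN : (I • (⊤ : Submodule S N)).restrictScalars R = 𝔪 • (⊤ : Submodule R N) := by
    rw [hI, Ideal.smul_restrictScalars, Submodule.restrictScalars_top]
  have htopM : (I • (⊤ : Submodule S M)).restrictScalars R = 𝔪 • (⊤ : Submodule R M) := by
    rw [hI, Ideal.smul_restrictScalars, Submodule.restrictScalars_top]
  have key : ∀ z ∈ 𝔪 • (⊤ : Submodule R M), u z ∈ 𝔪 • (LinearMap.range u).restrictScalars R := by
    intro z hz
    refine Submodule.smul_induction_on hz ?_ ?_
    · intro a ha m _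
      have : u (a • m) = a • u m := by
        rw [← algebraMap_smul S a m, map_smul, algebraMap_smul]
      rw [this]
      exact Submodule.smul_mem_smul ha
        ((Submodule.restrictScalars_mem R (LinearMap.range u) (u m)).2 (LinearMap.mem_range_self u m))
    · intro z₁ z₂ h₁ h₂
      rw [map_add]; exact add_mem h₁ h₂
  have hTorR : Function.Injective
      (𝔪.subtype.rTensor (N ⧸ (LinearMap.range u).restrictScalars R)) := by
    apply rTensor_injective_of_inter
    intro y hy hy𝔪
    obtain ⟨x, rfl⟩ := (Submodule.restrictScalars_mem R (LinearMap.range u) y).1 hy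
    have h1 : u x ∈ I • (⊤ : Submodule S N) := by
      have h2 : u x ∈ (I • (⊤ : Submodule S N)).restrictScalars R := by rw [htopN]; exact hy𝔪
      exact h2
    have h3 := hu x h1
    have h4 : x ∈ 𝔪 • (⊤ : Submodule R M) := by
      rw [← htopM]; exact h3
    exact key x h4
  have hTor : Function.Injective
      ((q.comap (algebraMap R S₀)).subtype.rTensor (N ⧸ LinearMap.range u)) := by
    rw [← h𝔪]
    exact rTensor_injective_congr
      (Submodule.Quotient.restrictScalarsEquiv R (LinearMap.range u)) 𝔪 hTorR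
  obtain ⟨hWflat, hker⟩ := core (R := R) (S₀ := S₀) (S := S) (W := N ⧸ LinearMap.range u) q hTor
  haveI := hWflat
  refine ⟨?_, hWflat⟩
  haveI hkfp : Module.FinitePresentation S (LinearMap.ker (LinearMap.range u).mkQ) :=
    hker (LinearMap.range u).mkQ (Submodule.mkQ_surjective _)
  haveI hrfp : Module.FinitePresentation S (LinearMap.range u) :=
    Module.FinitePresentation.of_equiv (LinearEquiv.ofEq _ _ (Submodule.ker_mkQ _))
  have hKfg : (LinearMap.ker u).FG := by
    have := Module.FinitePresentation.fg_ker u.rangeRestrict u.surjective_rangeRestrict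
    rwa [LinearMap.ker_rangeRestrict] at this
  haveI hJflat : Module.Flat R (LinearMap.range u) :=
    Groth.Agent.Lib.Helper9.FlatCoker.flat_of_exact_ker
      ((LinearMap.range u).subtype.restrictScalars R) ((LinearMap.range u).mkQ.restrictScalars R)
      (Submodule.subtype_injective _) (Submodule.mkQ_surjective _)
      (fun y => LinearMap.exact_subtype_mkQ (LinearMap.range u) y)
  have hKle : LinearMap.ker u ≤ I • LinearMap.ker u := by
    intro x hx
    have hinj : Function.Injective
        (((LinearMap.ker u).restrictScalars R).subtype.lTensor (R ⧸ 𝔪)) :=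
      LinearMap.lTensor_injective_of_exact_of_flat (u.rangeRestrict.restrictScalars R)
        u.surjective_rangeRestrict ((LinearMap.ker u).restrictScalars R).subtype
        (Submodule.subtype_injective _) (by
          intro y
          constructor
          · intro hy
            have hy0 : u y = 0 := congrArg Subtype.val hy
            exact ⟨⟨y, hy0⟩, rfl⟩
          · rintro ⟨z, rfl⟩
            exact Subtype.ext z.2) (R ⧸ 𝔪)
    have hx𝔪 : x ∈ 𝔪 • (⊤ : Submodule R M) := by
      have h3 := hu x (by rw [LinearMap.mem_ker.1 hx]; exact zero_mem _)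
      rw [← htopM]; exact h3
    have h1 := (lTensor_quot_injective_iff ((LinearMap.ker u).restrictScalars R) 𝔪).1 hinj x
      hx hx𝔪
    have h2 : x ∈ (I • LinearMap.ker u).restrictScalars R := by
      rw [hI, Ideal.smul_restrictScalars]; exact h1
    exact h2
  have hIjac : I ≤ Ideal.jacobson ⊥ := by
    rw [IsLocalRing.jacobson_eq_maximalIdeal ⊥ bot_ne_top, hI, h𝔪, Ideal.map_le_iff_le_comap]
    intro a ha
    rw [Ideal.mem_comap, IsScalarTower.algebraMap_apply R S₀ S,
      IsLocalization.AtPrime.to_map_mem_maximal_iff S q]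
    exact ha
  have hK0 := Submodule.eq_bot_of_le_smul_of_le_jacobson_bot I (LinearMap.ker u) hKfg hKle hIjac
  exact LinearMap.ker_eq_bot.1 hK0

section LOC

variable {R S₀ S : Type u} [CommRing R] [CommRing S₀] [CommRing S]
  [Algebra R S₀] [Algebra.FinitePresentation R S₀] [Algebra S₀ S] [Algebra R S]
  [IsScalarTower R S₀ S]
  (q : Ideal S₀) [q.IsPrime] [IsLocalization.AtPrime S q]
  (F : ℕ → Type u) [∀ i, AddCommGroup (F i)] [∀ i, Module S (F i)] [∀ i, Module R (F i)]
  [∀ i, IsScalarTower R S (F i)] [∀ i, Module.FinitePresentation S (F i)]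
  [∀ i, Module.Flat R (F i)]
  (d : ∀ i, F (i + 1) →ₗ[S] F i) (m : ℕ)

/-- membership in `𝔭S • ⊤` versus `𝔭 • ⊤`. -/
theorem mem_map_smul_top_iff {R S X : Type*} [CommRing R] [CommRing S] [Algebra R S]
    [AddCommGroup X] [Module R X] [Module S X] [IsScalarTower R S X] (𝔭 : Ideal R) (x : X) :
    x ∈ 𝔭.map (algebraMap R S) • (⊤ : Submodule S X) ↔ x ∈ 𝔭 • (⊤ : Submodule R X) := by
  rw [← Submodule.restrictScalars_mem R, Ideal.smul_restrictScalars,
    Submodule.restrictScalars_top]

set_option maxHeartbeats 1600000 in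
include q in
/-- fibrewise exactness implies exactness and flatness of the cokernel. -/
theorem exact_of_fibExact (hd : ∀ i, i + 1 ≤ m → d i ∘ₗ d (i + 1) = 0)
    (h1 : ∀ i, i + 1 ≤ m → ∀ x : F (i + 1),
      d i x ∈ (q.comap (algebraMap R S₀)).map (algebraMap R S) • (⊤ : Submodule S (F i)) →
      ∃ y, x - d (i + 1) y ∈
        (q.comap (algebraMap R S₀)).map (algebraMap R S) • (⊤ : Submodule S (F (i + 1))))
    (h2 : ∀ x : F (m + 1),
      d m x ∈ (q.comap (algebraMap R S₀)).map (algebraMap R S) • (⊤ : Submodule S (F m)) →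
      x ∈ (q.comap (algebraMap R S₀)).map (algebraMap R S) • (⊤ : Submodule S (F (m + 1)))) :
    (∀ i, i + 1 ≤ m → LinearMap.ker (d i) = LinearMap.range (d (i + 1))) ∧
      Function.Injective (d m) ∧ Module.Flat R (F 0 ⧸ LinearMap.range (d 0)) := by
  classical
  obtain ⟨I, hI⟩ : ∃ I : Ideal S, I = (q.comap (algebraMap R S₀)).map (algebraMap R S) :=
    ⟨_, rfl⟩
  rw [← hI] at h2
  simp only [← hI] at h1
  obtain ⟨hinj, hflatm⟩ := injective_and_flat_coker' (R := R) (S₀ := S₀) (S := S) q (d m)
    (by rw [← hI]; exact h2)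
  have hQ : ∀ k, k ≤ m → (Module.Flat R (F k ⧸ LinearMap.range (d k)) ∧
      ∀ i, k ≤ i → i + 1 ≤ m → LinearMap.ker (d i) = LinearMap.range (d (i + 1))) := by
    intro k hk
    induction hk using Nat.decreasingInduction with
    | self => exact ⟨hflatm, fun i hi hi' => absurd hi' (by omega)⟩
    | of_succ k hk ih =>
      obtain ⟨hfl, hex⟩ := ih
      haveI := hfl
      have hrfg : (LinearMap.range (d (k + 1))).FG := by
        rw [LinearMap.range_eq_map]; exact Module.Finite.fg_top.map _
      haveI hWfp : Module.FinitePresentation S (F (k + 1) ⧸ LinearMap.range (d (k + 1))) :=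
        Module.finitePresentation_of_surjective (LinearMap.range (d (k + 1))).mkQ
          (Submodule.mkQ_surjective _) (by rw [Submodule.ker_mkQ]; exact hrfg)
      have hle : LinearMap.range (d (k + 1)) ≤ LinearMap.ker (d k) := by
        rintro _ ⟨y, rfl⟩
        exact LinearMap.congr_fun (hd k hk) y
      let ū : (F (k + 1) ⧸ LinearMap.range (d (k + 1))) →ₗ[S] F k :=
        (LinearMap.range (d (k + 1))).liftQ (d k) hle
      have hū : ∀ w, ū w ∈ I • (⊤ : Submodule S (F k)) →
          w ∈ I • (⊤ : Submodule S (F (k + 1) ⧸ LinearMap.range (d (k + 1)))) := by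
        intro w hw
        obtain ⟨x, rfl⟩ := (LinearMap.range (d (k + 1))).mkQ_surjective w
        have hx : d k x ∈ I • (⊤ : Submodule S (F k)) := hw
        obtain ⟨y, hy⟩ := h1 k hk x hx
        have h6 : I • (⊤ : Submodule S (F (k + 1) ⧸ LinearMap.range (d (k + 1)))) =
            (I • (⊤ : Submodule S (F (k + 1)))).map (LinearMap.range (d (k + 1))).mkQ := by
          rw [Submodule.map_smul'', Submodule.map_top, Submodule.range_mkQ]
        rw [h6]
        refine ⟨x - d (k + 1) y, hy, ?_⟩
        rw [map_sub, sub_eq_self, Submodule.mkQ_apply, Submodule.Quotient.mk_eq_zero]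
        exact LinearMap.mem_range_self _ y
      obtain ⟨hūinj, hūfl⟩ := injective_and_flat_coker' (R := R) (S₀ := S₀) (S := S) q ū
        (by rw [← hI]; exact hū)
      have hrange : LinearMap.range ū = LinearMap.range (d k) := Submodule.range_liftQ _ _ _
      rw [hrange] at hūfl
      refine ⟨hūfl, ?_⟩
      intro i hki hi
      rcases Nat.eq_or_lt_of_le hki with rfl | hlt
      · apply le_antisymm _ hle
        intro x hx
        have h0 : ū ((LinearMap.range (d (k + 1))).mkQ x) = 0 := hx
        have h1' := hūinj (h0.trans (map_zero ū).symm)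
        rw [Submodule.mkQ_apply, Submodule.Quotient.mk_eq_zero] at h1'
        exact h1'
      · exact hex i hlt hi
  obtain ⟨h0, hex⟩ := hQ 0 (Nat.zero_le _)
  exact ⟨fun i hi => hex i (Nat.zero_le _) hi, hinj, h0⟩

end LOC

section Conv

variable {R S : Type u} [CommRing R] [CommRing S] [Algebra R S]
  (F : ℕ → Type u) [∀ i, AddCommGroup (F i)] [∀ i, Module S (F i)] [∀ i, Module R (F i)]
  [∀ i, IsScalarTower R S (F i)] [∀ i, Module.Flat R (F i)]
  (d : ∀ i, F (i + 1) →ₗ[S] F i) (m : ℕ)

/-- if `F/K` is flat (with `F` arbitrary) then `K ∩ 𝔭F = 𝔭K`. -/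
theorem mem_smul_of_flat_quotient {R F : Type u} [CommRing R] [AddCommGroup F] [Module R F]
    (K : Submodule R F) [Module.Flat R (F ⧸ K)] (𝔭 : Ideal R) {x : F} (hx : x ∈ K)
    (hx𝔭 : x ∈ 𝔭 • (⊤ : Submodule R F)) : x ∈ 𝔭 • K := by
  have hinj : Function.Injective (K.subtype.lTensor (R ⧸ 𝔭)) :=
    LinearMap.lTensor_injective_of_exact_of_flat K.mkQ K.mkQ_surjective K.subtype
      (Submodule.subtype_injective _) (LinearMap.exact_subtype_mkQ K) (R ⧸ 𝔭)
  exact (lTensor_quot_injective_iff K 𝔭).1 hinj x hx hx𝔭

set_option maxHeartbeats 1600000 in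
/-- exactness plus flatness of the cokernel implies fibrewise exactness, modulo any ideal. -/
theorem fibExact_of_exact (𝔭 : Ideal R)
    (hex : ∀ i, i + 1 ≤ m → LinearMap.ker (d i) = LinearMap.range (d (i + 1)))
    (hinj : Function.Injective (d m)) (hfl : Module.Flat R (F 0 ⧸ LinearMap.range (d 0))) :
    (∀ i, i + 1 ≤ m → ∀ x : F (i + 1),
      d i x ∈ 𝔭.map (algebraMap R S) • (⊤ : Submodule S (F i)) →
      ∃ y, x - d (i + 1) y ∈ 𝔭.map (algebraMap R S) • (⊤ : Submodule S (F (i + 1)))) ∧
    (∀ x : F (m + 1), d m x ∈ 𝔭.map (algebraMap R S) • (⊤ : Submodule S (F m)) →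
      x ∈ 𝔭.map (algebraMap R S) • (⊤ : Submodule S (F (m + 1)))) := by
  classical
  -- all the cokernels are flat
  have hW : ∀ k, k ≤ m → Module.Flat R (F k ⧸ LinearMap.range (d k)) := by
    intro k
    induction k with
    | zero => exact fun _ => hfl
    | succ k ih =>
      intro hk
      haveI := ih (by omega)
      haveI hJflat : Module.Flat R (LinearMap.range (d k)) :=
        Groth.Agent.Lib.Helper9.FlatCoker.flat_of_exact_ker
          ((LinearMap.range (d k)).subtype.restrictScalars R)
          ((LinearMap.range (d k)).mkQ.restrictScalars R)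
          (Submodule.subtype_injective _) (Submodule.mkQ_surjective _)
          (fun y => LinearMap.exact_subtype_mkQ (LinearMap.range (d k)) y)
      let e1 : (F (k + 1) ⧸ LinearMap.range (d (k + 1))) ≃ₗ[S] LinearMap.range (d k) :=
        (Submodule.quotEquivOfEq _ _ (hex k hk).symm).trans (LinearMap.quotKerEquivRange (d k))
      exact Module.Flat.of_linearEquiv (e1.restrictScalars R)
  -- the key lifting property
  have key : ∀ k, k ≤ m → ∀ x : F (k + 1),
      d k x ∈ 𝔭.map (algebraMap R S) • (⊤ : Submodule S (F k)) →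
      ∃ x' ∈ 𝔭.map (algebraMap R S) • (⊤ : Submodule S (F (k + 1))), d k x' = d k x := by
    intro k hk x hx
    haveI := hW k hk
    haveI : Module.Flat R (F k ⧸ (LinearMap.range (d k)).restrictScalars R) :=
      Module.Flat.of_linearEquiv
        (Submodule.Quotient.restrictScalarsEquiv R (LinearMap.range (d k)))
    have h1 : d k x ∈ 𝔭 • (LinearMap.range (d k)).restrictScalars R :=
      mem_smul_of_flat_quotient ((LinearMap.range (d k)).restrictScalars R) 𝔭
        ((Submodule.restrictScalars_mem R _ _).2 (LinearMap.mem_range_self _ x))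
        ((mem_map_smul_top_iff 𝔭 _).1 hx)
    have h2 : 𝔭 • (LinearMap.range (d k)).restrictScalars R =
        (𝔭 • (⊤ : Submodule R (F (k + 1)))).map ((d k).restrictScalars R) := by
      rw [Submodule.map_smul'', Submodule.map_top]
      congr 1
    rw [h2] at h1
    obtain ⟨x', hx', hxx'⟩ := h1
    exact ⟨x', (mem_map_smul_top_iff 𝔭 _).2 hx', hxx'⟩
  refine ⟨fun i hi x hx => ?_, fun x hx => ?_⟩
  · obtain ⟨x', hx', hxx'⟩ := key i (by omega) x hx
    have h3 : x - x' ∈ LinearMap.ker (d i) := by
      rw [LinearMap.mem_ker, map_sub, hxx', sub_self]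
    rw [hex i hi] at h3
    obtain ⟨y, hy⟩ := h3
    refine ⟨y, ?_⟩
    rw [hy, sub_sub_cancel]
    exact hx'
  · obtain ⟨x', hx', hxx'⟩ := key m le_rfl x hx
    rw [← hinj hxx']
    exact hx'

end Conv

end Groth.Agent.Lib.Helper14.LCF.FibExact
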