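/-
Helper14 library (FibExactMat): matrix bookkeeping for complexes of finite free modules:
reduction modulo an ideal, localization, and openness of the exactness locus.
-/
import Mathlib

set_option autoImplicit false
set_option maxHeartbeats 400000
set_option linter.style.haveILetI false
universe u

namespace Groth.Agent.Lib.Helper14.LCF.FibExact

section Quot

variable {T : Type*} [CommRing T] (I : Ideal T)

/-- membership in `I • ⊤` for a finite free module. -/
theorem mem_smul_top_pi_iff {b : ℕ} (x : Fin b → T) :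
    x ∈ I • (⊤ : Submodule T (Fin b → T)) ↔ ∀ j, x j ∈ I := by
  constructor
  · intro hx
    refine Submodule.smul_induction_on hx ?_ ?_
    · intro a ha v _ j
      rw [Pi.smul_apply, smul_eq_mul]
      exact I.mul_mem_right _ ha
    · intro v w hv hw j
      rw [Pi.add_apply]
      exact I.add_mem (hv j) (hw j)
  · intro hx
    rw [pi_eq_sum_univ x]
    refine Submodule.sum_mem _ fun j _ => ?_
    exact Submodule.smul_mem_smul (hx j) Submodule.mem_top

/-- componentwise reduction. -/
noncomputable def red (b : ℕ) : (Fin b → T) →ₗ[T] (Fin b → T ⧸ I) :=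
  LinearMap.pi fun i => (Ideal.Quotient.mkₐ T I).toLinearMap ∘ₗ LinearMap.proj i

theorem red_apply {b : ℕ} (x : Fin b → T) (i : Fin b) : red I b x i = Ideal.Quotient.mk I (x i) :=
  rfl

theorem red_surjective (b : ℕ) : Function.Surjective (red I b) := by
  intro v
  choose x hx using fun i => Ideal.Quotient.mk_surjective (v i)
  exact ⟨x, funext fun i => hx i⟩

theorem red_eq_zero_iff {b : ℕ} (x : Fin b → T) :
    red I b x = 0 ↔ x ∈ I • (⊤ : Submodule T (Fin b → T)) := by
  rw [mem_smul_top_pi_iff]
  constructor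
  · intro h j
    have := congrFun h j
    rw [red_apply, Pi.zero_apply, Ideal.Quotient.eq_zero_iff_mem] at this
    exact this
  · intro h
    funext j
    rw [red_apply, Pi.zero_apply, Ideal.Quotient.eq_zero_iff_mem]
    exact h j

theorem mulVecLin_map_red {a b : ℕ} (A : Matrix (Fin a) (Fin b) T) (x : Fin b → T) :
    Matrix.mulVecLin (A.map (Ideal.Quotient.mk I)) (red I b x) = red I a (Matrix.mulVecLin A x) := by
  funext i
  rw [Matrix.mulVecLin_apply, Matrix.mulVecLin_apply, red_apply]
  exact (RingHom.map_mulVec (Ideal.Quotient.mk I) A x i).symm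

/-- injectivity modulo `I`, elementwise. -/
theorem injective_map_iff {a b : ℕ} (A : Matrix (Fin a) (Fin b) T) :
    Function.Injective (Matrix.mulVecLin (A.map (Ideal.Quotient.mk I))) ↔
      ∀ x : Fin b → T, Matrix.mulVecLin A x ∈ I • (⊤ : Submodule T (Fin a → T)) →
        x ∈ I • (⊤ : Submodule T (Fin b → T)) := by
  constructor
  · intro h x hx
    rw [← red_eq_zero_iff] at hx ⊢
    rw [← mulVecLin_map_red] at hx
    exact h (hx.trans (map_zero _).symm)
  · intro h
    rw [injective_iff_map_eq_zero]
    intro v hv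
    obtain ⟨x, rfl⟩ := red_surjective I b v
    rw [mulVecLin_map_red, red_eq_zero_iff] at hv
    exact (red_eq_zero_iff I x).2 (h x hv)

/-- exactness modulo `I`, elementwise. -/
theorem ker_eq_range_map_iff {a b c : ℕ} (A : Matrix (Fin a) (Fin b) T)
    (B : Matrix (Fin b) (Fin c) T) (hAB : A * B = 0) :
    LinearMap.ker (Matrix.mulVecLin (A.map (Ideal.Quotient.mk I))) =
        LinearMap.range (Matrix.mulVecLin (B.map (Ideal.Quotient.mk I))) ↔
      ∀ x : Fin b → T, Matrix.mulVecLin A x ∈ I • (⊤ : Submodule T (Fin a → T)) →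
        ∃ y, x - Matrix.mulVecLin B y ∈ I • (⊤ : Submodule T (Fin b → T)) := by
  constructor
  · intro h x hx
    rw [← red_eq_zero_iff, ← mulVecLin_map_red] at hx
    have hx' : red I b x ∈ LinearMap.ker (Matrix.mulVecLin (A.map (Ideal.Quotient.mk I))) := hx
    rw [h] at hx'
    obtain ⟨v, hv⟩ := hx'
    obtain ⟨y, rfl⟩ := red_surjective I c v
    refine ⟨y, ?_⟩
    rw [← red_eq_zero_iff, map_sub, ← mulVecLin_map_red, hv, sub_self]
  · intro h
    apply le_antisymm
    · intro v hv
      obtain ⟨x, rfl⟩ := red_surjective I b v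
      have hv' : Matrix.mulVecLin (A.map (Ideal.Quotient.mk I)) (red I b x) = 0 := hv
      rw [mulVecLin_map_red, red_eq_zero_iff] at hv'
      obtain ⟨y, hy⟩ := h x hv'
      rw [← red_eq_zero_iff, map_sub, sub_eq_zero] at hy
      exact ⟨red I c y, by rw [mulVecLin_map_red, hy]⟩
    · rintro _ ⟨v, rfl⟩
      rw [LinearMap.mem_ker, ← LinearMap.comp_apply, ← Matrix.mulVecLin_mul, ← Matrix.map_mul, hAB]
      simp

end Quot

section Loc

variable {S T : Type*} [CommRing S] [CommRing T] [Algebra S T] (p : Submonoid S)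
  [IsLocalization p T]

/-- the componentwise localization map. -/
noncomputable def loc (T : Type*) [CommRing T] [Algebra S T] (b : ℕ) :
    (Fin b → S) →ₗ[S] (Fin b → T) :=
  LinearMap.pi fun i => Algebra.linearMap S T ∘ₗ LinearMap.proj i

instance (b : ℕ) : IsLocalizedModule p (loc (S := S) T b) :=
  IsLocalizedModule.pi p (fun _ : Fin b => Algebra.linearMap S T)

theorem loc_apply {b : ℕ} (x : Fin b → S) (i : Fin b) : loc T b x i = algebraMap S T (x i) := rfl

theorem mulVecLin_map_loc {a b : ℕ} (A : Matrix (Fin a) (Fin b) S) (x : Fin b → S) :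
    Matrix.mulVecLin (A.map (algebraMap S T)) (loc T b x) = loc T a (Matrix.mulVecLin A x) := by
  funext i
  rw [Matrix.mulVecLin_apply, Matrix.mulVecLin_apply, loc_apply]
  exact (RingHom.map_mulVec (algebraMap S T) A x i).symm

theorem map_mulVecLin {a b : ℕ} (A : Matrix (Fin a) (Fin b) S) :
    (IsLocalizedModule.map p (loc T b) (loc T a) (Matrix.mulVecLin A)).extendScalarsOfIsLocalization
      p T = Matrix.mulVecLin (A.map (algebraMap S T)) := by
  apply LinearMap.restrictScalars_injective S
  rw [LinearMap.restrictScalars_extendScalarsOfIsLocalization]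
  apply IsLocalizedModule.linearMap_ext p (loc T b) (loc T a)
  rw [IsLocalizedModule.map_comp p (loc T b) (loc T a) (Matrix.mulVecLin A)]
  refine LinearMap.ext fun x => ?_
  exact (mulVecLin_map_loc (T := T) A x).symm

theorem ker_map_eq_localized' {a b : ℕ} (A : Matrix (Fin a) (Fin b) S) :
    LinearMap.ker (Matrix.mulVecLin (A.map (algebraMap S T))) =
      (LinearMap.ker (Matrix.mulVecLin A)).localized' T p (loc T b) := by
  rw [LinearMap.localized'_ker_eq_ker_localizedMap T p (loc T b) (loc T a), map_mulVecLin]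

theorem range_map_eq_localized' {a b : ℕ} (A : Matrix (Fin a) (Fin b) S) :
    LinearMap.range (Matrix.mulVecLin (A.map (algebraMap S T))) =
      (LinearMap.range (Matrix.mulVecLin A)).localized' T p (loc T a) := by
  rw [LinearMap.localized'_range_eq_range_localizedMap T p (loc T b) (loc T a), map_mulVecLin]

end Loc

section Open

variable {S : Type u} [CommRing S]

/-- a finitely generated submodule which is locally (at `q`) contained in another one is contained
in it up to a single multiplier outside `q`. -/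
theorem exists_smul_le_of_localized'_le {X : Type*} [AddCommGroup X] [Module S X]
    (q : Ideal S) [q.IsPrime] {Y : Type*} [AddCommGroup Y] [Module S Y]
    [Module (Localization.AtPrime q) Y] [IsScalarTower S (Localization.AtPrime q) Y]
    (f : X →ₗ[S] Y) [IsLocalizedModule q.primeCompl f] (K Rg : Submodule S X) (hK : K.FG)
    (h : K.localized' (Localization.AtPrime q) q.primeCompl f ≤
      Rg.localized' (Localization.AtPrime q) q.primeCompl f) :
    ∃ g : S, g ∉ q ∧ ∀ x ∈ K, g • x ∈ Rg := by
  classical
  have hx : ∀ x ∈ K, ∃ s : S, s ∉ q ∧ s • x ∈ Rg := by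
    intro x hx
    have h1 : f x ∈ K.localized' (Localization.AtPrime q) q.primeCompl f :=
      ⟨x, hx, 1, IsLocalizedModule.mk'_one q.primeCompl f x⟩
    obtain ⟨m, hm, s, hms⟩ := h h1
    rw [IsLocalizedModule.mk'_eq_iff] at hms
    have h2 : f m = f ((s : S) • x) := by
      rw [hms, map_smul]
      rfl
    obtain ⟨c, hc⟩ := IsLocalizedModule.exists_of_eq (S := q.primeCompl) h2
    refine ⟨(c : S) * (s : S), (c * s).2, ?_⟩
    rw [mul_smul]
    have : (c : S) • (s : S) • x = (c : S) • m := hc.symm
    rw [this]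
    exact Rg.smul_mem _ hm
  obtain ⟨G, hG⟩ := hK
  choose! s hs hsx using hx
  refine ⟨∏ g ∈ G, s g, ?_, ?_⟩
  · intro hmem
    obtain ⟨g, hg, hgq⟩ := (Ideal.IsPrime.prod_mem_iff).1 hmem
    exact hs g (hG ▸ Submodule.subset_span hg) hgq
  · intro x hx
    rw [← hG] at hx
    refine Submodule.span_induction ?_ ?_ ?_ ?_ hx
    · intro g hg
      rw [← Finset.mul_prod_erase G s hg, mul_comm, mul_smul]
      exact Rg.smul_mem _ (hsx g (hG ▸ Submodule.subset_span hg))
    · rw [smul_zero]; exact Rg.zero_mem
    · intro y z _ _ hy hz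
      rw [smul_add]; exact Rg.add_mem hy hz
    · intro a y _ hy
      rw [smul_comm]; exact Rg.smul_mem _ hy

theorem localized'_le_of_smul_mem {X : Type*} [AddCommGroup X] [Module S X]
    (q : Ideal S) [q.IsPrime] {Y : Type*} [AddCommGroup Y] [Module S Y]
    [Module (Localization.AtPrime q) Y] [IsScalarTower S (Localization.AtPrime q) Y]
    (f : X →ₗ[S] Y) [IsLocalizedModule q.primeCompl f] (K Rg : Submodule S X)
    (g : S) (hg : g ∉ q) (h : ∀ x ∈ K, g • x ∈ Rg) :
    K.localized' (Localization.AtPrime q) q.primeCompl f ≤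
      Rg.localized' (Localization.AtPrime q) q.primeCompl f := by
  rintro - ⟨a, ha, r, rfl⟩
  refine ⟨g • a, h a ha, (⟨g, hg⟩ : q.primeCompl) * r, ?_⟩
  have : g • a = (⟨g, hg⟩ : q.primeCompl) • a := rfl
  rw [this, IsLocalizedModule.mk'_cancel_left]

/-- openness of the exactness locus of a three-term complex of finite free modules over a
Noetherian ring. -/
theorem isOpen_setOf_ker_eq_range [IsNoetherianRing S] {a b c : ℕ}
    (A : Matrix (Fin a) (Fin b) S) (B : Matrix (Fin b) (Fin c) S) (hAB : A * B = 0) :
    IsOpen {q : PrimeSpectrum S |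
      LinearMap.ker (Matrix.mulVecLin
        (A.map (algebraMap S (Localization.AtPrime q.asIdeal)))) =
      LinearMap.range (Matrix.mulVecLin
        (B.map (algebraMap S (Localization.AtPrime q.asIdeal))))} := by
  rw [isOpen_iff_forall_mem_open]
  intro q hq
  have hle : LinearMap.range (Matrix.mulVecLin B) ≤ LinearMap.ker (Matrix.mulVecLin A) := by
    rintro _ ⟨y, rfl⟩
    rw [LinearMap.mem_ker, ← LinearMap.comp_apply, ← Matrix.mulVecLin_mul, hAB]
    simp
  have hKfg : (LinearMap.ker (Matrix.mulVecLin A)).FG := IsNoetherian.noetherian _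
  have hq' : LinearMap.ker (Matrix.mulVecLin
        (A.map (algebraMap S (Localization.AtPrime q.asIdeal)))) =
      LinearMap.range (Matrix.mulVecLin
        (B.map (algebraMap S (Localization.AtPrime q.asIdeal)))) := hq
  rw [ker_map_eq_localized' q.asIdeal.primeCompl, range_map_eq_localized' q.asIdeal.primeCompl]
    at hq'
  obtain ⟨g, hg, hgK⟩ := exists_smul_le_of_localized'_le q.asIdeal
    (loc (Localization.AtPrime q.asIdeal) b) _ _ hKfg hq'.le
  refine ⟨(PrimeSpectrum.basicOpen g : Set (PrimeSpectrum S)), ?_,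
    (PrimeSpectrum.basicOpen g).isOpen, hg⟩
  intro q₁ hq₁
  show LinearMap.ker (Matrix.mulVecLin
        (A.map (algebraMap S (Localization.AtPrime q₁.asIdeal)))) =
      LinearMap.range (Matrix.mulVecLin
        (B.map (algebraMap S (Localization.AtPrime q₁.asIdeal))))
  rw [ker_map_eq_localized' q₁.asIdeal.primeCompl, range_map_eq_localized' q₁.asIdeal.primeCompl]
  apply le_antisymm
  · exact localized'_le_of_smul_mem q₁.asIdeal _ _ _ g hq₁ hgK
  · exact localized'_le_of_smul_mem q₁.asIdeal _ _ _ 1 (q₁.asIdeal.primeCompl.one_mem)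
      (fun x hx => by rw [one_smul]; exact hle hx)

/-- openness of the injectivity locus. -/
theorem isOpen_setOf_injective [IsNoetherianRing S] {a b : ℕ}
    (A : Matrix (Fin a) (Fin b) S) :
    IsOpen {q : PrimeSpectrum S | Function.Injective (Matrix.mulVecLin
        (A.map (algebraMap S (Localization.AtPrime q.asIdeal))))} := by
  have h := isOpen_setOf_ker_eq_range A (0 : Matrix (Fin b) (Fin 0) S) (by simp)
  convert h using 2
  ext q
  rw [← LinearMap.ker_eq_bot]
  have : LinearMap.range (Matrix.mulVecLin
      ((0 : Matrix (Fin b) (Fin 0) S).map (algebraMap S (Localization.AtPrime q.asIdeal)))) = ⊥ := by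
    rw [eq_bot_iff]
    rintro _ ⟨y, rfl⟩
    rw [Submodule.mem_bot]
    funext i
    simp [Matrix.mulVecLin_apply, Matrix.mulVec, dotProduct]
  rw [this]

end Open

end Groth.Agent.Lib.Helper14.LCF.FibExact
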