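/-
Helper14 library (FibExactOpen): openness of the locus where the cokernel of a matrix over a
finitely presented algebra is flat over the base, in terms of the localized matrices.
-/
import Mathlib
import Groth.Agent.Lib.Helper14.LCF.FibExactMat
import Groth.Agent.Lib.Helper14.FlatOpen.RelOpen

set_option autoImplicit false
set_option maxHeartbeats 400000
set_option linter.style.haveILetI false
universe u

namespace Groth.Agent.Lib.Helper14.LCF.FibExact

open Groth.Agent.Lib.Helper14.FlatOpen

section FlatCoker

variable {R S : Type u} [CommRing R] [CommRing S] [Algebra R S]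

/-- the localized cokernel versus the cokernel of the localized matrix. -/
noncomputable def cokerEquiv (q : Ideal S) [q.IsPrime] {a b : ℕ} (A : Matrix (Fin a) (Fin b) S) :
    LocalizedModule q.primeCompl ((Fin a → S) ⧸ LinearMap.range (Matrix.mulVecLin A)) ≃ₗ[S]
      ((Fin a → Localization.AtPrime q) ⧸ LinearMap.range (Matrix.mulVecLin
        (A.map (algebraMap S (Localization.AtPrime q))))) :=
  (IsLocalizedModule.iso q.primeCompl
    ((LinearMap.range (Matrix.mulVecLin A)).toLocalizedQuotient' (Localization.AtPrime q)
      q.primeCompl (loc (Localization.AtPrime q) a))).trans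
    ((Submodule.quotEquivOfEq _ _
      (range_map_eq_localized' q.primeCompl A).symm).restrictScalars S)

/-- openness of the locus where the cokernel of the localized matrix is flat over the base. -/
theorem isOpen_setOf_flat_coker [Algebra.FinitePresentation R S] {a b : ℕ}
    (A : Matrix (Fin a) (Fin b) S) :
    IsOpen {q : PrimeSpectrum S | Module.Flat R
      ((Fin a → Localization.AtPrime q.asIdeal) ⧸ LinearMap.range (Matrix.mulVecLin
        (A.map (algebraMap S (Localization.AtPrime q.asIdeal)))))} := by
  have hrfg : (LinearMap.range (Matrix.mulVecLin A)).FG := by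
    rw [LinearMap.range_eq_map]; exact Module.Finite.fg_top.map _
  haveI : Module.FinitePresentation S ((Fin a → S) ⧸ LinearMap.range (Matrix.mulVecLin A)) :=
    Module.finitePresentation_of_surjective (LinearMap.range (Matrix.mulVecLin A)).mkQ
      (Submodule.mkQ_surjective _) (by rw [Submodule.ker_mkQ]; exact hrfg)
  have h := isOpen_flat_locus (R := R) (S := S)
    (M := (Fin a → S) ⧸ LinearMap.range (Matrix.mulVecLin A))
  convert h using 2
  ext q
  constructor
  · intro hfl
    exact Module.Flat.of_linearEquiv ((cokerEquiv q.asIdeal A).restrictScalars R)
  · intro hfl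
    exact Module.Flat.of_linearEquiv ((cokerEquiv q.asIdeal A).symm.restrictScalars R)

end FlatCoker

end Groth.Agent.Lib.Helper14.LCF.FibExact
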