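/-
Helper14 library (FibExactMain): for a flat finite type algebra `S` over a Noetherian ring `R` and
a complex of finite free `S`-modules, the locus of primes `q` where the complex is exact on the
fibre local ring `S_q / pS_q` is open.  (It is the locus where the complex is exact over `S_q`
and the cokernel is `R`-flat.)
-/
import Mathlib
import Groth.Agent.Lib.Helper14.LCF.FibExactLoc
import Groth.Agent.Lib.Helper14.LCF.FibExactOpen

set_option autoImplicit false
set_option maxHeartbeats 400000
set_option linter.style.haveILetI false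
universe u

namespace Groth.Agent.Lib.Helper14.LCF.FibExact

variable (R S : Type u) [CommRing R] [CommRing S] [Algebra R S]

set_option maxHeartbeats 1600000 in
/-- pointwise form: fibrewise exactness at `q` iff exactness over `S_q` plus flat cokernel. -/
theorem fibExact_iff [Algebra.FinitePresentation R S] [Module.Flat R S]
    (q : Ideal S) [q.IsPrime] (m : ℕ) (n : ℕ → ℕ)
    (φ : (i : ℕ) → Matrix (Fin (n i)) (Fin (n (i + 1))) S)
    (hφ : ∀ i, i + 1 ≤ m → φ i * φ (i + 1) = 0) :
    ((∀ i, i + 1 ≤ m →
        LinearMap.ker (Matrix.mulVecLin ((φ i).map (algebraMap S (Localization.AtPrime q ⧸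
          (q.comap (algebraMap R S)).map (algebraMap R (Localization.AtPrime q)))))) =
        LinearMap.range (Matrix.mulVecLin ((φ (i + 1)).map (algebraMap S (Localization.AtPrime q ⧸
          (q.comap (algebraMap R S)).map (algebraMap R (Localization.AtPrime q))))))) ∧
      Function.Injective (Matrix.mulVecLin ((φ m).map (algebraMap S (Localization.AtPrime q ⧸
          (q.comap (algebraMap R S)).map (algebraMap R (Localization.AtPrime q))))))) ↔
    ((∀ i, i + 1 ≤ m →
        LinearMap.ker (Matrix.mulVecLin ((φ i).map (algebraMap S (Localization.AtPrime q)))) =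
        LinearMap.range (Matrix.mulVecLin
          ((φ (i + 1)).map (algebraMap S (Localization.AtPrime q))))) ∧
      Function.Injective (Matrix.mulVecLin ((φ m).map (algebraMap S (Localization.AtPrime q)))) ∧
      Module.Flat R ((Fin (n 0) → Localization.AtPrime q) ⧸ LinearMap.range
        (Matrix.mulVecLin ((φ 0).map (algebraMap S (Localization.AtPrime q)))))) := by
  classical
  obtain ⟨I, hI⟩ : ∃ I : Ideal (Localization.AtPrime q),
      I = (q.comap (algebraMap R S)).map (algebraMap R (Localization.AtPrime q)) := ⟨_, rfl⟩
  rw [← hI]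
  have hmap : ∀ i, (φ i).map (algebraMap S (Localization.AtPrime q ⧸ I)) =
      ((φ i).map (algebraMap S (Localization.AtPrime q))).map (Ideal.Quotient.mk I) := by
    intro i
    rw [Matrix.map_map]
    rfl
  have hAB : ∀ i, i + 1 ≤ m → ((φ i).map (algebraMap S (Localization.AtPrime q))) *
      ((φ (i + 1)).map (algebraMap S (Localization.AtPrime q))) = 0 := by
    intro i hi
    rw [← Matrix.map_mul, hφ i hi]
    exact Matrix.map_zero _ (map_zero _)
  haveI : Module.Flat S (Localization.AtPrime q) := IsLocalization.flat _ q.primeCompl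
  haveI : Module.Flat R (Localization.AtPrime q) := Module.Flat.trans R S _
  haveI hpi : ∀ i : ℕ, Module.Flat R (Fin (n i) → Localization.AtPrime q) := fun i =>
    Module.Flat.trans R (Localization.AtPrime q) (Fin (n i) → Localization.AtPrime q)
  have hd : ∀ i, i + 1 ≤ m →
      Matrix.mulVecLin ((φ i).map (algebraMap S (Localization.AtPrime q))) ∘ₗ
        Matrix.mulVecLin ((φ (i + 1)).map (algebraMap S (Localization.AtPrime q))) = 0 := by
    intro i hi
    rw [← Matrix.mulVecLin_mul, hAB i hi]
    simp
  constructor
  · rintro ⟨h1, h2⟩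
    refine exact_of_fibExact (R := R) (S₀ := S) (S := Localization.AtPrime q) q
      (fun i => Fin (n i) → Localization.AtPrime q)
      (fun i => Matrix.mulVecLin ((φ i).map (algebraMap S (Localization.AtPrime q)))) m hd ?_ ?_
    · intro i hi
      rw [← hI]
      have := h1 i hi
      rw [hmap, hmap, ker_eq_range_map_iff I _ _ (hAB i hi)] at this
      exact this
    · rw [← hI]
      rw [hmap, injective_map_iff] at h2
      exact h2
  · rintro ⟨h1, h2, h3⟩
    obtain ⟨g1, g2⟩ := fibExact_of_exact (R := R) (S := Localization.AtPrime q)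
      (fun i => Fin (n i) → Localization.AtPrime q)
      (fun i => Matrix.mulVecLin ((φ i).map (algebraMap S (Localization.AtPrime q)))) m
      (q.comap (algebraMap R S)) h1 h2 h3
    rw [← hI] at g1 g2
    refine ⟨fun i hi => ?_, ?_⟩
    · rw [hmap, hmap, ker_eq_range_map_iff I _ _ (hAB i hi)]
      exact g1 i hi
    · rw [hmap, injective_map_iff]
      exact g2

set_option maxHeartbeats 1600000 in
/-- openness of the locus of fibrewise exactness. -/
theorem isOpen_fibExact [IsNoetherianRing R] [Algebra.FiniteType R S] [Module.Flat R S]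
    (m : ℕ) (n : ℕ → ℕ)
    (φ : (i : ℕ) → Matrix (Fin (n i)) (Fin (n (i + 1))) S)
    (hφ : ∀ i, i + 1 ≤ m → φ i * φ (i + 1) = 0) :
    IsOpen {q : PrimeSpectrum S | (∀ i, i + 1 ≤ m →
        LinearMap.ker (Matrix.mulVecLin ((φ i).map (algebraMap S
          (Localization.AtPrime q.asIdeal ⧸ (q.asIdeal.comap (algebraMap R S)).map
            (algebraMap R (Localization.AtPrime q.asIdeal)))))) =
        LinearMap.range (Matrix.mulVecLin ((φ (i + 1)).map (algebraMap S
          (Localization.AtPrime q.asIdeal ⧸ (q.asIdeal.comap (algebraMap R S)).map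
            (algebraMap R (Localization.AtPrime q.asIdeal))))))) ∧
      Function.Injective (Matrix.mulVecLin ((φ m).map (algebraMap S
          (Localization.AtPrime q.asIdeal ⧸ (q.asIdeal.comap (algebraMap R S)).map
            (algebraMap R (Localization.AtPrime q.asIdeal))))))} := by
  haveI : Algebra.FinitePresentation R S := Algebra.FinitePresentation.of_finiteType.mp inferInstance
  haveI : IsNoetherianRing S := Algebra.FiniteType.isNoetherianRing R S
  have hset : {q : PrimeSpectrum S | (∀ i, i + 1 ≤ m →
        LinearMap.ker (Matrix.mulVecLin ((φ i).map (algebraMap S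
          (Localization.AtPrime q.asIdeal ⧸ (q.asIdeal.comap (algebraMap R S)).map
            (algebraMap R (Localization.AtPrime q.asIdeal)))))) =
        LinearMap.range (Matrix.mulVecLin ((φ (i + 1)).map (algebraMap S
          (Localization.AtPrime q.asIdeal ⧸ (q.asIdeal.comap (algebraMap R S)).map
            (algebraMap R (Localization.AtPrime q.asIdeal))))))) ∧
      Function.Injective (Matrix.mulVecLin ((φ m).map (algebraMap S
          (Localization.AtPrime q.asIdeal ⧸ (q.asIdeal.comap (algebraMap R S)).map
            (algebraMap R (Localization.AtPrime q.asIdeal))))))} =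
      (⋂ i ∈ Finset.range m, {q : PrimeSpectrum S |
        LinearMap.ker (Matrix.mulVecLin
          ((φ i).map (algebraMap S (Localization.AtPrime q.asIdeal)))) =
        LinearMap.range (Matrix.mulVecLin
          ((φ (i + 1)).map (algebraMap S (Localization.AtPrime q.asIdeal))))}) ∩
      ({q : PrimeSpectrum S | Function.Injective (Matrix.mulVecLin
          ((φ m).map (algebraMap S (Localization.AtPrime q.asIdeal))))} ∩
       {q : PrimeSpectrum S | Module.Flat R ((Fin (n 0) → Localization.AtPrime q.asIdeal) ⧸
          LinearMap.range (Matrix.mulVecLin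
            ((φ 0).map (algebraMap S (Localization.AtPrime q.asIdeal)))))}) := by
    ext q
    rw [Set.mem_setOf_eq, fibExact_iff R S q.asIdeal m n φ hφ]
    simp only [Set.mem_inter_iff, Set.mem_iInter, Set.mem_setOf_eq, Finset.mem_range]
    constructor
    · rintro ⟨h1, h2, h3⟩
      exact ⟨fun i hi => h1 i hi, h2, h3⟩
    · rintro ⟨h1, h2, h3⟩
      exact ⟨fun i hi => h1 i hi, h2, h3⟩
  rw [hset]
  refine IsOpen.inter ?_ (IsOpen.inter ?_ ?_)
  · refine isOpen_biInter_finset fun i hi => ?_
    exact isOpen_setOf_ker_eq_range (φ i) (φ (i + 1)) (hφ i (Finset.mem_range.1 hi))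
  · exact isOpen_setOf_injective (φ m)
  · exact isOpen_setOf_flat_coker (R := R) (φ 0)

end Groth.Agent.Lib.Helper14.LCF.FibExact
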