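/-
Helper14 library (LCF): slicing a module by a lift of a fibrewise regular sequence
(EGA IV 11.3.8), module form.
-/
import Groth.Agent.Lib.Helper14.LCF.SliceSeq
import Groth.Agent.Lib.Helper9.FiberAss

set_option autoImplicit false
set_option linter.style.haveILetI false
universe u
open TensorProduct MvPolynomial

namespace Groth.Agent.Lib.Helper14.LCF

section ModConseq
variable {A C : Type u} [CommRing A] [CommRing C] [Algebra A C] {n : ℕ} (gs : Fin n → C)

/-- consequences of flatness of a `C`-module `W` over `A[X₁,…,Xₙ]` (`Xᵢ ↦ gs i`). -/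
theorem regular_and_flat_quot_of_flat_mvPolynomial_module (W : Type u) [AddCommGroup W]
    [Module C W] [Module A W] [IsScalarTower A C W]
    (h : letI := mvPolyModule A gs W; Module.Flat (MvPolynomial (Fin n) A) W) :
    RingTheory.Sequence.IsWeaklyRegular W (List.ofFn gs) ∧
      Module.Flat A (W ⧸ (Ideal.span (Set.range gs) • (⊤ : Submodule C W))) := by
  letI aPC := mvPolyAlgebra A gs
  haveI := mvPolyAlgebra_isScalarTower A gs
  letI mPW := mvPolyModule A gs W
  haveI : IsScalarTower (MvPolynomial (Fin n) A) C W :=
    IsScalarTower.of_algebraMap_smul fun r w => rfl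
  haveI : IsScalarTower A (MvPolynomial (Fin n) A) W := by
    refine IsScalarTower.of_algebraMap_smul fun a w => ?_
    change MvPolynomial.aeval gs (MvPolynomial.C a) • w = a • w
    rw [MvPolynomial.aeval_C, algebraMap_smul]
  haveI := h
  have hX : ∀ i, algebraMap (MvPolynomial (Fin n) A) C (X i) = gs i := by
    intro i
    change MvPolynomial.aeval gs (X i) = gs i
    rw [MvPolynomial.aeval_X]
  constructor
  · have h1 : RingTheory.Sequence.IsWeaklyRegular (W ⊗[MvPolynomial (Fin n) A] MvPolynomial (Fin n) A)
        (List.ofFn fun i : Fin n => (X i : MvPolynomial (Fin n) A)) :=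
      (isWeaklyRegular_X A n).isWeaklyRegular_lTensor (M₂ := W)
    have h2 : RingTheory.Sequence.IsWeaklyRegular W
        (List.ofFn fun i : Fin n => (X i : MvPolynomial (Fin n) A)) :=
      ((TensorProduct.rid (MvPolynomial (Fin n) A) W).isWeaklyRegular_congr _).mp h1
    have h3 := (RingTheory.Sequence.isWeaklyRegular_map_algebraMap_iff C W _).mpr h2
    rw [List.map_ofFn] at h3
    have : ((algebraMap (MvPolynomial (Fin n) A) C) ∘ fun i : Fin n =>
        (X i : MvPolynomial (Fin n) A)) = gs := by
      ext i
      exact hX i
    rwa [this] at h3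
  · set IR : Ideal (MvPolynomial (Fin n) A) :=
      Ideal.span (Set.range (X : Fin n → MvPolynomial (Fin n) A)) with hIR
    haveI h1 : Module.Flat (MvPolynomial (Fin n) A ⧸ IR)
        (W ⧸ (IR • (⊤ : Submodule (MvPolynomial (Fin n) A) W))) :=
      flat_quot_smul_top' _
    haveI h2 : Module.Flat A (MvPolynomial (Fin n) A ⧸ IR) := by
      have hs : Function.Surjective
          (aeval (fun _ : Fin n => (0 : A)) : MvPolynomial (Fin n) A →ₐ[A] A) := by
        intro a
        exact ⟨MvPolynomial.C a, by simp⟩
      have e1 := Ideal.quotientKerAlgEquivOfSurjective hs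
      have e2 : (MvPolynomial (Fin n) A ⧸ IR) ≃ₐ[A] (MvPolynomial (Fin n) A ⧸
          RingHom.ker (aeval (fun _ : Fin n => (0 : A)) : MvPolynomial (Fin n) A →ₐ[A] A)) :=
        Ideal.quotientEquivAlgOfEq A (ker_aeval_zero A n).symm
      exact Module.Flat.of_linearEquiv (e2.trans e1).toLinearEquiv
    haveI h3 : Module.Flat A (W ⧸ (IR • (⊤ : Submodule (MvPolynomial (Fin n) A) W))) :=
      Module.Flat.trans A (MvPolynomial (Fin n) A ⧸ IR) _
    have hmap : IR.map (algebraMap (MvPolynomial (Fin n) A) C) = Ideal.span (Set.range gs) := by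
      rw [hIR, Ideal.map_span, ← Set.range_comp]
      congr 2
      ext i
      exact hX i
    have hcar : (IR • (⊤ : Submodule (MvPolynomial (Fin n) A) W)).restrictScalars A =
        (Ideal.span (Set.range gs) • (⊤ : Submodule C W)).restrictScalars A := by
      ext w
      simp only [Submodule.restrictScalars_mem]
      rw [← hmap, mem_map_smul_top_iff]
    let e : (W ⧸ (IR • (⊤ : Submodule (MvPolynomial (Fin n) A) W))) ≃ₗ[A]
        (W ⧸ (Ideal.span (Set.range gs) • (⊤ : Submodule C W))) :=
      ((Submodule.Quotient.restrictScalarsEquiv A _).symm.trans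
        (Submodule.quotEquivOfEq _ _ hcar)).trans (Submodule.Quotient.restrictScalarsEquiv A _)
    exact Module.Flat.of_linearEquiv e.symm

end ModConseq

section Fibre
variable (A : Type u) {B : Type u} [CommRing A] [CommRing B] [Algebra A B]
  (M : Type u) [AddCommGroup M] [Module B M] [Module A M] [IsScalarTower A B M]
  (q : Ideal B) [q.IsPrime]

/-- `m ↦ m ⊗ 1`, as a `B`-linear map `M ⟶ M ⊗_A κ(p)`. -/
noncomputable def toFib : M →ₗ[B] M ⊗[A] (q.comap (algebraMap A B)).ResidueField where
  toFun m := m ⊗ₜ 1
  map_add' := fun a b => add_tmul a b 1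
  map_smul' := fun b m => (smul_tmul' b m 1).symm

/-- the localization of `toFib` at `q`. -/
noncomputable def locFib : LocalizedModule q.primeCompl M →ₗ[B]
    LocalizedModule q.primeCompl (M ⊗[A] (q.comap (algebraMap A B)).ResidueField) :=
  IsLocalizedModule.map q.primeCompl (LocalizedModule.mkLinearMap q.primeCompl M)
    (LocalizedModule.mkLinearMap q.primeCompl _) (toFib A M q)

theorem locFib_mk (m : M) (t : q.primeCompl) :
    locFib A M q (LocalizedModule.mk m t) =
      LocalizedModule.mk (m ⊗ₜ[A] (1 : (q.comap (algebraMap A B)).ResidueField)) t :=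
  IsLocalizedModule.map_LocalizedModules _ _ _ _

variable {A} in
theorem algebraMap_mem_primeCompl {s : A} (hs : s ∉ q.comap (algebraMap A B)) :
    algebraMap A B s ∈ q.primeCompl := fun h => hs h

theorem exists_smul_eq_tmul_one (z : M ⊗[A] (q.comap (algebraMap A B)).ResidueField) :
    ∃ (s : A) (_ : s ∉ q.comap (algebraMap A B)) (m : M),
      algebraMap A B s • z = m ⊗ₜ[A] (1 : (q.comap (algebraMap A B)).ResidueField) := by
  induction z using TensorProduct.induction_on with
  | zero => exact ⟨1, (q.comap (algebraMap A B)).primeCompl.one_mem, 0, by simp⟩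
  | tmul m c =>
    obtain ⟨x, rfl⟩ := IsLocalRing.residue_surjective c
    obtain ⟨⟨a, s⟩, rfl⟩ := IsLocalization.mk'_surjective (q.comap (algebraMap A B)).primeCompl x
    refine ⟨s, s.2, a • m, ?_⟩
    have h1 : algebraMap A (q.comap (algebraMap A B)).ResidueField (s : A) =
        IsLocalRing.residue _ (algebraMap A (Localization.AtPrime (q.comap (algebraMap A B))) s) :=
      rfl
    have h2 : algebraMap A (q.comap (algebraMap A B)).ResidueField a =
        IsLocalRing.residue _ (algebraMap A (Localization.AtPrime (q.comap (algebraMap A B))) a) :=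
      rfl
    have h3 : (s : A) • (IsLocalRing.residue (Localization.AtPrime (q.comap (algebraMap A B))))
        (IsLocalization.mk' (Localization.AtPrime (q.comap (algebraMap A B))) a s) =
        a • (1 : (q.comap (algebraMap A B)).ResidueField) := by
      rw [Algebra.smul_def, Algebra.smul_def, mul_one, h1, h2, ← map_mul,
        IsLocalization.mul_mk'_eq_mk'_of_mul, IsLocalization.mk'_mul_cancel_left]
    calc algebraMap A B (s : A) • m ⊗ₜ[A] (IsLocalRing.residue
          (Localization.AtPrime (q.comap (algebraMap A B))))
          (IsLocalization.mk' (Localization.AtPrime (q.comap (algebraMap A B))) a s)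
        = ((s : A) • m) ⊗ₜ[A] (IsLocalRing.residue
          (Localization.AtPrime (q.comap (algebraMap A B))))
          (IsLocalization.mk' (Localization.AtPrime (q.comap (algebraMap A B))) a s) := by
          rw [TensorProduct.smul_tmul', algebraMap_smul]
      _ = m ⊗ₜ[A] ((s : A) • (IsLocalRing.residue
          (Localization.AtPrime (q.comap (algebraMap A B))))
          (IsLocalization.mk' (Localization.AtPrime (q.comap (algebraMap A B))) a s)) :=
          TensorProduct.smul_tmul _ _ _
      _ = m ⊗ₜ[A] (a • (1 : (q.comap (algebraMap A B)).ResidueField)) := by rw [h3]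
      _ = (a • m) ⊗ₜ[A] (1 : (q.comap (algebraMap A B)).ResidueField) :=
          (TensorProduct.smul_tmul _ _ _).symm
  | add z₁ z₂ h₁ h₂ =>
    obtain ⟨s₁, hs₁, m₁, e₁⟩ := h₁
    obtain ⟨s₂, hs₂, m₂, e₂⟩ := h₂
    refine ⟨s₁ * s₂, (q.comap (algebraMap A B)).primeCompl.mul_mem hs₁ hs₂, s₂ • m₁ + s₁ • m₂, ?_⟩
    calc algebraMap A B (s₁ * s₂) • (z₁ + z₂)
        = algebraMap A B s₂ • (algebraMap A B s₁ • z₁) +
            algebraMap A B s₁ • (algebraMap A B s₂ • z₂) := by
          rw [smul_add, map_mul, ← mul_smul, ← mul_smul, mul_comm]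
      _ = (s₂ • m₁ + s₁ • m₂) ⊗ₜ[A] (1 : (q.comap (algebraMap A B)).ResidueField) := by
          rw [e₁, e₂, TensorProduct.add_tmul, TensorProduct.smul_tmul', TensorProduct.smul_tmul',
            algebraMap_smul, algebraMap_smul]

theorem locFib_surjective : Function.Surjective (locFib A M q) := by
  intro y
  induction y using LocalizedModule.induction_on with
  | h z t =>
    obtain ⟨s, hs, m, e⟩ := exists_smul_eq_tmul_one A M q z
    refine ⟨LocalizedModule.mk m (⟨algebraMap A B s, algebraMap_mem_primeCompl q hs⟩ * t), ?_⟩
    rw [locFib_mk, ← e]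
    exact LocalizedModule.mk_cancel_common_left ⟨algebraMap A B s, _⟩ t z

theorem mk_mem_map_smul_top {x : M} (hx : x ∈ (q.comap (algebraMap A B)) • (⊤ : Submodule A M))
    (t : q.primeCompl) :
    (LocalizedModule.mk x t : LocalizedModule q.primeCompl M) ∈
      ((q.comap (algebraMap A B)).map (algebraMap A B)) •
        (⊤ : Submodule B (LocalizedModule q.primeCompl M)) := by
  refine Submodule.smul_induction_on hx ?_ ?_
  · intro a ha m _
    have : (LocalizedModule.mk (a • m) t : LocalizedModule q.primeCompl M) =
        algebraMap A B a • LocalizedModule.mk m t := by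
      rw [LocalizedModule.smul'_mk, algebraMap_smul]
    rw [this]
    exact Submodule.smul_mem_smul (Ideal.mem_map_of_mem _ ha) Submodule.mem_top
  · intro x y hx hy
    have : (LocalizedModule.mk (x + y) t : LocalizedModule q.primeCompl M) =
        LocalizedModule.mk x t + LocalizedModule.mk y t := by
      rw [LocalizedModule.mk_add_mk]
      rw [← LocalizedModule.mk_cancel_common_left t t (x + y), smul_add]
    rw [this]
    exact add_mem hx hy

theorem mem_of_locFib_eq_zero (w : LocalizedModule q.primeCompl M) (hw : locFib A M q w = 0) :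
    w ∈ ((q.comap (algebraMap A B)).map (algebraMap A B)) •
        (⊤ : Submodule B (LocalizedModule q.primeCompl M)) := by
  induction w using LocalizedModule.induction_on with
  | h m t =>
    rw [locFib_mk, ← LocalizedModule.zero_mk t, LocalizedModule.mk_eq] at hw
    obtain ⟨t', ht'⟩ := hw
    rw [smul_zero, smul_zero] at ht'
    have h1 : (((t' * t : q.primeCompl) : B) • m) ⊗ₜ[A]
        (1 : (q.comap (algebraMap A B)).ResidueField) = 0 := by
      rw [← TensorProduct.smul_tmul']
      simpa [Submonoid.smul_def, mul_smul] using ht'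
    have h2 : (1 : (q.comap (algebraMap A B)).ResidueField) ⊗ₜ[A]
        (((t' * t : q.primeCompl) : B) • m) = 0 := by
      have := congrArg (TensorProduct.comm A M _) h1
      simpa using this
    obtain ⟨r, hr, hrm⟩ := Groth.Agent.Lib.Helper9.FiberAss.exists_smul_mem_of_one_tmul_eq_zero
      (q.comap (algebraMap A B)) M h2
    have h3 := mk_mem_map_smul_top A M q hrm
      (⟨algebraMap A B r, algebraMap_mem_primeCompl q hr⟩ * (t' * t) * t)
    have h4 : (LocalizedModule.mk (r • ((t' * t : q.primeCompl) : B) • m)
        (⟨algebraMap A B r, algebraMap_mem_primeCompl q hr⟩ * (t' * t) * t) :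
          LocalizedModule q.primeCompl M) = LocalizedModule.mk m t := by
      rw [← algebraMap_smul B r, ← mul_smul]
      exact LocalizedModule.mk_cancel_common_left
        (⟨algebraMap A B r, algebraMap_mem_primeCompl q hr⟩ * (t' * t)) t m
    rwa [h4] at h3

theorem locFib_eq_zero_of_mem (w : LocalizedModule q.primeCompl M)
    (hw : w ∈ ((q.comap (algebraMap A B)).map (algebraMap A B)) •
        (⊤ : Submodule B (LocalizedModule q.primeCompl M))) : locFib A M q w = 0 := by
  have hann : ∀ a ∈ q.comap (algebraMap A B),
      ∀ y : LocalizedModule q.primeCompl (M ⊗[A] (q.comap (algebraMap A B)).ResidueField),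
        algebraMap A B a • y = 0 := by
    intro a ha y
    induction y using LocalizedModule.induction_on with
    | h z t =>
      rw [LocalizedModule.smul'_mk]
      have : algebraMap A B a • z = 0 := by
        rw [algebraMap_smul]
        induction z using TensorProduct.induction_on with
        | zero => simp
        | tmul m c =>
          rw [TensorProduct.smul_tmul', TensorProduct.smul_tmul, Algebra.smul_def,
            Ideal.algebraMap_residueField_eq_zero.mpr ha, zero_mul, TensorProduct.tmul_zero]
        | add z₁ z₂ h₁ h₂ => rw [smul_add, h₁, h₂, add_zero]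
      rw [this, LocalizedModule.zero_mk]
  have hle : (q.comap (algebraMap A B)).map (algebraMap A B) ≤
      Module.annihilator B
        (LocalizedModule q.primeCompl (M ⊗[A] (q.comap (algebraMap A B)).ResidueField)) := by
    rw [Ideal.map_le_iff_le_comap]
    intro a ha
    rw [Ideal.mem_comap, Module.mem_annihilator]
    exact hann a ha
  refine Submodule.smul_induction_on hw ?_ ?_
  · intro b hb w' _
    rw [map_smul]
    exact Module.mem_annihilator.mp (hle hb) _
  · intro x y hx hy
    rw [map_add, hx, hy, add_zero]

/-- transfer of membership: `φ w ∈ J F` implies `w ∈ (pB + J) W`. -/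
theorem mem_sup_smul_of_locFib_mem (J : Ideal B) (w : LocalizedModule q.primeCompl M)
    (hw : locFib A M q w ∈ J • (⊤ : Submodule B
      (LocalizedModule q.primeCompl (M ⊗[A] (q.comap (algebraMap A B)).ResidueField)))) :
    w ∈ ((q.comap (algebraMap A B)).map (algebraMap A B) ⊔ J) •
        (⊤ : Submodule B (LocalizedModule q.primeCompl M)) := by
  have h1 : J • (⊤ : Submodule B
      (LocalizedModule q.primeCompl (M ⊗[A] (q.comap (algebraMap A B)).ResidueField))) =
      Submodule.map (locFib A M q) (J • (⊤ : Submodule B (LocalizedModule q.primeCompl M))) := by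
    rw [Submodule.map_smul'', Submodule.map_top,
      LinearMap.range_eq_top.mpr (locFib_surjective A M q)]
  rw [h1] at hw
  obtain ⟨w', hw', e⟩ := hw
  have h2 : locFib A M q (w - w') = 0 := by rw [map_sub, e, sub_self]
  have h3 := mem_of_locFib_eq_zero A M q _ h2
  rw [Submodule.sup_smul]
  have : w = (w - w') + w' := by abel
  rw [this]
  exact Submodule.add_mem_sup h3 hw'

theorem locFib_mem_of_mem_sup_smul (J : Ideal B) (w : LocalizedModule q.primeCompl M)
    (hw : w ∈ ((q.comap (algebraMap A B)).map (algebraMap A B) ⊔ J) •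
        (⊤ : Submodule B (LocalizedModule q.primeCompl M))) :
    locFib A M q w ∈ J • (⊤ : Submodule B
      (LocalizedModule q.primeCompl (M ⊗[A] (q.comap (algebraMap A B)).ResidueField))) := by
  rw [Submodule.sup_smul] at hw
  obtain ⟨x, hx, y, hy, rfl⟩ := Submodule.mem_sup.mp hw
  rw [map_add, locFib_eq_zero_of_mem A M q x hx, zero_add]
  refine Submodule.smul_induction_on hy ?_ ?_
  · intro b hb w' _
    rw [map_smul]
    exact Submodule.smul_mem_smul hb Submodule.mem_top
  · intro x y hx hy
    rw [map_add]
    exact add_mem hx hy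

end Fibre

section Main
variable {A B : Type u} [CommRing A] [CommRing B] [Algebra A B] [Algebra.FinitePresentation A B]
  (M : Type u) [AddCommGroup M] [Module B M] [Module A M] [IsScalarTower A B M]
  [Module.FinitePresentation B M] (q : Ideal B) [q.IsPrime]

theorem image_get_lt {α : Type*} (l : List α) (k : Fin l.length) :
    l.get '' {j | j < k} = {b | b ∈ l.take k} := by
  ext b
  simp only [Set.mem_image, Set.mem_setOf_eq, List.mem_take_iff_getElem]
  constructor
  · rintro ⟨j, hj, rfl⟩
    have : (j : ℕ) < k := hj
    exact ⟨j, by have := j.2; omega, rfl⟩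
  · rintro ⟨i, hi, rfl⟩
    have hi' : i < l.length := by omega
    refine ⟨⟨i, hi'⟩, ?_, rfl⟩
    show (⟨i, hi'⟩ : Fin l.length) < k
    rw [Fin.lt_def]
    show i < k
    omega

/-- core: a sequence in `q`, weakly regular on the localized fibre module, is weakly regular on the
`A`-flat module `M_q`, and the quotient is `A`-flat. -/
theorem weaklyRegular_and_flat_quot (g : List B) (hg : ∀ b ∈ g, b ∈ q)
    (hflat : Module.Flat A (LocalizedModule q.primeCompl M))
    (hreg : RingTheory.Sequence.IsWeaklyRegular
      (LocalizedModule q.primeCompl (M ⊗[A] (q.comap (algebraMap A B)).ResidueField)) g) :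
    RingTheory.Sequence.IsWeaklyRegular (LocalizedModule q.primeCompl M) g ∧
      Module.Flat A (LocalizedModule q.primeCompl M ⧸
        (Ideal.ofList g • (⊤ : Submodule B (LocalizedModule q.primeCompl M)))) := by
  have hreg' := (RingTheory.Sequence.isWeaklyRegular_iff _ _).mp hreg
  have hgs : ∀ k : Fin g.length, g.get k ∈ q := fun k => hg _ (List.get_mem g k)
  have hr : ∀ (k : Fin g.length) (w : LocalizedModule q.primeCompl M),
      g.get k • w ∈ ((q.comap (algebraMap A B)).map (algebraMap A B) ⊔
        Ideal.span (g.get '' {j : Fin g.length | j < k})) •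
          (⊤ : Submodule B (LocalizedModule q.primeCompl M)) →
      w ∈ ((q.comap (algebraMap A B)).map (algebraMap A B) ⊔
        Ideal.span (g.get '' {j : Fin g.length | j < k})) •
          (⊤ : Submodule B (LocalizedModule q.primeCompl M)) := by
    intro k w hw
    rw [image_get_lt] at hw ⊢
    have h1 := locFib_mem_of_mem_sup_smul A M q _ _ hw
    rw [map_smul] at h1
    have h2 := hreg' k k.2
    have h3 : (Submodule.Quotient.mk (locFib A M q w) :
        LocalizedModule q.primeCompl (M ⊗[A] (q.comap (algebraMap A B)).ResidueField) ⧸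
          (Ideal.ofList (g.take k) • (⊤ : Submodule B _))) = 0 := by
      apply h2
      show g[(k : ℕ)] • Submodule.Quotient.mk (locFib A M q w) = g[(k : ℕ)] • 0
      rw [smul_zero, ← Submodule.Quotient.mk_smul]
      exact (Submodule.Quotient.mk_eq_zero _).mpr h1
    exact mem_sup_smul_of_locFib_mem A M q _ _ ((Submodule.Quotient.mk_eq_zero _).mp h3)
  have h0 := flat_mvPolynomial_of_regular_fibre (A := A) q g.get
    (LocalizedModule.mkLinearMap q.primeCompl M) hgs hr
  obtain ⟨h1, h2⟩ := regular_and_flat_quot_of_flat_mvPolynomial_module (A := A) g.get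
    (LocalizedModule q.primeCompl M) h0
  rw [List.ofFn_get] at h1
  rw [Set.range_list_get] at h2
  exact ⟨h1, h2⟩

/-- elements `x / t` with `x ∈ J M` lie in `J M_q`. -/
theorem mk_mem_smul_top (J : Ideal B) {x : M} (hx : x ∈ J • (⊤ : Submodule B M))
    (t : q.primeCompl) :
    (LocalizedModule.mk x t : LocalizedModule q.primeCompl M) ∈
      J • (⊤ : Submodule B (LocalizedModule q.primeCompl M)) := by
  refine Submodule.smul_induction_on hx ?_ ?_
  · intro b hb m _
    have : (LocalizedModule.mk (b • m) t : LocalizedModule q.primeCompl M) =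
        b • LocalizedModule.mk m t := by
      rw [LocalizedModule.smul'_mk]
    rw [this]
    exact Submodule.smul_mem_smul hb Submodule.mem_top
  · intro x y hx hy
    have : (LocalizedModule.mk (x + y) t : LocalizedModule q.primeCompl M) =
        LocalizedModule.mk x t + LocalizedModule.mk y t := by
      rw [LocalizedModule.mk_add_mk]
      rw [← LocalizedModule.mk_cancel_common_left t t (x + y), smul_add]
    rw [this]
    exact add_mem hx hy

/-- the localization of the quotient map `M ⟶ M / J M`. -/
noncomputable def locQuot (J : Ideal B) : LocalizedModule q.primeCompl M →ₗ[B]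
    LocalizedModule q.primeCompl (M ⧸ (J • (⊤ : Submodule B M))) :=
  IsLocalizedModule.map q.primeCompl (LocalizedModule.mkLinearMap q.primeCompl M)
    (LocalizedModule.mkLinearMap q.primeCompl _) (Submodule.mkQ (J • (⊤ : Submodule B M)))

theorem locQuot_mk (J : Ideal B) (m : M) (t : q.primeCompl) :
    locQuot M q J (LocalizedModule.mk m t) =
      LocalizedModule.mk (Submodule.Quotient.mk m) t :=
  IsLocalizedModule.map_LocalizedModules _ _ _ _

theorem locQuot_surjective (J : Ideal B) : Function.Surjective (locQuot M q J) := by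
  intro y
  induction y using LocalizedModule.induction_on with
  | h z t =>
    obtain ⟨m, rfl⟩ := Submodule.Quotient.mk_surjective _ z
    exact ⟨LocalizedModule.mk m t, locQuot_mk M q J m t⟩

theorem ker_locQuot (J : Ideal B) : LinearMap.ker (locQuot M q J) =
    J • (⊤ : Submodule B (LocalizedModule q.primeCompl M)) := by
  apply le_antisymm
  · intro w hw
    rw [LinearMap.mem_ker] at hw
    induction w using LocalizedModule.induction_on with
    | h m t =>
      rw [locQuot_mk, ← LocalizedModule.zero_mk t, LocalizedModule.mk_eq] at hw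
      obtain ⟨t', ht'⟩ := hw
      rw [smul_zero, smul_zero] at ht'
      have h1 : ((t' * t : q.primeCompl) : B) • m ∈ J • (⊤ : Submodule B M) := by
        rw [← Submodule.Quotient.mk_eq_zero, Submodule.Quotient.mk_smul]
        simpa [Submonoid.smul_def, mul_smul] using ht'
      have h2 := mk_mem_smul_top M q J h1 ((t' * t) * t)
      have h3 : (LocalizedModule.mk (((t' * t : q.primeCompl) : B) • m) ((t' * t) * t) :
          LocalizedModule q.primeCompl M) = LocalizedModule.mk m t :=
        LocalizedModule.mk_cancel_common_left (t' * t) t m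
      rwa [h3] at h2
  · intro w hw
    rw [LinearMap.mem_ker]
    refine Submodule.smul_induction_on hw ?_ ?_
    · intro b hb w' _
      rw [map_smul]
      generalize locQuot M q J w' = y
      induction y using LocalizedModule.induction_on with
      | h z t =>
        obtain ⟨m, rfl⟩ := Submodule.Quotient.mk_surjective _ z
        rw [LocalizedModule.smul'_mk, ← Submodule.Quotient.mk_smul,
          (Submodule.Quotient.mk_eq_zero _).mpr (Submodule.smul_mem_smul hb Submodule.mem_top),
          LocalizedModule.zero_mk]
    · intro x y hx hy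
      rw [map_add, hx, hy, add_zero]

/-- `M_q / J M_q ≃ (M / J M)_q`, `A`-linearly. -/
noncomputable def quotLocEquiv (J : Ideal B) :
    (LocalizedModule q.primeCompl M ⧸ (J • (⊤ : Submodule B (LocalizedModule q.primeCompl M))))
      ≃ₗ[A] LocalizedModule q.primeCompl (M ⧸ (J • (⊤ : Submodule B M))) :=
  ((Submodule.quotEquivOfEq _ _ (ker_locQuot M q J).symm).trans
    ((locQuot M q J).quotKerEquivOfSurjective (locQuot_surjective M q J))).restrictScalars A

/-- **EGA IV 11.3.8, module form.** -/
theorem regular_and_flat_quotients (g : List B) (hg : ∀ b ∈ g, b ∈ q)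
    (hflat : Module.Flat A (LocalizedModule q.primeCompl M))
    (hreg : RingTheory.Sequence.IsRegular
      (LocalizedModule q.primeCompl (M ⊗[A] (q.comap (algebraMap A B)).ResidueField)) g) :
    RingTheory.Sequence.IsRegular (LocalizedModule q.primeCompl M) g ∧
      ∀ i ≤ g.length, Module.Flat A
        (LocalizedModule q.primeCompl (M ⧸ (Ideal.span {b | b ∈ g.take i} • (⊤ : Submodule B M)))) := by
  refine ⟨⟨(weaklyRegular_and_flat_quot M q g hg hflat hreg.toIsWeaklyRegular).1, ?_⟩, ?_⟩
  · intro htop
    apply hreg.top_ne_smul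
    have h1 : Submodule.map (locFib A M q) ⊤ = ⊤ := by
      rw [Submodule.map_top, LinearMap.range_eq_top.mpr (locFib_surjective A M q)]
    calc (⊤ : Submodule B (LocalizedModule q.primeCompl
          (M ⊗[A] (q.comap (algebraMap A B)).ResidueField)))
        = Submodule.map (locFib A M q) ⊤ := h1.symm
      _ = Submodule.map (locFib A M q) (Ideal.ofList g • ⊤) := congrArg _ htop
      _ = Ideal.ofList g • ⊤ := by rw [Submodule.map_smul'', h1]
  · intro i _
    have hsplit : g = g.take i ++ g.drop i := (List.take_append_drop i g).symm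
    have hregi : RingTheory.Sequence.IsWeaklyRegular
        (LocalizedModule q.primeCompl (M ⊗[A] (q.comap (algebraMap A B)).ResidueField))
        (g.take i) := by
      have h := hreg.toIsWeaklyRegular
      rw [hsplit, RingTheory.Sequence.isWeaklyRegular_append_iff] at h
      exact h.1
    have h2 := (weaklyRegular_and_flat_quot M q (g.take i)
      (fun b hb => hg b (List.mem_of_mem_take hb)) hflat hregi).2
    exact Module.Flat.of_linearEquiv (quotLocEquiv (A := A) M q (Ideal.ofList (g.take i))).symm

end Main

end Groth.Agent.Lib.Helper14.LCF
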