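/-
Helper14 library (LCF): a fibre local ring of depth ≥ 1 gives a fibrewise nonzerodivisor that can
be lifted (input for slicing).
-/
import Groth.Agent.Lib.Helper14.LCF.SliceSch
import Groth.Agent.Lib.Helper17.FibreStalkMap
import Groth.Prelude.Def_CAlg

set_option autoImplicit false
set_option linter.style.haveILetI false
universe u
open CategoryTheory CategoryTheory.Limits AlgebraicGeometry TensorProduct Opposite

namespace Groth.Agent.Lib.Helper14.LCF

open Groth.Agent.Lib.Helper17

/-- a local ring of depth `≥ 1` has a nonzerodivisor in its maximal ideal. -/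
theorem exists_regular_of_one_le_depth (R : Type u) [CommRing R] [IsLocalRing R]
    (h : 1 ≤ LocCoh.depth R R) :
    ∃ r ∈ IsLocalRing.maximalIdeal R, IsSMulRegular R r := by
  classical
  unfold LocCoh.depth LocCoh.idealDepth at h
  have hne : ¬ (IsLocalRing.maximalIdeal R • (⊤ : Submodule R R) = ⊤) := by
    rw [smul_eq_mul, Ideal.mul_top]
    exact Ideal.IsPrime.ne_top'
  rw [if_neg hne] at h
  by_contra hcon
  push_neg at hcon
  have : (⨆ (rs : List R) (_ : RingTheory.Sequence.IsWeaklyRegular R rs ∧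
      ∀ r ∈ rs, r ∈ IsLocalRing.maximalIdeal R), (rs.length : ℕ∞)) ≤ 0 := by
    refine iSup_le fun rs => iSup_le fun hrs => ?_
    cases rs with
    | nil => simp
    | cons r rs =>
      exfalso
      exact hcon r (hrs.2 r (List.mem_cons_self))
        ((RingTheory.Sequence.isWeaklyRegular_cons_iff R r rs).1 hrs.1).1
  have h2 := le_trans h this
  simp at h2

variable {X S : Scheme.{u}} (f : X ⟶ S)

/-- a nonzerodivisor in the maximal ideal of the local ring of the fibre lifts to an element of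
the maximal ideal of `O_{X,x}` that is regular modulo `𝔪_s O_{X,x}`. -/
theorem exists_lift_regular (s : S) (x₀ : f.fiber s)
    (h : 1 ≤ LocCoh.depth ↑((f.fiber s).presheaf.stalk x₀) ↑((f.fiber s).presheaf.stalk x₀)) :
    ∃ h' : X.presheaf.stalk (f.fiberι s x₀),
      h' ∈ IsLocalRing.maximalIdeal (X.presheaf.stalk (f.fiberι s x₀)) ∧
      ∀ w : X.presheaf.stalk (f.fiberι s x₀),
        h' * w ∈ Ideal.map (f.stalkMap (f.fiberι s x₀)).hom
          (IsLocalRing.maximalIdeal (S.presheaf.stalk (f (f.fiberι s x₀)))) →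
        w ∈ Ideal.map (f.stalkMap (f.fiberι s x₀)).hom
          (IsLocalRing.maximalIdeal (S.presheaf.stalk (f (f.fiberι s x₀)))) := by
  obtain ⟨r, hr, hreg⟩ := exists_regular_of_one_le_depth _ h
  obtain ⟨hsurj, hker⟩ := FibreStalkMap.stalkMap_fiberι f s x₀
  obtain ⟨h', rfl⟩ := hsurj r
  refine ⟨h', ?_, ?_⟩
  · by_contra hcon
    have hu : IsUnit h' := by
      by_contra hnu
      exact hcon ((IsLocalRing.mem_maximalIdeal _).2 hnu)
    exact (IsLocalRing.mem_maximalIdeal _).1 hr (hu.map _)
  · intro w hw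
    rw [← hker, RingHom.mem_ker] at hw ⊢
    rw [map_mul] at hw
    apply hreg
    show _ • _ = _ • (0 : ↑((f.fiber s).presheaf.stalk x₀))
    rw [smul_eq_mul, smul_eq_mul, mul_zero]
    exact hw

/-- **slicing, depth form**. -/
theorem exists_slice_of_depth [LocallyOfFinitePresentation f] (x : X)
    (hflat : (f.stalkMap x).hom.Flat)
    (hdepth : 1 ≤ LocCoh.depth ↑((f.fiber (f x)).presheaf.stalk (f.asFiber x))
      ↑((f.fiber (f x)).presheaf.stalk (f.asFiber x))) :
    ∃ (U : X.Opens) (hU : IsAffineOpen U) (hx : x ∈ U) (h' : Γ(X, U)),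
      h' ∈ nonZeroDivisors Γ(X, U) ∧
      X.presheaf.germ U x hx h' ∈ IsLocalRing.maximalIdeal ↑(X.presheaf.stalk x) ∧
      Flat (Spec.map (CommRingCat.ofHom (Ideal.Quotient.mk (Ideal.span {h'}))) ≫
        hU.fromSpec ≫ f) ∧
      LocallyOfFinitePresentation (Spec.map (CommRingCat.ofHom
        (Ideal.Quotient.mk (Ideal.span {h'}))) ≫ hU.fromSpec ≫ f) := by
  have main : ∀ z : X, (f.stalkMap z).hom.Flat →
      (∃ h' : X.presheaf.stalk z, h' ∈ IsLocalRing.maximalIdeal (X.presheaf.stalk z) ∧
        ∀ w : X.presheaf.stalk z,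
          h' * w ∈ Ideal.map (f.stalkMap z).hom
            (IsLocalRing.maximalIdeal (S.presheaf.stalk (f z))) →
          w ∈ Ideal.map (f.stalkMap z).hom
            (IsLocalRing.maximalIdeal (S.presheaf.stalk (f z)))) →
      ∃ (U : X.Opens) (hU : IsAffineOpen U) (hx : z ∈ U) (h' : Γ(X, U)),
        h' ∈ nonZeroDivisors Γ(X, U) ∧
        X.presheaf.germ U z hx h' ∈ IsLocalRing.maximalIdeal ↑(X.presheaf.stalk z) ∧
        Flat (Spec.map (CommRingCat.ofHom (Ideal.Quotient.mk (Ideal.span {h'}))) ≫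
          hU.fromSpec ≫ f) ∧
        LocallyOfFinitePresentation (Spec.map (CommRingCat.ofHom
          (Ideal.Quotient.mk (Ideal.span {h'}))) ≫ hU.fromSpec ≫ f) := by
    intro z hz ⟨h, hm, hreg⟩
    obtain ⟨U, hU, hx, h', e1, e2, e3, e4⟩ := exists_slice f z hz h hm hreg
    exact ⟨U, hU, hx, h', e2, e1 ▸ hm, e3, e4⟩
  have hfx : f.fiberι (f x) (f.asFiber x) = x := f.fiberι_asFiber x
  have hz := exists_lift_regular f (f x) (f.asFiber x) hdepth
  have key : ∀ z : X, z = x → (∃ h' : X.presheaf.stalk z,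
        h' ∈ IsLocalRing.maximalIdeal (X.presheaf.stalk z) ∧
        ∀ w : X.presheaf.stalk z,
          h' * w ∈ Ideal.map (f.stalkMap z).hom
            (IsLocalRing.maximalIdeal (S.presheaf.stalk (f z))) →
          w ∈ Ideal.map (f.stalkMap z).hom
            (IsLocalRing.maximalIdeal (S.presheaf.stalk (f z)))) →
      ∃ h' : X.presheaf.stalk x, h' ∈ IsLocalRing.maximalIdeal (X.presheaf.stalk x) ∧
        ∀ w : X.presheaf.stalk x,
          h' * w ∈ Ideal.map (f.stalkMap x).hom
            (IsLocalRing.maximalIdeal (S.presheaf.stalk (f x))) →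
          w ∈ Ideal.map (f.stalkMap x).hom
            (IsLocalRing.maximalIdeal (S.presheaf.stalk (f x))) := by
    intro z hz h
    subst hz
    exact h
  exact main x hflat (key _ hfx hz)

end Groth.Agent.Lib.Helper14.LCF
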