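/-
Helper14 library (ValInj): over a valuation ring `A`, with `B₀` a local ring which is a
localization of a finitely presented `A`-algebra, a map `u : N → M` of finite `B₀`-modules with
`M` flat over `A` which is injective modulo `𝔪_A` is injective with `A`-flat cokernel.

Ingredients: helper27's S2049 (finite flat modules over a valuation ring are finitely presented),
helper24's Stacks 046Y (`EssFPInj.injective_and_flat_coker`), and Noetherianity of the closed
fibre ring.
-/
import Mathlib
import Groth.Agent.S2049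
import Groth.Agent.Lib.Helper24.EssFPInj

set_option autoImplicit false
set_option maxHeartbeats 400000
set_option linter.style.haveILetI false
universe u

namespace Groth.Agent.Lib.Helper14.LCF.ValInj

/-- f.g. approximation of a submodule modulo an ideal with Noetherian quotient ring. -/
theorem exists_fg_le_sup_smul {R : Type*} [CommRing R] (I : Ideal R) [IsNoetherianRing (R ⧸ I)]
    {F : Type*} [AddCommGroup F] [Module R F] [Module.Finite R F] (K : Submodule R F) :
    ∃ K' : Submodule R F, K' ≤ K ∧ K'.FG ∧ K ≤ K' ⊔ I • ⊤ := by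
  classical
  let W : Submodule R (F ⧸ (I • ⊤ : Submodule R F)) := K.map (Submodule.mkQ _)
  have hsurj : Function.Surjective (algebraMap R (R ⧸ I)) := Ideal.Quotient.mk_surjective
  haveI : Module.Finite (R ⧸ I) (F ⧸ (I • ⊤ : Submodule R F)) :=
    Module.Finite.of_restrictScalars_finite R _ _
  haveI hNoeth : IsNoetherian (R ⧸ I) (F ⧸ (I • ⊤ : Submodule R F)) :=
    isNoetherian_of_isNoetherianRing_of_finite _ _
  obtain ⟨S', hS'⟩ := (isNoetherian_def.1 hNoeth) (Submodule.span (R ⧸ I) (W : Set _))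
  have h1 : Submodule.span R (S' : Set (F ⧸ (I • ⊤ : Submodule R F))) = W := by
    have := congrArg (Submodule.restrictScalars R) hS'
    rw [Submodule.restrictScalars_span R (R ⧸ I) hsurj,
      Submodule.restrictScalars_span R (R ⧸ I) hsurj, Submodule.span_eq] at this
    exact this
  have hex : ∀ y ∈ S', ∃ x ∈ K, Submodule.mkQ (I • ⊤ : Submodule R F) x = y := fun y hy => by
    have : y ∈ W := h1 ▸ Submodule.subset_span hy
    exact this
  choose! g hgK hg using hex
  refine ⟨Submodule.span R (g '' (S' : Set _)),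
    Submodule.span_le.2 (by rintro _ ⟨y, hy, rfl⟩; exact hgK y hy),
    Submodule.fg_span (S'.finite_toSet.image g), ?_⟩
  intro x hx
  have hxW : Submodule.mkQ (I • ⊤ : Submodule R F) x ∈ W := Submodule.mem_map_of_mem hx
  have h2 : Submodule.span R (S' : Set (F ⧸ (I • ⊤ : Submodule R F))) =
      (Submodule.span R (g '' (S' : Set _))).map (Submodule.mkQ _) := by
    rw [Submodule.map_span, Set.image_image]
    congr 1
    ext y
    constructor
    · intro hy
      exact ⟨y, hy, hg y hy⟩
    · rintro ⟨z, hz, rfl⟩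
      show (I • ⊤ : Submodule R F).mkQ (g z) ∈ (S' : Set _)
      rw [hg z hz]
      exact hz
  rw [← h1, h2] at hxW
  obtain ⟨x', hx', hxx'⟩ := hxW
  have hdiff : x - x' ∈ (I • ⊤ : Submodule R F) := by
    rw [← Submodule.Quotient.mk_eq_zero, Submodule.Quotient.mk_sub]
    have : Submodule.Quotient.mk (p := (I • ⊤ : Submodule R F)) x' =
        Submodule.Quotient.mk (p := (I • ⊤ : Submodule R F)) x := hxx'
    rw [this, sub_self]
  have : x = x' + (x - x') := by abel
  rw [this]
  exact Submodule.add_mem_sup hx' hdiff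

set_option maxHeartbeats 1600000 in
/-- The valuation-ring case of the fibrewise injectivity criterion, over a local ring `B₀` which is
a localization of a finitely presented algebra. -/
theorem main {A S₀ B₀ : Type u} [CommRing A] [IsDomain A] [ValuationRing A]
    [CommRing B₀] [IsLocalRing B₀] [Algebra A B₀] [IsLocalHom (algebraMap A B₀)]
    [Algebra.EssFiniteType A B₀]
    [CommRing S₀] [Algebra A S₀] [Algebra S₀ B₀] [IsScalarTower A S₀ B₀]
    [Algebra.FinitePresentation A S₀] (T : Submonoid S₀) [IsLocalization T B₀]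
    {N M : Type u} [AddCommGroup N] [Module B₀ N] [Module A N] [IsScalarTower A B₀ N]
    [Module.Finite B₀ N]
    [AddCommGroup M] [Module B₀ M] [Module A M] [IsScalarTower A B₀ M] [Module.Finite B₀ M]
    [Module.Flat A M] (u : N →ₗ[B₀] M)
    (hu : ∀ x : N, u x ∈ (IsLocalRing.maximalIdeal A).map (algebraMap A B₀) •
        (⊤ : Submodule B₀ M) →
      x ∈ (IsLocalRing.maximalIdeal A).map (algebraMap A B₀) • (⊤ : Submodule B₀ N)) :
    Function.Injective u ∧ Module.Flat A (M ⧸ LinearMap.range u) := by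
  classical
  haveI : Module.FinitePresentation B₀ M := Groth.Agent.S2049.result (A := A) (B := B₀) (M := M)
  obtain ⟨I, hI⟩ : ∃ I : Ideal B₀, I = (IsLocalRing.maximalIdeal A).map (algebraMap A B₀) :=
    ⟨_, rfl⟩
  rw [← hI] at hu
  haveI : IsNoetherianRing (B₀ ⧸ I) := by
    rw [hI]
    haveI : IsNoetherianRing (A ⧸ IsLocalRing.maximalIdeal A) :=
      show IsNoetherianRing (IsLocalRing.ResidueField A) from inferInstance
    exact Algebra.EssFiniteType.isNoetherianRing (A ⧸ IsLocalRing.maximalIdeal A) _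
  obtain ⟨r, n, hn⟩ := Module.Finite.exists_fin (R := B₀) (M := N)
  let π₀ : (Fin r → B₀) →ₗ[B₀] N := Fintype.linearCombination B₀ n
  have hπ₀ : Function.Surjective π₀ := by
    rw [← LinearMap.range_eq_top, Fintype.range_linearCombination, hn]
  obtain ⟨K', hK'le, hK'fg, hK'⟩ := exists_fg_le_sup_smul I (LinearMap.ker π₀)
  haveI : Module.FinitePresentation B₀ ((Fin r → B₀) ⧸ K') :=
    Module.finitePresentation_of_surjective K'.mkQ K'.mkQ_surjective (by rwa [Submodule.ker_mkQ])
  let π : ((Fin r → B₀) ⧸ K') →ₗ[B₀] N := K'.liftQ π₀ hK'le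
  have hπ : Function.Surjective π := by
    intro y
    obtain ⟨x, rfl⟩ := hπ₀ y
    exact ⟨K'.mkQ x, rfl⟩
  let u' : ((Fin r → B₀) ⧸ K') →ₗ[B₀] M := u ∘ₗ π
  have hu' : ∀ x : (Fin r → B₀) ⧸ K', u' x ∈ I • (⊤ : Submodule B₀ M) →
      x ∈ I • (⊤ : Submodule B₀ ((Fin r → B₀) ⧸ K')) := by
    intro x hx
    have h1 : π x ∈ I • (⊤ : Submodule B₀ N) := hu _ hx
    obtain ⟨x₀, rfl⟩ := K'.mkQ_surjective x
    have h2 : π₀ x₀ ∈ I • (⊤ : Submodule B₀ N) := h1
    have h3 : I • (⊤ : Submodule B₀ N) = (I • (⊤ : Submodule B₀ (Fin r → B₀))).map π₀ := by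
      rw [Submodule.map_smul'', Submodule.map_top, LinearMap.range_eq_top.2 hπ₀]
    rw [h3] at h2
    obtain ⟨y, hy, hyx⟩ := h2
    have h4 : x₀ - y ∈ LinearMap.ker π₀ := by
      rw [LinearMap.mem_ker, map_sub, hyx, sub_self]
    obtain ⟨a, ha, b, hb, hab⟩ := Submodule.mem_sup.1 (hK' h4)
    have h5 : K'.mkQ x₀ = K'.mkQ (b + y) := by
      have : x₀ = a + (b + y) := by rw [← add_assoc, hab]; abel
      have ha0 : K'.mkQ a = 0 := by
        rw [Submodule.mkQ_apply]
        exact (Submodule.Quotient.mk_eq_zero K').2 ha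
      rw [this, map_add, ha0, zero_add]
    rw [h5]
    have h6 : I • (⊤ : Submodule B₀ ((Fin r → B₀) ⧸ K')) =
        (I • (⊤ : Submodule B₀ (Fin r → B₀))).map K'.mkQ := by
      rw [Submodule.map_smul'', Submodule.map_top, Submodule.range_mkQ]
    rw [h6]
    exact Submodule.mem_map_of_mem (Submodule.add_mem _ hb hy)
  rw [hI] at hu'
  obtain ⟨hinj, hflat⟩ := Groth.Agent.Lib.Helper24.EssFPInj.injective_and_flat_coker
    (R := A) (S := B₀) (S₀ := S₀) T u' hu'
  refine ⟨fun a b hab => ?_, ?_⟩
  · obtain ⟨a', rfl⟩ := hπ a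
    obtain ⟨b', rfl⟩ := hπ b
    exact congrArg π (hinj hab)
  · have : LinearMap.range u' = LinearMap.range u := by
      rw [LinearMap.range_comp, LinearMap.range_eq_top.2 hπ, Submodule.map_top]
    rw [← this]
    exact hflat

set_option maxHeartbeats 1600000 in
/-- Transport along a surjection `ψ : B₀ → B` of `A`-algebras. -/
theorem of_surjective {A B S₀ B₀ : Type u} [CommRing A] [IsDomain A] [ValuationRing A]
    [CommRing B] [Algebra A B]
    [CommRing B₀] [IsLocalRing B₀] [Algebra A B₀] [IsLocalHom (algebraMap A B₀)]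
    [Algebra.EssFiniteType A B₀]
    [CommRing S₀] [Algebra A S₀] [Algebra S₀ B₀] [IsScalarTower A S₀ B₀]
    [Algebra.FinitePresentation A S₀] (T : Submonoid S₀) [IsLocalization T B₀]
    (ψ : B₀ →ₐ[A] B) (hψ : Function.Surjective ψ)
    {N M : Type u} [AddCommGroup N] [Module B N] [Module A N] [IsScalarTower A B N]
    [Module.Finite B N]
    [AddCommGroup M] [Module B M] [Module A M] [IsScalarTower A B M] [Module.Finite B M]
    [Module.Flat A M] (u : N →ₗ[B] M)
    (hu : ∀ x : N, u x ∈ IsLocalRing.maximalIdeal A • (⊤ : Submodule A M) →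
      x ∈ IsLocalRing.maximalIdeal A • (⊤ : Submodule A N)) :
    Function.Injective u ∧ Module.Flat A (M ⧸ LinearMap.range u) := by
  classical
  letI algB : Algebra B₀ B := ψ.toRingHom.toAlgebra
  haveI towB : IsScalarTower A B₀ B := IsScalarTower.of_algebraMap_eq (fun a => (ψ.commutes a).symm)
  letI mN : Module B₀ N := Module.compHom N ψ.toRingHom
  letI mM : Module B₀ M := Module.compHom M ψ.toRingHom
  haveI tN : IsScalarTower B₀ B N := ⟨fun b₀ b x => by
    show (ψ b₀ * b) • x = ψ b₀ • (b • x)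
    rw [mul_smul]⟩
  haveI tM : IsScalarTower B₀ B M := ⟨fun b₀ b x => by
    show (ψ b₀ * b) • x = ψ b₀ • (b • x)
    rw [mul_smul]⟩
  haveI tAN : IsScalarTower A B₀ N := ⟨fun a b₀ x => by
    show ψ (a • b₀) • x = a • (ψ b₀ • x)
    rw [map_smul, smul_assoc]⟩
  haveI tAM : IsScalarTower A B₀ M := ⟨fun a b₀ x => by
    show ψ (a • b₀) • x = a • (ψ b₀ • x)
    rw [map_smul, smul_assoc]⟩
  haveI finB : Module.Finite B₀ B := Module.Finite.of_surjective (Algebra.linearMap B₀ B) hψ
  haveI : Module.Finite B₀ N := Module.Finite.trans B N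
  haveI : Module.Finite B₀ M := Module.Finite.trans B M
  let u₀ : N →ₗ[B₀] M := u.restrictScalars B₀
  have hmem : ∀ {X : Type u} [AddCommGroup X] [Module A X] [Module B₀ X] [IsScalarTower A B₀ X]
      (x : X), x ∈ (IsLocalRing.maximalIdeal A).map (algebraMap A B₀) • (⊤ : Submodule B₀ X) ↔
        x ∈ IsLocalRing.maximalIdeal A • (⊤ : Submodule A X) := by
    intro X _ _ _ _ x
    rw [← Submodule.restrictScalars_mem A, Ideal.smul_restrictScalars,
      Submodule.restrictScalars_top]
  obtain ⟨hinj, hflat⟩ := main (A := A) (S₀ := S₀) (B₀ := B₀) T u₀ (fun x hx =>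
    (hmem x).2 (hu x ((hmem (u x)).1 hx)))
  refine ⟨hinj, ?_⟩
  have hrange : (LinearMap.range u₀).restrictScalars A = (LinearMap.range u).restrictScalars A := by
    ext y
    simp only [Submodule.restrictScalars_mem, LinearMap.mem_range]
    exact Iff.rfl
  let e : (M ⧸ LinearMap.range u₀) ≃ₗ[A] (M ⧸ LinearMap.range u) :=
    (Submodule.Quotient.restrictScalarsEquiv A (LinearMap.range u₀)).symm.trans
      ((Submodule.quotEquivOfEq _ _ hrange).trans
        (Submodule.Quotient.restrictScalarsEquiv A (LinearMap.range u)))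
  exact Module.Flat.of_linearEquiv e.symm

end Groth.Agent.Lib.Helper14.LCF.ValInj
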